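import Mathlib
import Cfsg.Prelude.Def_Transfer
import Cfsg.Agent.Coprime.Action
import Cfsg.Agent.Coprime.Centralize
import Cfsg.Agent.PGroups.Basic

/-!
Generation of a coprime group by the centralizers of the hyperplanes of an elementary abelian group.
No solvability is needed.
-/

set_option autoImplicit false
set_option linter.style.haveILetI false

namespace Cfsg.Agent.H47

open Subgroup

/-- An abelian group acted on by `(ℤ/p)²`: `p`-th powers are products of fixed points. -/
theorem pow_mem_closure_fixed {p : ℕ} [Fact p.Prime] {V : Type*} [CommGroup V]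
    (σ : ZMod p × ZMod p → (V →* V)) (h0 : σ 0 = MonoidHom.id V)
    (hadd : ∀ x y, σ (x + y) = (σ x).comp (σ y)) (v : V) :
    v ^ p ∈ closure {w : V | ∃ d, d ≠ 0 ∧ σ d w = w} := by
  classical
  set C := closure {w : V | ∃ d, d ≠ 0 ∧ σ d w = w} with hC
  -- the norm of `v` along the line of `d` is fixed by `d`
  have hN : ∀ d : ZMod p × ZMod p, d ≠ 0 → (∏ j : ZMod p, σ (j • d) v) ∈ C := by
    intro d hd
    refine subset_closure ⟨d, hd, ?_⟩
    rw [map_prod]
    refine Fintype.prod_equiv (Equiv.addLeft 1) _ _ fun j => ?_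
    rw [Equiv.coe_addLeft, add_smul, one_smul, hadd]
    rfl
  have hI : ∏ i : ZMod p, ∏ j : ZMod p, σ (j • (1, i)) v =
      v ^ p * ∏ j ∈ (Finset.univ : Finset (ZMod p)).erase 0, ∏ k : ZMod p, σ (j, k) v := by
    rw [Finset.prod_comm, ← Finset.mul_prod_erase _ _ (Finset.mem_univ (0 : ZMod p))]
    congr 1
    · simp [zero_smul, h0]
    · refine Finset.prod_congr rfl fun j hj => ?_
      refine Fintype.prod_equiv (Equiv.mulLeft₀ j (Finset.mem_erase.mp hj).1) _ _ fun i => ?_
      simp [Equiv.mulLeft₀]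
  have hE : ∏ j : ZMod p, ∏ k : ZMod p, σ (j, k) v =
      (∏ k : ZMod p, σ (k • (0, 1)) v) *
        ∏ j ∈ (Finset.univ : Finset (ZMod p)).erase 0, ∏ k : ZMod p, σ (j, k) v := by
    rw [← Finset.mul_prod_erase _ _ (Finset.mem_univ (0 : ZMod p))]
    simp
  have hEmem : (∏ j : ZMod p, ∏ k : ZMod p, σ (j, k) v) ∈ C := by
    refine subset_closure ⟨(1, 0), by simp, ?_⟩
    rw [map_prod]
    refine Fintype.prod_equiv (Equiv.addLeft 1) _ _ fun j => ?_
    rw [map_prod]
    refine Finset.prod_congr rfl fun k _ => ?_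
    rw [Equiv.coe_addLeft, show ((1 + j, k) : ZMod p × ZMod p) = (1, 0) + (j, k) by simp, hadd]
    rfl
  have h01 : (∏ k : ZMod p, σ (k • (0, 1)) v) ∈ C := hN _ (by simp)
  have h1i : (∏ i : ZMod p, ∏ j : ZMod p, σ (j • (1, i)) v) ∈ C :=
    Subgroup.prod_mem _ fun i _ => hN _ (by simp)
  have hR : (∏ j ∈ (Finset.univ : Finset (ZMod p)).erase 0, ∏ k : ZMod p, σ (j, k) v) ∈ C := by
    rw [hE] at hEmem
    exact (mul_mem_cancel_left h01).mp hEmem
  rw [hI] at h1i
  exact (mul_mem_cancel_right hR).mp h1i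

variable {G : Type*} [Group G] [Finite G] {p : ℕ} [Fact p.Prime]

theorem commute_of_elementaryAbelian {E : Subgroup G} (hE : Cfsg.IsElementaryAbelian p E) {a b : G}
    (ha : a ∈ E) (hb : b ∈ E) : Commute a b :=
  congrArg Subtype.val (hE.1.is_comm.comm ⟨a, ha⟩ ⟨b, hb⟩)

omit [Finite G] in
theorem orderOf_eq_of_elementaryAbelian {E : Subgroup G} (hE : Cfsg.IsElementaryAbelian p E) {a : G}
    (ha : a ∈ E) (h1 : a ≠ 1) : orderOf a = p :=
  orderOf_eq_prime (hE.2 a ha) h1

theorem isPGroup_of_elementaryAbelian {E : Subgroup G} (hE : Cfsg.IsElementaryAbelian p E) :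
    IsPGroup p E := fun x => ⟨1, Subtype.ext (by simpa using hE.2 x x.2)⟩

omit [Finite G] [Fact p.Prime] in
theorem elementaryAbelian_of_le {E F : Subgroup G} (hE : Cfsg.IsElementaryAbelian p E)
    (hFE : F ≤ E) : Cfsg.IsElementaryAbelian p F :=
  ⟨⟨⟨fun x y => Subtype.ext (congrArg (fun z : E => (z : G))
    (hE.1.is_comm.comm ⟨x, hFE x.2⟩ ⟨y, hFE y.2⟩))⟩⟩, fun a ha => hE.2 a (hFE ha)⟩

/-- Normalizers pass to fixed points of commuting elements. -/
theorem normalizer_inf_centralizer {E K F : Subgroup G} (hEK : E ≤ normalizer (K : Set G))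
    (hEF : E ≤ centralizer (F : Set G)) :
    E ≤ normalizer ((K ⊓ centralizer (F : Set G) : Subgroup G) : Set G) :=
  (le_inf hEK (hEF.trans Subgroup.le_normalizer)).trans Subgroup.inf_normalizer_le_normalizer_inf

/-- Multiples of a fixed element of `E` in the exponents modulo `p`. -/
theorem pow_val_add {a : G} (ha : a ^ p = 1) (i j : ZMod p) :
    a ^ (i + j).val = a ^ i.val * a ^ j.val := by
  rw [← pow_add, ZMod.val_add, ← pow_eq_pow_mod _ ha]

/-- `q`-group case. -/
theorem le_of_fixed_le_pGroup {q : ℕ} [Fact q.Prime] {E Q W : Subgroup G}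
    (hE : Cfsg.IsElementaryAbelian p E) (hcard : Nat.card E = p ^ 2) (hQ : IsPGroup q Q)
    (hEQ : E ≤ normalizer (Q : Set G)) (hqp : q ≠ p) (hWQ : W ≤ Q)
    (hEW : E ≤ normalizer (W : Set G))
    (hfix : ∀ e ∈ E, e ≠ 1 → Q ⊓ centralizer ({e} : Set G) ≤ W) : Q ≤ W := by
  set N : Subgroup Q := commutator Q ⊔ W.subgroupOf Q with hN
  suffices hNtop : N = ⊤ by
    have h1 : W.subgroupOf Q ⊔ frattini Q = ⊤ := top_le_iff.mp (hNtop ▸
      sup_le ((PGroups.commutator_le_frattini hQ).trans le_sup_right) le_sup_left)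
    exact Subgroup.subgroupOf_eq_top.mp (frattini_nongenerating h1)
  haveI hNn : N.Normal := Subgroup.Normal.of_commutator_le _ (by rw [hN]; exact le_sup_left)
  have hcomm : commutator Q ≤ N := le_sup_left
  -- `E` normalizes the image of `N`
  have hEN : E ≤ normalizer ((N.map Q.subtype : Subgroup G) : Set G) := by
    rw [hN, Subgroup.map_sup, Subgroup.map_subgroupOf_eq_of_le hWQ]
    refine le_trans ?_ (Subgroup.normalizer_inf_normalizer_le_normalizer_sup _ _)
    refine le_inf ?_ hEW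
    refine hEQ.trans ?_
    rw [commutator_def, Subgroup.map_commutator, ← MonoidHom.range_eq_map, Subgroup.range_subtype]
    intro g hg
    apply Coprime.mem_normalizer_of_map_conj
    rw [Subgroup.map_commutator, Coprime.map_conj_eq hg]
  let V := Q ⧸ N
  letI : CommGroup V := { (inferInstance : Group V) with
    mul_comm := ((Subgroup.Normal.quotient_commutative_iff_commutator_le).mpr hcomm).is_comm.comm }
  -- the action of `E` on `V`
  let c : E → (Q →* Q) := fun e =>
    { toFun := fun x => ⟨(e : G) * x * (e : G)⁻¹, Coprime.conj_mem (hEQ e.2) x.2⟩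
      map_one' := Subtype.ext (by simp)
      map_mul' := fun x y => Subtype.ext (by simp [mul_assoc]) }
  have hc : ∀ e : E, N ≤ N.comap (c e) := by
    intro e x hx
    obtain ⟨y, hy, hyx⟩ := Coprime.conj_mem (hEN e.2) (show (x : G) ∈ N.map Q.subtype from ⟨x, hx, rfl⟩)
    rw [Subgroup.mem_comap]
    have hyx' : c e x = y := Subtype.ext hyx.symm
    rw [hyx']
    exact hy
  obtain ⟨a, ha, ha1⟩ : ∃ a ∈ E, a ≠ (1 : G) := by
    by_contra h
    push Not at h
    rw [(Subgroup.eq_bot_iff_forall _).mpr h, Subgroup.card_bot] at hcard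
    exact (Nat.one_lt_pow (by norm_num) (Fact.out : p.Prime).one_lt).ne hcard
  obtain ⟨b, hb, hb1⟩ : ∃ b ∈ E, b ∉ zpowers a := by
    by_contra h
    push Not at h
    have h1 := Subgroup.card_le_of_le (show E ≤ zpowers a from h)
    rw [hcard, Nat.card_zpowers, orderOf_eq_of_elementaryAbelian hE ha ha1] at h1
    exact absurd h1 (not_le.mpr (lt_self_pow₀ (Fact.out : p.Prime).one_lt one_lt_two))
  let ε : ZMod p × ZMod p → E := fun d =>
    ⟨a ^ d.1.val * b ^ d.2.val, mul_mem (pow_mem ha _) (pow_mem hb _)⟩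
  let σ : ZMod p × ZMod p → (V →* V) := fun d => QuotientGroup.map N N (c (ε d)) (hc _)
  have h0 : σ 0 = MonoidHom.id V := by
    refine QuotientGroup.monoidHom_ext _ (MonoidHom.ext fun x => ?_)
    show QuotientGroup.mk' N (c (ε 0) x) = QuotientGroup.mk' N x
    congr 1
    exact Subtype.ext (by simp [c, ε])
  have hεadd : ∀ x y, (ε (x + y) : G) = (ε x : G) * (ε y : G) := by
    intro x y
    show a ^ (x.1 + y.1).val * b ^ (x.2 + y.2).val = _
    rw [pow_val_add (hE.2 a ha), pow_val_add (hE.2 b hb)]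
    exact ((commute_of_elementaryAbelian hE (pow_mem ha y.1.val) (pow_mem hb x.2.val))).mul_mul_mul_comm _ _
  have hadd : ∀ x y, σ (x + y) = (σ x).comp (σ y) := by
    intro x y
    refine QuotientGroup.monoidHom_ext _ (MonoidHom.ext fun z => ?_)
    show QuotientGroup.mk' N (c (ε (x + y)) z) = QuotientGroup.mk' N (c (ε x) (c (ε y) z))
    congr 1
    refine Subtype.ext ?_
    show (ε (x + y) : G) * z * (ε (x + y) : G)⁻¹ = _
    rw [hεadd]
    show _ = (ε x : G) * ((ε y : G) * z * (ε y : G)⁻¹) * (ε x : G)⁻¹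
    group
  -- every fixed point on `V` is trivial
  have htriv : closure {w : V | ∃ d, d ≠ 0 ∧ σ d w = w} = ⊥ := by
    rw [Subgroup.closure_eq_bot_iff]
    rintro w ⟨d, hd, hdw⟩
    obtain ⟨x, rfl⟩ := QuotientGroup.mk'_surjective N w
    set e : G := (ε d : G) with he
    have he1 : e ≠ 1 := by
      intro h
      apply hd
      have h2 : b ^ d.2.val = (a ^ d.1.val)⁻¹ := (inv_eq_of_mul_eq_one_right h).symm
      have hd2 : d.2 = 0 := by
        by_contra hne
        apply hb1
        have hbo : orderOf b = p := orderOf_eq_of_elementaryAbelian hE hb fun hb' => hb1 (hb' ▸ one_mem _)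
        have hcop : Nat.Coprime d.2.val (orderOf b) := by
          rw [hbo]
          exact (Nat.coprime_of_lt_prime (fun h0 => hne ((ZMod.val_eq_zero _).mp h0))
            (ZMod.val_lt _) Fact.out).symm
        obtain ⟨m, hm⟩ := exists_pow_eq_self_of_coprime hcop
        rw [← hm, h2]
        exact pow_mem (inv_mem (pow_mem (mem_zpowers a) _)) m
      have hd1 : d.1 = 0 := by
        rw [hd2, ZMod.val_zero, pow_zero] at h2
        have h3 : a ^ d.1.val = 1 := inv_eq_one.mp h2.symm
        have h4 := orderOf_dvd_of_pow_eq_one h3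
        rw [orderOf_eq_of_elementaryAbelian hE ha ha1] at h4
        exact (ZMod.val_eq_zero _).mp (Nat.eq_zero_of_dvd_of_lt h4 (ZMod.val_lt _))
      exact Prod.ext hd1 hd2
    have hmem : (x : G)⁻¹ * (e * x * e⁻¹) ∈ N.map Q.subtype := by
      refine ⟨x⁻¹ * c (ε d) x, ?_, rfl⟩
      exact QuotientGroup.eq.mp (show QuotientGroup.mk' N x = QuotientGroup.mk' N (c (ε d) x) from hdw.symm)
    have hall : ∀ g ∈ zpowers e, (x : G)⁻¹ * (g * x * g⁻¹) ∈ N.map Q.subtype := by
      intro g hg
      obtain ⟨n, rfl⟩ := mem_powers_iff_mem_zpowers.mpr hg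
      show (x : G)⁻¹ * (e ^ n * x * (e ^ n)⁻¹) ∈ N.map Q.subtype
      clear hg
      induction n with
      | zero => simp
      | succ n ih =>
        have h1 := mul_mem hmem (Coprime.conj_mem (hEN (ε d).2) ih)
        have h2 : (x : G)⁻¹ * (e * x * e⁻¹) * ((ε d : G) * ((x : G)⁻¹ * (e ^ n * x * (e ^ n)⁻¹)) * (ε d : G)⁻¹)
            = (x : G)⁻¹ * (e ^ (n + 1) * x * (e ^ (n + 1))⁻¹) := by
          rw [← he, pow_succ']
          group
        rwa [h2] at h1
    obtain ⟨n, hn, hxn⟩ := Coprime.exists_commute_mem_coset (N := N.map Q.subtype)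
      ((isPGroup_of_elementaryAbelian hE).to_le (zpowers_le.mpr (ε d).2))
      ((zpowers_le.mpr (hEN (ε d).2))) (fun hdvd => hqp.symm ((Nat.prime_dvd_prime_iff_eq
        (Fact.out : p.Prime) (Fact.out : q.Prime)).mp (by
          obtain ⟨k, hk⟩ := IsPGroup.iff_card.mp (hQ.to_le (Subgroup.map_subtype_le N))
          exact (Fact.out : p.Prime).dvd_of_dvd_pow (hk ▸ hdvd)))) hall
    obtain ⟨n', hn', rfl⟩ := hn
    have hxn' : (x : G) * n' ∈ W := by
      refine hfix e (ε d).2 he1 ⟨mul_mem x.2 n'.2, ?_⟩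
      exact Subgroup.mem_centralizer_singleton_iff.mpr
        (Subgroup.mem_centralizer_iff.mp hxn e (mem_zpowers e)).symm
    refine (QuotientGroup.eq_one_iff x).mpr ?_
    have h5 : x * n' ∈ N := (le_sup_right : W.subgroupOf Q ≤ N) hxn'
    exact (mul_mem_cancel_right hn').mp h5
  rw [Subgroup.eq_top_iff']
  intro x
  have h := pow_mem_closure_fixed σ h0 hadd (QuotientGroup.mk' N x)
  rw [htriv, Subgroup.mem_bot] at h
  obtain ⟨k, hk⟩ := (hQ.to_quotient N) (QuotientGroup.mk' N x)
  have h1 : orderOf (QuotientGroup.mk' N x) = 1 :=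
    Nat.eq_one_of_dvd_coprimes (((Nat.coprime_primes Fact.out Fact.out).mpr hqp.symm).pow_right k)
      (orderOf_dvd_of_pow_eq_one h) (orderOf_dvd_of_pow_eq_one hk)
  exact (QuotientGroup.eq_one_iff x).mp (orderOf_eq_one_iff.mp h1)

/-- A `p'`-group acted on by an elementary abelian group of order `p²` is generated by the
centralizers of its nontrivial elements. -/
theorem le_of_fixed_le {E K W : Subgroup G} (hE : Cfsg.IsElementaryAbelian p E)
    (hcard : Nat.card E = p ^ 2) (hEK : E ≤ normalizer (K : Set G)) (hK : ¬ p ∣ Nat.card K)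
    (hEW : E ≤ normalizer (W : Set G))
    (hfix : ∀ e ∈ E, e ≠ 1 → K ⊓ centralizer ({e} : Set G) ≤ W) : K ≤ W := by
  haveI := hE.1
  have hcop : (Nat.card E).Coprime (Nat.card K) := by
    rw [hcard]
    exact Nat.Coprime.pow_left 2 ((Fact.out : p.Prime).coprime_iff_not_dvd.mpr hK)
  rw [← Subgroup.subgroupOf_eq_top, ← Subgroup.index_eq_one]
  by_contra hne
  obtain ⟨q, hq, hdvd⟩ := Nat.exists_prime_and_dvd hne
  haveI := Fact.mk hq
  have hqp : q ≠ p := fun h => hK (h ▸ hdvd.trans (Subgroup.index_dvd_card _))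
  obtain ⟨P, hP⟩ := Coprime.exists_invariant_sylow hEK hcop (Or.inl (Group.isSolvable_of_comm fun a b => (hE.1.is_comm.comm a b))) q
  refine P.not_dvd_index (hdvd.trans (Subgroup.index_dvd_of_le ?_))
  have h := le_of_fixed_le_pGroup (W := W ⊓ (P : Subgroup K).map K.subtype) hE hcard
    (P.isPGroup'.map K.subtype) hP hqp inf_le_right
    ((le_inf hEW hP).trans Subgroup.inf_normalizer_le_normalizer_inf)
    (fun e he he1 => le_inf ((inf_le_inf_right _ (Subgroup.map_subtype_le _)).trans (hfix e he he1))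
      inf_le_left)
  exact fun x hx => (h ⟨x, hx, rfl⟩).1

/-- A `p'`-group acted on by an elementary abelian group of order `p^(n+1)`, `n ≥ 1`, is generated by the
centralizers of the subgroups of order `p^n`. -/
theorem le_of_hyperplanes_le {E K W : Subgroup G} (hE : Cfsg.IsElementaryAbelian p E) {n : ℕ}
    (hcard : p ^ (n + 1) ≤ Nat.card E) (hn : 1 ≤ n) (hEK : E ≤ normalizer (K : Set G))
    (hK : ¬ p ∣ Nat.card K) (hEW : E ≤ normalizer (W : Set G))
    (hfix : ∀ F : Subgroup G, F ≤ E → Nat.card F = p ^ n → K ⊓ centralizer (F : Set G) ≤ W) :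
    K ≤ W := by
  suffices key : ∀ m : ℕ, ∀ F : Subgroup G, F ≤ E → Nat.card E - Nat.card F = m →
      K ⊓ centralizer (F : Set G) ≤ W by
    have := key _ ⊥ bot_le rfl
    rwa [show centralizer ((⊥ : Subgroup G) : Set G) = ⊤ from top_le_iff.mp fun x _ =>
      mem_centralizer_iff.mpr fun y hy => by
        rw [Subgroup.coe_bot, Set.mem_singleton_iff] at hy
        simp [hy], inf_top_eq] at this
  intro m
  induction m using Nat.strong_induction_on with
  | _ m ih =>
  intro F hFE hm
  by_cases hbig : p ^ n ≤ Nat.card F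
  · obtain ⟨k, hk⟩ := IsPGroup.iff_card.mp ((isPGroup_of_elementaryAbelian hE).to_le hFE)
    obtain ⟨F'', hF''⟩ := Sylow.exists_subgroup_card_pow_prime p (G := F) (n := n)
      (hk ▸ Nat.pow_dvd_pow p ((Nat.pow_le_pow_iff_right (Fact.out : p.Prime).one_lt).mp (hk ▸ hbig)))
    obtain ⟨F', hF'c, hF'⟩ : ∃ F' : Subgroup G, F' ≤ F ∧ Nat.card F' = p ^ n :=
      ⟨F''.map F.subtype, Subgroup.map_subtype_le _,
        by rw [Subgroup.card_map_of_injective F.subtype_injective, hF'']⟩
    exact le_trans (inf_le_inf_left K (centralizer_le hF'c)) (hfix F' (hF'c.trans hFE) hF')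
  push Not at hbig
  have hFp := elementaryAbelian_of_le hE hFE
  obtain ⟨a, ha, haF⟩ : ∃ a ∈ E, a ∉ F := by
    by_contra h
    push Not at h
    have := Subgroup.card_le_of_le (show E ≤ F from h)
    have h2 := Nat.pow_lt_pow_right (Fact.out : p.Prime).one_lt (show n < n + 1 by omega)
    omega
  have ha1 : a ≠ 1 := fun h => haF (h ▸ F.one_mem)
  have hcomF : ∀ x ∈ E, x ∈ centralizer (F : Set G) := fun x hx => mem_centralizer_iff.mpr
    fun y hy => (commute_of_elementaryAbelian hE (hFE hy) hx).eq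
  have hcardFa : Nat.card ↥(F ⊔ zpowers a) ≤ Nat.card F * p := by
    rw [Coprime.card_sup (zpowers_le.mpr ((Subgroup.centralizer_le_normalizer _) (hcomF a ha))) ?_,
      Nat.card_zpowers, orderOf_eq_of_elementaryAbelian hE ha ha1]
    refine (disjoint_iff.mp ?_)
    rw [Subgroup.disjoint_def]
    intro x hxF hxa
    by_contra hx1
    apply haF
    have hxz : zpowers x = zpowers a := by
      refine Subgroup.eq_of_le_of_card_ge (zpowers_le.mpr hxa) ?_
      rw [Nat.card_zpowers, Nat.card_zpowers, orderOf_eq_of_elementaryAbelian hE ha ha1,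
        orderOf_eq_of_elementaryAbelian hE (hFE hxF) hx1]
    exact (zpowers_le.mpr hxF) (hxz ▸ mem_zpowers a)
  obtain ⟨b, hb, hbF⟩ : ∃ b ∈ E, b ∉ F ⊔ zpowers a := by
    by_contra h
    push Not at h
    have h1 := Subgroup.card_le_of_le (show E ≤ F ⊔ zpowers a from h)
    have h2 : Nat.card F * p < p ^ n * p := Nat.mul_lt_mul_of_pos_right hbig (Fact.out : p.Prime).pos
    rw [← pow_succ] at h2
    omega
  set E2 := zpowers a ⊔ zpowers b with hE2
  have hE2E : E2 ≤ E := sup_le (zpowers_le.mpr ha) (zpowers_le.mpr hb)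
  have hE2p := elementaryAbelian_of_le hE hE2E
  have hab : zpowers a ⊓ zpowers b = ⊥ := by
    refine disjoint_iff.mp (Subgroup.disjoint_def.mpr fun {x} hxa hxb => ?_)
    by_contra hx1
    have hb1 : b ≠ 1 := fun h => hbF (h ▸ one_mem _)
    apply hbF
    have hxz : zpowers x = zpowers b := by
      refine Subgroup.eq_of_le_of_card_ge (zpowers_le.mpr hxb) ?_
      rw [Nat.card_zpowers, Nat.card_zpowers, orderOf_eq_of_elementaryAbelian hE hb hb1,
        orderOf_eq_of_elementaryAbelian hE (hE2E (mem_sup_left hxa)) hx1]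
    exact mem_sup_right ((zpowers_le.mpr hxa) (hxz ▸ mem_zpowers b))
  have hcard2 : Nat.card E2 = p ^ 2 := by
    rw [hE2, Coprime.card_sup (zpowers_le.mpr ((Subgroup.centralizer_le_normalizer _)
      (mem_centralizer_iff.mpr fun y hy => (commute_of_elementaryAbelian hE
        ((zpowers_le.mpr ha) hy) hb).eq))) hab, Nat.card_zpowers, Nat.card_zpowers,
      orderOf_eq_of_elementaryAbelian hE ha ha1,
      orderOf_eq_of_elementaryAbelian hE hb (fun h => hbF (h ▸ one_mem _)), pow_two]
  refine le_of_fixed_le hE2p hcard2 (normalizer_inf_centralizer (hE2E.trans hEK)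
      fun x hx => hcomF x (hE2E hx)) (fun h => hK (h.trans (card_dvd_of_le inf_le_left)))
    (hE2E.trans hEW) fun e he he1 => ?_
  have heF : e ∉ F := by
    intro heF
    rw [hE2, Coprime.mem_sup_iff (zpowers_le.mpr ((Subgroup.centralizer_le_normalizer _)
      (mem_centralizer_iff.mpr fun y hy => (commute_of_elementaryAbelian hE
        ((zpowers_le.mpr ha) hy) hb).eq)))] at he
    obtain ⟨u, hu, v, hv, rfl⟩ := he
    have hvF : v ∈ F ⊔ zpowers a := by
      have := mul_mem (inv_mem (mem_sup_right (S := F) hu)) (mem_sup_left (T := zpowers a) heF)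
      rwa [inv_mul_cancel_left] at this
    by_cases hv1 : v = 1
    · subst hv1
      rw [mul_one] at heF he1
      have hxz : zpowers u = zpowers a := by
        refine Subgroup.eq_of_le_of_card_ge (zpowers_le.mpr hu) ?_
        rw [Nat.card_zpowers, Nat.card_zpowers, orderOf_eq_of_elementaryAbelian hE ha ha1,
          orderOf_eq_of_elementaryAbelian hE ((zpowers_le.mpr ha) hu) he1]
      exact haF ((zpowers_le.mpr heF) (hxz ▸ mem_zpowers a))
    · have hxz : zpowers v = zpowers b := by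
        refine Subgroup.eq_of_le_of_card_ge (zpowers_le.mpr hv) ?_
        rw [Nat.card_zpowers, Nat.card_zpowers,
          orderOf_eq_of_elementaryAbelian hE hb (fun h => hbF (h ▸ one_mem _)),
          orderOf_eq_of_elementaryAbelian hE ((zpowers_le.mpr hb) hv) hv1]
      exact hbF ((zpowers_le.mpr hvF) (hxz ▸ mem_zpowers b))
  have hlt : Nat.card E - Nat.card ↥(F ⊔ zpowers e) < m := by
    have h1 : Nat.card F < Nat.card ↥(F ⊔ zpowers e) := by
      refine lt_of_le_of_ne (Subgroup.card_le_of_le le_sup_left) fun h => heF ?_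
      rw [Subgroup.eq_of_le_of_card_ge (le_sup_left : F ≤ F ⊔ zpowers e) h.ge]
      exact mem_sup_right (mem_zpowers e)
    have h2 := Subgroup.card_le_of_le (sup_le hFE (zpowers_le.mpr (hE2E he)) : F ⊔ zpowers e ≤ E)
    omega
  refine le_trans ?_ (ih _ hlt (F ⊔ zpowers e) (sup_le hFE (zpowers_le.mpr (hE2E he))) rfl)
  rintro x ⟨⟨hxK, hxF⟩, hxe⟩
  refine ⟨hxK, ?_⟩
  replace hxe := mem_centralizer_singleton_iff.mp hxe
  have : F ⊔ zpowers e ≤ centralizer ({x} : Set G) := sup_le
    (fun y hy => mem_centralizer_singleton_iff.mpr (mem_centralizer_iff.mp hxF y hy))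
    (zpowers_le.mpr (mem_centralizer_singleton_iff.mpr hxe.symm))
  exact mem_centralizer_iff.mpr fun y hy => mem_centralizer_singleton_iff.mp (this hy)

end Cfsg.Agent.H47
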