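import Mathlib
import Cfsg.Prelude.Def_EvenTechniques
import Cfsg.Agent.Cores.PCore
import Cfsg.Agent.H47.Generation

/-!
Basic facts about `O_{p'}(C(a))` and `Δ(B)` as subgroups of the ambient group.
-/

set_option autoImplicit false

namespace Cfsg.Agent.H47

open Subgroup

variable {G : Type*} [Group G] {p : ℕ}

theorem centralizerPPrimeCore_le (a : G) :
    Cfsg.centralizerPPrimeCore p a ≤ centralizer ({a} : Set G) :=
  Subgroup.map_subtype_le _

theorem not_dvd_centralizerPPrimeCore [Finite G] [Fact p.Prime] (a : G) :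
    ¬ p ∣ Nat.card (Cfsg.centralizerPPrimeCore p a) := by
  rw [Cfsg.centralizerPPrimeCore, Subgroup.card_map_of_injective (Subgroup.subtype_injective _)]
  exact Cores.not_dvd_card_pPrimeCore

/-- The centralizer of `a` normalizes `O_{p'}(C(a))`. -/
theorem centralizer_le_normalizer_core (a : G) :
    centralizer ({a} : Set G) ≤ normalizer (Cfsg.centralizerPPrimeCore p a : Set G) := by
  intro g hg
  have h : (Cfsg.pPrimeCore p ↥(centralizer ({a} : Set G))).Normal := Cfsg.pPrimeCore_normal p _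
  rw [Subgroup.mem_normalizer_iff]
  intro x
  constructor
  · rintro ⟨y, hy, rfl⟩
    exact ⟨⟨g, hg⟩ * y * ⟨g, hg⟩⁻¹, h.conj_mem y hy _, rfl⟩
  · rintro ⟨y, hy, hyx⟩
    refine ⟨⟨g, hg⟩⁻¹ * y * ⟨g, hg⟩, by simpa using h.conj_mem y hy ⟨g, hg⟩⁻¹, ?_⟩
    show g⁻¹ * (y : G) * g = x
    rw [show (y : G) = g * x * g⁻¹ from hyx]
    group

theorem delta_le {B : Subgroup G} {b : G} (hb : b ∈ B) (hb1 : b ≠ 1) :
    Cfsg.signalizerDelta p B ≤ Cfsg.centralizerPPrimeCore p b :=
  iInf_le (fun a : {a : G // a ∈ B ∧ a ≠ 1} => Cfsg.centralizerPPrimeCore p (a : G)) ⟨b, hb, hb1⟩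

theorem le_delta {B D : Subgroup G}
    (h : ∀ b ∈ B, b ≠ 1 → D ≤ Cfsg.centralizerPPrimeCore p b) : D ≤ Cfsg.signalizerDelta p B :=
  le_iInf fun b => h b.1 b.2.1 b.2.2

theorem delta_anti {B C : Subgroup G} (h : B ≤ C) :
    Cfsg.signalizerDelta p C ≤ Cfsg.signalizerDelta p B :=
  le_delta fun _ hb hb1 => delta_le (h hb) hb1

theorem normalizer_iInf {ι : Sort*} {H : ι → Subgroup G} {U : Subgroup G}
    (h : ∀ i, U ≤ normalizer (H i : Set G)) : U ≤ normalizer ((⨅ i, H i : Subgroup G) : Set G) := by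
  intro g hg
  rw [Subgroup.mem_normalizer_iff]
  intro x
  simp only [SetLike.mem_coe, Subgroup.mem_iInf]
  exact forall_congr' fun i => Subgroup.mem_normalizer_iff.mp (h i hg) x

theorem normalizer_iSup {ι : Sort*} {H : ι → Subgroup G} {U : Subgroup G}
    (h : ∀ i, U ≤ normalizer (H i : Set G)) : U ≤ normalizer ((⨆ i, H i : Subgroup G) : Set G) := by
  intro g hg
  apply Coprime.mem_normalizer_of_map_conj
  rw [Subgroup.map_iSup]
  exact iSup_congr fun i => Coprime.map_conj_eq (h i hg)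

theorem le_centralizer_singleton {A : Subgroup G} (hA : IsMulCommutative A) {a : G} (ha : a ∈ A) :
    A ≤ centralizer ({a} : Set G) := fun x hx =>
  mem_centralizer_singleton_iff.mpr (congrArg Subtype.val (hA.is_comm.comm ⟨x, hx⟩ ⟨a, ha⟩))

theorem le_normalizer_centralizer_singleton {A : Subgroup G} {a : G}
    (hA : A ≤ centralizer ({a} : Set G)) :
    A ≤ normalizer ((centralizer ({a} : Set G) : Subgroup G) : Set G) :=
  hA.trans Subgroup.le_normalizer

/-- An abelian subgroup normalizes `Δ(B)` for `B` inside it. -/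
theorem le_normalizer_delta {A B : Subgroup G} (hA : IsMulCommutative A) (hB : B ≤ A) :
    A ≤ normalizer (Cfsg.signalizerDelta p B : Set G) :=
  normalizer_iInf fun b =>
    (le_centralizer_singleton hA (hB b.2.1)).trans (centralizer_le_normalizer_core _)

theorem exists_ne_one_of_card {B : Subgroup G} {k : ℕ} (hp : 2 ≤ p) (hk : 1 ≤ k)
    (h : p ^ k ≤ Nat.card B) : ∃ b ∈ B, b ≠ (1 : G) := by
  by_contra hh
  push Not at hh
  rw [(Subgroup.eq_bot_iff_forall _).mpr hh, Subgroup.card_bot] at h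
  exact absurd (h.trans_lt (Nat.one_lt_pow (by omega) hp)) (lt_irrefl _)

theorem not_dvd_delta [Finite G] [Fact p.Prime] {B : Subgroup G} {k : ℕ} (hk : 1 ≤ k)
    (h : p ^ k ≤ Nat.card B) : ¬ p ∣ Nat.card (Cfsg.signalizerDelta p B) := by
  obtain ⟨b, hb, hb1⟩ := exists_ne_one_of_card (Fact.out : p.Prime).two_le hk h
  exact fun hd => not_dvd_centralizerPPrimeCore b (hd.trans (card_dvd_of_le (delta_le hb hb1)))

end Cfsg.Agent.H47
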