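import Mathlib
import Cfsg.Agent.Cores.PCore
import Cfsg.Agent.Components.PComponent
import Cfsg.Agent.Coprime.Centralize
import Cfsg.Agent.Coprime.SchurZassenhaus
import Cfsg.Agent.PGroups.Basic

/-!
The `p'`-core of a local subgroup `N(R)` inside a group `X`: it centralizes `O_p(X)` and, when
`O_{p'}(X) = 1`, normalizes every component.
-/

set_option autoImplicit false
set_option linter.style.haveILetI false

namespace Cfsg.Agent.H47

open Subgroup

variable {X : Type*} [Group X] {p : ℕ}

/-- `O_{p'}(H)` as a subgroup of the ambient group. -/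
def coreOf (p : ℕ) (H : Subgroup X) : Subgroup X :=
  (Cfsg.pPrimeCore p ↥H).map H.subtype

theorem coreOf_le (H : Subgroup X) : coreOf p H ≤ H :=
  Subgroup.map_subtype_le _

theorem le_normalizer_coreOf (H : Subgroup X) : H ≤ normalizer (coreOf p H : Set X) := by
  refine (Subgroup.normal_subgroupOf_iff_le_normalizer (coreOf_le H)).mp ?_
  rw [coreOf, Subgroup.subgroupOf, Subgroup.comap_map_eq_self_of_injective H.subtype_injective]
  infer_instance

section Finite

variable [Finite X]

theorem coprime_coreOf (H : Subgroup X) : (Nat.card (coreOf p H)).Coprime p := by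
  rw [coreOf, Subgroup.card_map_of_injective H.subtype_injective]
  exact Cores.coprime_card_pPrimeCore

theorem le_coreOf {D H : Subgroup X} (hDH : D ≤ H) (hn : H ≤ normalizer (D : Set X))
    (hc : (Nat.card D).Coprime p) : D ≤ coreOf p H := by
  haveI : (D.subgroupOf H).Normal := (Subgroup.normal_subgroupOf_iff_le_normalizer hDH).mpr hn
  have h : D.subgroupOf H ≤ Cfsg.pPrimeCore p ↥H :=
    Cores.le_pPrimeCore (by rwa [Nat.card_congr (Subgroup.subgroupOfEquivOfLe hDH).toEquiv])
  rw [← Subgroup.map_subgroupOf_eq_of_le hDH]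
  exact Subgroup.map_mono h

theorem le_coreOf_of_isSubnormal {D H : Subgroup X} (hDH : D ≤ H)
    (hn : (D.subgroupOf H).IsSubnormal) (hc : (Nat.card D).Coprime p) : D ≤ coreOf p H := by
  have h : D.subgroupOf H ≤ Cfsg.pPrimeCore p ↥H := Cores.le_pPrimeCore_of_isSubnormal hn
    (by rwa [Nat.card_congr (Subgroup.subgroupOfEquivOfLe hDH).toEquiv])
  rw [← Subgroup.map_subgroupOf_eq_of_le hDH]
  exact Subgroup.map_mono h

/-- `O_{p'}` is inherited by normal subgroups. -/
theorem coreOf_mono {H K : Subgroup X} (hle : H ≤ K) (hn : K ≤ normalizer (H : Set X)) :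
    coreOf p H ≤ coreOf p K := by
  refine le_coreOf_of_isSubnormal ((coreOf_le H).trans hle) ?_ (coprime_coreOf H)
  have h1 : ((coreOf p H).subgroupOf H).Normal :=
    (Subgroup.normal_subgroupOf_iff_le_normalizer (coreOf_le H)).mpr (le_normalizer_coreOf H)
  have hle2 : (coreOf p H).subgroupOf K ≤ H.subgroupOf K := fun x hx => coreOf_le H hx
  refine Subgroup.IsSubnormal.step _ (H.subgroupOf K) hle2
    ((Subgroup.normal_subgroupOf_iff_le_normalizer hle).mpr hn).isSubnormal ?_
  refine (Subgroup.normal_subgroupOf_iff_le_normalizer hle2).mpr fun x hx => ?_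
  rw [Subgroup.mem_normalizer_iff]
  intro y
  exact Subgroup.mem_normalizer_iff.mp (le_normalizer_coreOf (p := p) H hx) (y : X)

omit [Finite X] in
theorem normalizer_le_normalizer_centralizer (H : Subgroup X) :
    normalizer (H : Set X) ≤ normalizer (centralizer (H : Set X) : Set X) := by
  intro g hg
  apply Coprime.mem_normalizer_of_map_conj
  ext z
  rw [Coprime.mem_map_conj, Subgroup.mem_centralizer_iff, Subgroup.mem_centralizer_iff]
  constructor
  · intro h y hy
    have h1 := h _ ((Subgroup.mem_normalizer_iff''.mp hg y).mp hy)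
    calc y * z = g * ((g⁻¹ * y * g) * (g⁻¹ * z * g)) * g⁻¹ := by group
      _ = g * ((g⁻¹ * z * g) * (g⁻¹ * y * g)) * g⁻¹ := by rw [h1]
      _ = z * y := by group
  · intro h y hy
    have h1 := h _ ((Subgroup.mem_normalizer_iff.mp hg y).mp hy)
    calc y * (g⁻¹ * z * g) = g⁻¹ * ((g * y * g⁻¹) * z) * g := by group
      _ = g⁻¹ * (z * (g * y * g⁻¹)) * g := by rw [h1]
      _ = g⁻¹ * z * g * y := by group

variable [Fact p.Prime]

theorem commute_of_pGroup_coreOf {H V : Subgroup X} (hV : IsPGroup p V) (hVH : V ≤ H)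
    (hn : H ≤ normalizer (V : Set X)) : coreOf p H ≤ centralizer (V : Set X) := by
  intro d hd
  obtain ⟨d', hd', rfl⟩ := hd
  refine Subgroup.mem_centralizer_iff.mpr fun v hv => ?_
  haveI : (V.subgroupOf H).Normal := (Subgroup.normal_subgroupOf_iff_le_normalizer hVH).mpr hn
  have hvm : (⟨v, hVH hv⟩ : H) ∈ Cfsg.pCore p ↥H :=
    Cores.le_pCore (hV.of_equiv (Subgroup.subgroupOfEquivOfLe hVH).symm)
      (show (⟨v, hVH hv⟩ : H) ∈ V.subgroupOf H from hv)
  exact congrArg Subtype.val (Cores.commute_pCore_pPrimeCore hvm hd').eq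

theorem coreOf_le_centralizer {R : Subgroup X} (hR : IsPGroup p R) :
    coreOf p (normalizer (R : Set X)) ≤ centralizer (R : Set X) :=
  commute_of_pGroup_coreOf hR Subgroup.le_normalizer le_rfl

/-- `O_{p'}(C(b)) ≤ O_{p'}(N(⟨b⟩))`. -/
theorem coreOf_centralizer_le (b : X) :
    coreOf p (centralizer ({b} : Set X)) ≤ coreOf p (normalizer (zpowers b : Set X)) := by
  have h : centralizer (zpowers b : Set X) = centralizer ({b} : Set X) := by
    rw [Subgroup.zpowers_eq_closure, Subgroup.centralizer_closure]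
  rw [← h]
  exact coreOf_mono (Subgroup.centralizer_le_normalizer _) (normalizer_le_normalizer_centralizer _)

/-- `O_{p'}(N(R))` centralizes `O_p(X)`. -/
theorem coreOf_le_centralizer_pCore {R : Subgroup X} (hR : IsPGroup p R) :
    coreOf p (normalizer (R : Set X)) ≤ centralizer (Cfsg.pCore p X : Set X) := by
  have hQ : IsPGroup p ↥(Cfsg.pCore p X) := Cores.pCore_isPGroup
  refine Coprime.thompson_AxB hR (coprime_coreOf _) ?_ _ hQ ?_ ?_ ?_
  · exact Subgroup.le_centralizer_iff.mp (coreOf_le_centralizer hR)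
  · exact Components.le_normalizer_of_normal _
  · exact Components.le_normalizer_of_normal _
  · have h := commute_of_pGroup_coreOf (p := p) (H := normalizer (R : Set X))
      (V := Cfsg.pCore p X ⊓ normalizer (R : Set X)) (hQ.to_le inf_le_left) inf_le_right
      ((le_inf (Components.le_normalizer_of_normal _) Subgroup.le_normalizer).trans
        Subgroup.inf_normalizer_le_normalizer_inf)
    exact (inf_le_inf_left _ (Subgroup.centralizer_le_normalizer _)).trans
      (Subgroup.le_centralizer_iff.mp h)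

/-- Enlarging `R` by `O_p(X)` can only enlarge the core. -/
theorem coreOf_le_coreOf_sup_pCore {R : Subgroup X} (hR : IsPGroup p R) :
    coreOf p (normalizer (R : Set X)) ≤
      coreOf p (normalizer ((R ⊔ Cfsg.pCore p X : Subgroup X) : Set X)) := by
  set Q := R ⊔ Cfsg.pCore p X with hQ
  set D := coreOf p (normalizer (R : Set X)) with hD
  have hDQ : D ≤ centralizer (Q : Set X) := Subgroup.le_centralizer_iff.mp (sup_le
    (Subgroup.le_centralizer_iff.mp (coreOf_le_centralizer hR))
    (Subgroup.le_centralizer_iff.mp (coreOf_le_centralizer_pCore hR)))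
  have hCN : centralizer (Q : Set X) ≤ normalizer (R : Set X) :=
    (Subgroup.centralizer_le (SetLike.coe_subset_coe.mpr (le_sup_left : R ≤ Q))).trans
      (Subgroup.centralizer_le_normalizer _)
  exact (le_coreOf hDQ (hCN.trans (le_normalizer_coreOf _)) (coprime_coreOf _)).trans
    (coreOf_mono (Subgroup.centralizer_le_normalizer _) (normalizer_le_normalizer_centralizer _))

theorem fitting_le_pCore (hX : Cfsg.pPrimeCore p X = ⊥) :
    Cfsg.fittingSubgroup X ≤ Cfsg.pCore p X := by
  rw [Components.fitting_eq_iSup_pCore]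
  refine iSup_le fun q => ?_
  haveI := Fact.mk (Nat.prime_of_mem_primeFactors q.2)
  by_cases hq : (q : ℕ) = p
  · exact le_of_eq (congrArg (fun t => Cfsg.pCore t X) hq)
  · obtain ⟨k, hk⟩ := IsPGroup.iff_card.mp (Cores.pCore_isPGroup (p := (q : ℕ)) (G := X))
    have h := Cores.le_pPrimeCore (p := p) (N := Cfsg.pCore (q : ℕ) X)
      (by rw [hk]; exact ((Nat.coprime_primes Fact.out Fact.out).mpr hq).pow_left k)
    rw [hX] at h
    exact h.trans bot_le

/-- A subgroup centralizing `O_p(X)` and all components lies in `O_p(X)`. -/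
theorem le_pCore_of_centralizes (hX : Cfsg.pPrimeCore p X = ⊥) {D : Subgroup X}
    (hp : D ≤ centralizer (Cfsg.pCore p X : Set X))
    (hE : ∀ K : Subgroup X, Cfsg.IsComponent K → D ≤ centralizer (K : Set X)) :
    D ≤ Cfsg.pCore p X := by
  have hF : D ≤ centralizer (Cfsg.generalizedFittingSubgroup X : Set X) :=
    Subgroup.le_centralizer_iff.mp (sup_le
      (Components.layer_le_iff.mpr fun K hK => Subgroup.le_centralizer_iff.mp (hE K hK))
      ((fitting_le_pCore hX).trans (Subgroup.le_centralizer_iff.mp hp)))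
  haveI : IsMulCommutative ↥(centralizer (Cfsg.generalizedFittingSubgroup X : Set X)) :=
    ⟨⟨fun a b => Subtype.ext
      (Subgroup.mem_centralizer_iff.mp b.2 a (Components.centralizer_genFitting_le a.2))⟩⟩
  refine hF.trans (le_trans ?_ (fitting_le_pCore hX))
  open scoped IsMulCommutative in
  exact Components.normal_nilpotent_le_fitting inferInstance inferInstance

omit [Fact p.Prime] in
/-- Every `p`-element of a subgroup is conjugate into a given Sylow subgroup of it; so if that lies
in a normal subgroup, so do all of them. -/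
theorem pElemClosure_le_of_sylow [Fact p.Prime] {M N : Subgroup X} [N.Normal] (P : Sylow p M)
    (hP : (P : Subgroup M).map M.subtype ≤ N) : Components.pElemClosure p M ≤ N := by
  refine (Subgroup.closure_le N).mpr ?_
  rintro x ⟨hx, k, hk⟩
  have hp : IsPGroup p (zpowers (⟨x, hx⟩ : M)) := by
    obtain ⟨j, -, hj⟩ := (Nat.dvd_prime_pow Fact.out).mp
      (orderOf_dvd_of_pow_eq_one (show (⟨x, hx⟩ : M) ^ p ^ k = 1 from Subtype.ext (by simpa using hk)))
    exact IsPGroup.of_card (n := j) (by rw [Nat.card_zpowers, hj])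
  obtain ⟨Q, hQ⟩ := hp.exists_le_sylow
  obtain ⟨m, hm⟩ := MulAction.exists_smul_eq M Q P
  have h1 : m * ⟨x, hx⟩ * m⁻¹ ∈ (P : Subgroup M) := by
    rw [← hm, Sylow.coe_subgroup_smul]
    exact ⟨⟨x, hx⟩, hQ (mem_zpowers _), rfl⟩
  have h2 : (m : X) * x * (m : X)⁻¹ ∈ N := hP ⟨_, h1, rfl⟩
  simpa [mul_assoc] using (inferInstance : N.Normal).conj_mem _ h2 (m : X)⁻¹

/-- An element of order prime to `p` centralizing `R ≥ O_p(X)`, whose commutators with `E(X) ∩ N(R)`
lie in a subgroup of order prime to `p`, normalizes every component. -/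
theorem mem_normalizer_component (hX : Cfsg.pPrimeCore p X = ⊥) {R : Subgroup X}
    (hR : IsPGroup p R) (hZ : Cfsg.pCore p X ≤ R) {K : Subgroup X} (hK : Cfsg.IsComponent K)
    {d : X} (hdR : d ∈ centralizer (R : Set X)) (hdo : (orderOf d).Coprime p)
    {D₀ : Subgroup X} (hD₀ : (Nat.card D₀).Coprime p)
    (hcom : ∀ x ∈ Cfsg.layer X, x ∈ normalizer (R : Set X) → d * x * d⁻¹ * x⁻¹ ∈ D₀) :
    d ∈ normalizer (K : Set X) := by
  set cj : X → Subgroup X := fun g => K.map (MulAut.conj g).toMonoidHom with hcj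
  set M : Subgroup X := ⨆ r : R, cj r with hM
  have hcjmul : ∀ g h : X, (cj h).map (MulAut.conj g).toMonoidHom = cj (g * h) := fun g h =>
    Coprime.map_conj_map_conj g h K
  -- `R` normalizes `M`
  have hRM : R ≤ normalizer (M : Set X) := by
    intro r hr
    apply Coprime.mem_normalizer_of_map_conj
    rw [hM, Subgroup.map_iSup]
    simp only [hcjmul]
    exact Equiv.iSup_congr (Equiv.mulLeft (⟨r, hr⟩ : R)) fun s => rfl
  -- a Sylow subgroup of `M` normalized by `R`
  have hRsub : IsPGroup p (R.subgroupOf (M ⊔ R)) :=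
    hR.of_equiv (Subgroup.subgroupOfEquivOfLe le_sup_right).symm
  obtain ⟨T, hT⟩ := hRsub.exists_le_sylow
  haveI hMn : (M.subgroupOf (M ⊔ R)).Normal :=
    (Subgroup.normal_subgroupOf_iff_le_normalizer le_sup_left).mpr (sup_le Subgroup.le_normalizer hRM)
  set T' : Subgroup X := (T : Subgroup ↥(M ⊔ R)).map (M ⊔ R).subtype with hT'
  have hT'p : IsPGroup p T' := T.isPGroup'.map _
  have hRT : R ≤ T' := by
    rw [← Subgroup.map_subgroupOf_eq_of_le (le_sup_right : R ≤ M ⊔ R)]
    exact Subgroup.map_mono hT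
  set P : Subgroup X := M ⊓ T' with hP
  have hPsyl : ∃ P' : Sylow p M, (P' : Subgroup M).map M.subtype = P := by
    have hle : M ≤ M ⊔ R := le_sup_left
    obtain ⟨Q⟩ : Nonempty (Sylow p M) := inferInstance
    have hQp : IsPGroup p ((Q : Subgroup M).map (Subgroup.inclusion hle)) := Q.isPGroup'.map _
    obtain ⟨T2, hT2⟩ := hQp.exists_le_sylow
    obtain ⟨g, hg⟩ := MulAction.exists_smul_eq ↥(M ⊔ R) T2 T
    have hgM : (g : X) ∈ normalizer (M : Set X) := (sup_le Subgroup.le_normalizer hRM) g.2
    have hQP : ((Q : Subgroup M).map M.subtype).map (MulAut.conj (g : X)).toMonoidHom ≤ P := by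
      rintro _ ⟨_, ⟨q, hq, rfl⟩, rfl⟩
      refine ⟨Coprime.conj_mem hgM q.2, g * Subgroup.inclusion hle q * g⁻¹, ?_, rfl⟩
      rw [← hg, SetLike.mem_coe, Sylow.coe_subgroup_smul]
      exact ⟨_, hT2 ⟨q, hq, rfl⟩, rfl⟩
    refine ⟨Sylow.ofCard (P.subgroupOf M) ?_, by
      rw [Sylow.coe_ofCard, Subgroup.map_subgroupOf_eq_of_le inf_le_left]⟩
    rw [Nat.card_congr (Subgroup.subgroupOfEquivOfLe (inf_le_left : P ≤ M)).toEquiv, ← Q.card_eq_multiplicity]
    obtain ⟨Q2, hQ2⟩ := ((hT'p.to_le inf_le_right : IsPGroup p P).of_equiv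
      (Subgroup.subgroupOfEquivOfLe (inf_le_left : P ≤ M)).symm).exists_le_sylow
    refine le_antisymm ?_ ?_
    · rw [← Nat.card_congr (Subgroup.subgroupOfEquivOfLe (inf_le_left : P ≤ M)).toEquiv,
        Q.card_eq_multiplicity, ← Q2.card_eq_multiplicity]
      exact Subgroup.card_le_of_le hQ2
    · calc Nat.card (Q : Subgroup M)
          = Nat.card ↥(((Q : Subgroup M).map M.subtype).map (MulAut.conj (g : X)).toMonoidHom) := by
            rw [Coprime.card_map_conj, Subgroup.card_map_of_injective M.subtype_injective]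
        _ ≤ Nat.card P := Subgroup.card_le_of_le hQP
  have hKM : K ≤ M := by
    refine le_trans (le_of_eq ?_) (le_iSup (fun r : R => cj r) 1)
    show K = cj (1 : X)
    exact (Coprime.map_conj_one K).symm
  have hPZ : ¬ P ≤ Cfsg.pCore p X := by
    intro hle
    obtain ⟨P', hP'⟩ := hPsyl
    refine Components.qsSub_not_le_of_isSolvable hK.2 ?_ ((Components.pElemClosure_component hX hK).ge.trans
      ((Components.pElemClosure_mono hKM).trans (pElemClosure_le_of_sylow P' (hP'.le.trans hle))))
    haveI := (Cores.pCore_isPGroup (p := p) (G := X)).isNilpotent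
    exact inferInstance
  -- an element of `P` outside `O_p(X)` normalizing `R`
  obtain ⟨x, hxP, hxR, hxZ⟩ : ∃ x ∈ P, x ∈ normalizer (R : Set X) ∧ x ∉ Cfsg.pCore p X := by
    by_cases hPR : P ≤ R
    · obtain ⟨x, hx, hx'⟩ := SetLike.not_le_iff_exists.mp hPZ
      exact ⟨x, hx, Subgroup.le_normalizer (hPR hx), hx'⟩
    have hlt : R.subgroupOf T' < ⊤ := lt_top_iff_ne_top.mpr fun h =>
      hPR (inf_le_right.trans (Subgroup.subgroupOf_eq_top.mp h))
    -- inside `P ⊔ R`
    have hPR' : P ⊔ R ≤ T' := sup_le inf_le_right hRT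
    haveI : Group.IsNilpotent ↥(P ⊔ R) := (hT'p.to_le hPR').isNilpotent
    have hlt' : R.subgroupOf (P ⊔ R) < ⊤ := lt_top_iff_ne_top.mpr fun h =>
      hPR (le_sup_left.trans (Subgroup.subgroupOf_eq_top.mp h))
    obtain ⟨⟨y, hy⟩, hyn, hyR⟩ :=
      SetLike.exists_of_lt (Group.normalizerCondition_of_isNilpotent _ hlt')
    have hyN : y ∈ normalizer (R : Set X) := by
      have h := Subgroup.le_normalizer_map (P ⊔ R).subtype
        (Subgroup.mem_map_of_mem (P ⊔ R).subtype hyn)
      rwa [Subgroup.map_subgroupOf_eq_of_le (le_sup_right : R ≤ P ⊔ R)] at h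
    have hPn : R ≤ normalizer (P : Set X) :=
      (le_inf hRM (hRT.trans Subgroup.le_normalizer)).trans Subgroup.inf_normalizer_le_normalizer_inf
    obtain ⟨u, hu, r, hr, rfl⟩ := (Coprime.mem_sup_iff hPn).mp hy
    refine ⟨u, hu, ?_, fun huZ => hyR (show u * r ∈ R from mul_mem (hZ huZ) hr)⟩
    exact (Subgroup.mul_mem_cancel_right _ (Subgroup.le_normalizer hr)).mp hyN
  have hxM : x ∈ M := hxP.1
  have hcomm : ∀ r : R, (r : X) * d = d * r := fun r =>
    Subgroup.mem_centralizer_iff.mp hdR r r.2
  -- `d` cannot move the orbit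
  obtain ⟨r, hrK⟩ : ∃ r : R, cj d = cj r := by
    by_contra hno
    push Not at hno
    have hne : ∀ r s : R, cj r ≠ cj (d * s) := by
      intro r s h
      apply hno (s⁻¹ * r)
      have h' := congrArg (Subgroup.map (MulAut.conj ((s : X)⁻¹)).toMonoidHom) h
      rw [hcjmul, hcjmul, ← hcomm s, inv_mul_cancel_left] at h'
      exact h'.symm
    set y := d * x * d⁻¹ with hy
    have hyM : y ∈ M.map (MulAut.conj d).toMonoidHom := ⟨x, hxM, rfl⟩
    have hMM : ⁅M, M.map (MulAut.conj d).toMonoidHom⁆ = ⊥ := by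
      rw [Subgroup.commutator_eq_bot_iff_le_centralizer, hM, Subgroup.map_iSup, iSup_le_iff]
      intro r
      rw [Subgroup.le_centralizer_iff, iSup_le_iff]
      intro s
      rw [hcjmul, Subgroup.le_centralizer_iff, ← Subgroup.commutator_eq_bot_iff_le_centralizer]
      exact Components.components_commute (Components.component_conj hK _)
        (Components.component_conj hK _) (hne r s)
    have hxy : Commute x y := Components.commute_of_commutator_eq_bot hMM hxM hyM
    have hlay : ∀ g : X, cj g ≤ Cfsg.layer X := fun g =>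
      Components.component_le_layer (Components.component_conj hK g)
    have hxE : x ∈ Cfsg.layer X := (iSup_le fun r : R => hlay r) hxM
    have hmem : y * x⁻¹ ∈ D₀ := hcom x hxE hxR
    have hxp : ∃ k : ℕ, x ^ p ^ k = 1 := by
      obtain ⟨k, hk⟩ := hT'p ⟨x, hxP.2⟩
      exact ⟨k, by simpa using congrArg Subtype.val hk⟩
    obtain ⟨k, hk⟩ := hxp
    have hyx : (y * x⁻¹) ^ p ^ k = 1 := by
      rw [hxy.symm.inv_right.mul_pow, inv_pow, hk, hy, conj_pow, hk]
      group
    have h1 : orderOf (y * x⁻¹) = 1 := Nat.eq_one_of_dvd_coprimes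
      (hD₀.pow_right k)
      (Subgroup.orderOf_dvd_natCard _ hmem) (orderOf_dvd_of_pow_eq_one hyx)
    rw [orderOf_eq_one_iff, mul_inv_eq_one] at h1
    apply hxZ
    refine fitting_le_pCore hX ?_
    have hc : x ∈ (Subgroup.center ↥(Cfsg.layer X)).map (Cfsg.layer X).subtype := by
      refine (Components.mem_center_map_iff _ x).mpr ⟨hxE, fun w hw => ?_⟩
      have : Cfsg.layer X ≤ centralizer ({x} : Set X) := Components.layer_le_iff.mpr fun L hL w hw => by
        rw [Subgroup.mem_centralizer_singleton_iff]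
        by_cases hL' : ∃ r : R, L = cj r
        · obtain ⟨r, rfl⟩ := hL'
          exact Components.commute_of_commutator_eq_bot hMM
            ((le_iSup (fun r : R => cj r) r) hw) (h1 ▸ hyM)
        · push Not at hL'
          have hLM : ⁅L, M⁆ = ⊥ := by
            rw [Subgroup.commutator_comm, Subgroup.commutator_eq_bot_iff_le_centralizer, hM, iSup_le_iff]
            exact fun r => Subgroup.commutator_eq_bot_iff_le_centralizer.mp
              (Components.components_commute (Components.component_conj hK _) hL (hL' r).symm)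
          exact Components.commute_of_commutator_eq_bot hLM hw hxM
      exact Subgroup.mem_centralizer_singleton_iff.mp (this hw)
    rw [Components.center_layer_eq_fitting_inf] at hc
    exact hc.1
  -- `d` fixes each member of the orbit
  set e := (r : X)⁻¹ * d with he
  have heK : e ∈ normalizer (K : Set X) := by
    apply Coprime.mem_normalizer_of_map_conj
    show cj e = K
    rw [he, ← hcjmul, hrK, hcjmul, inv_mul_cancel]
    exact Coprime.map_conj_one K
  have hre : Commute (r : X) e := ((Commute.refl (r : X)).inv_right).mul_right (hcomm r)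
  have hde : d = (r : X) * e := by rw [he, mul_inv_cancel_left]
  have hn : (r : X) ^ orderOf d ∈ normalizer (K : Set X) := by
    have h1 : (r : X) ^ orderOf d * e ^ orderOf d = 1 := by
      rw [← hre.mul_pow, ← hde, pow_orderOf_eq_one]
    rw [eq_inv_of_mul_eq_one_left h1]
    exact inv_mem (pow_mem heK _)
  obtain ⟨k, hk⟩ := hR r
  have hcop : Nat.Coprime (orderOf d) (p ^ k) := hdo.pow_right k
  have hr' : orderOf (r : X) ∣ p ^ k := orderOf_dvd_of_pow_eq_one (by simpa using congrArg Subtype.val hk)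
  obtain ⟨m, hm⟩ := exists_pow_eq_self_of_coprime (Nat.Coprime.coprime_dvd_right hr' hcop)
  rw [hde]
  exact mul_mem (hm ▸ pow_mem hn m) heK

/-- `O_{p'}(N(R))` normalizes every component, when `O_p(X) ≤ R`. -/
theorem coreOf_le_normalizer_component_aux (hX : Cfsg.pPrimeCore p X = ⊥) {R : Subgroup X}
    (hR : IsPGroup p R) (hZ : Cfsg.pCore p X ≤ R) {K : Subgroup X} (hK : Cfsg.IsComponent K) :
    coreOf p (normalizer (R : Set X)) ≤ normalizer (K : Set X) := fun d hd =>
  mem_normalizer_component hX hR hZ hK (coreOf_le_centralizer hR hd)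
    (Nat.Coprime.coprime_dvd_left (Subgroup.orderOf_dvd_natCard _ hd) (coprime_coreOf _))
    (coprime_coreOf (normalizer (R : Set X))) fun x _ hxR => by
      have h := mul_mem hd (Coprime.conj_mem (le_normalizer_coreOf (p := p) _ hxR) (inv_mem hd))
      rwa [show d * (x * d⁻¹ * x⁻¹) = d * x * d⁻¹ * x⁻¹ by group] at h

/-- `O_{p'}(N(R))` normalizes every component. -/
theorem coreOf_le_normalizer_component (hX : Cfsg.pPrimeCore p X = ⊥) {R : Subgroup X}
    (hR : IsPGroup p R) {K : Subgroup X} (hK : Cfsg.IsComponent K) :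
    coreOf p (normalizer (R : Set X)) ≤ normalizer (K : Set X) :=
  (coreOf_le_coreOf_sup_pCore hR).trans (coreOf_le_normalizer_component_aux hX
    (hR.to_sup_of_normal_right Cores.pCore_isPGroup) le_sup_right hK)

/-! ### Passing to a quotient by a normal `p'`-subgroup -/

theorem map_normalizer_of_coprime (N : Subgroup X) [N.Normal] (hN : (Nat.card N).Coprime p)
    {R : Subgroup X} (hR : IsPGroup p R) :
    (normalizer (R : Set X)).map (QuotientGroup.mk' N) =
      normalizer ((R.map (QuotientGroup.mk' N) : Subgroup (X ⧸ N)) : Set (X ⧸ N)) := by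
  refine le_antisymm (Subgroup.le_normalizer_map _) fun z hz => ?_
  obtain ⟨g, rfl⟩ := QuotientGroup.mk'_surjective N z
  haveI := hR.isNilpotent
  obtain ⟨k, hk⟩ := IsPGroup.iff_card.mp hR
  have hle : R.map (MulAut.conj g).toMonoidHom ≤ N ⊔ R := by
    rintro _ ⟨x, hx, rfl⟩
    have h1 : QuotientGroup.mk' N (g * x * g⁻¹) ∈ R.map (QuotientGroup.mk' N) := by
      simp only [map_mul, map_inv]
      exact (Subgroup.mem_normalizer_iff.mp hz _).mp ⟨x, hx, rfl⟩
    have h2 : g * x * g⁻¹ ∈ (R.map (QuotientGroup.mk' N)).comap (QuotientGroup.mk' N) := h1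
    rw [Subgroup.comap_map_eq, QuotientGroup.ker_mk', sup_comm] at h2
    exact h2
  obtain ⟨n, hn, hRn⟩ := Coprime.exists_conj_of_le_sup (N := N) (H₁ := R)
    (by rw [Subgroup.normalizer_eq_top]; exact le_top) hle (Coprime.card_map_conj g R)
    (by rw [hk]; exact hN.symm.pow_left k) (Or.inl inferInstance)
  refine ⟨n⁻¹ * g, Coprime.mem_normalizer_of_map_conj ?_, ?_⟩
  · rw [← Coprime.map_conj_map_conj, hRn, Coprime.map_conj_map_conj, inv_mul_cancel,
      Coprime.map_conj_one]
  · have h : QuotientGroup.mk' N n = 1 := (QuotientGroup.eq_one_iff n).mpr hn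
    rw [map_mul, map_inv, h, inv_one, one_mul]

theorem map_coreOf_le {Y : Type*} [Group Y] [Finite Y] (f : X →* Y) (H : Subgroup X) :
    (coreOf p H).map f ≤ coreOf p (H.map f) :=
  le_coreOf (Subgroup.map_mono (coreOf_le H))
    ((Subgroup.map_mono (le_normalizer_coreOf H)).trans (Subgroup.le_normalizer_map f))
    (Nat.Coprime.coprime_dvd_left (Subgroup.card_map_dvd _ _) (coprime_coreOf H))

end Finite

end Cfsg.Agent.H47
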