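import Mathlib
import Cfsg.Prelude.Def_Transfer
import Cfsg.Agent.H40.Generation

/-!
An elementary abelian 2-group acting faithfully on a group of odd order: an element moved by all of it,
and a subgroup generated by the 2-group and one conjugate in which it still acts faithfully.
-/

set_option autoImplicit false
set_option linter.style.haveILetI false
set_option linter.unusedSectionVars false

namespace Cfsg.Agent.H47.Pair

open Subgroup

universe u v

variable {X : Type u} [Group X] [Finite X]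

theorem eq_one_of_sq_of_odd {x : X} {n : ℕ} (hn : Odd n) (h2 : x * x = 1) (h : x ^ n = 1) : x = 1 := by
  obtain ⟨k, rfl⟩ := hn
  rwa [pow_succ, pow_mul, pow_two, h2, one_pow, one_mul] at h

/-- Some element of `Y` is moved by every nontrivial element of `B`. -/
theorem exists_moved {B Y : Subgroup X} (hB : Cfsg.IsElementaryAbelian 2 B)
    (hBY : B ≤ normalizer (Y : Set X)) (hY : Odd (Nat.card Y)) (hfaith : B ⊓ centralizer (Y : Set X) = ⊥) :
    ∃ y ∈ Y, B ⊓ centralizer ({y} : Set X) = ⊥ := by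
  obtain ⟨y, hy, hmin⟩ := Set.exists_min_image (Y : Set X)
    (fun y => Nat.card ↥(B ⊓ centralizer ({y} : Set X))) (Set.toFinite _) ⟨1, Y.one_mem⟩
  refine ⟨y, hy, (eq_bot_iff_forall _).mpr fun c hc => ?_⟩
  by_contra hc1
  obtain ⟨w, hw, hwc⟩ : ∃ w ∈ Y, w * c ≠ c * w := by
    by_contra hcon
    push Not at hcon
    exact hc1 (mem_bot.mp (hfaith ▸ ⟨hc.1, mem_centralizer_iff.mpr hcon⟩))
  have hc2 : c * c = 1 := by rw [← pow_two]; exact hB.2 c hc.1
  have hcinv : c⁻¹ = c := inv_eq_of_mul_eq_one_right hc2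
  set v := w⁻¹ * (c * w * c⁻¹) with hv
  have hvY : v ∈ Y := mul_mem (inv_mem hw) ((mem_normalizer_iff.mp (hBY hc.1) w).mp hw)
  have hvi : c * v * c⁻¹ = v⁻¹ := by
    rw [hv, hcinv]
    simp only [mul_inv_rev, inv_inv, hcinv, mul_assoc]
    rw [hc2, mul_one]
  have hv1 : v ≠ 1 := fun h => hwc (by
    rw [hv, inv_mul_eq_one] at h
    exact mul_inv_eq_iff_eq_mul.mp h.symm |>.symm)
  have hodd : ∀ z ∈ Y, z ^ Nat.card Y = 1 := fun z hz => by
    exact congrArg Subtype.val (pow_card_eq_one' (x := (⟨z, hz⟩ : Y)))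
  have hcy : Commute c y := (mem_centralizer_singleton_iff.mp hc.2)
  have hcyv : c * (y * v) * c⁻¹ = y * v⁻¹ := by
    rw [show c * (y * v) * c⁻¹ = (c * y * c⁻¹) * (c * v * c⁻¹) by group, hvi, hcy.eq, mul_inv_cancel_right]
  have hle : B ⊓ centralizer ({y * v} : Set X) ≤ B ⊓ centralizer ({y} : Set X) := by
    rintro b ⟨hb, hbc⟩
    refine ⟨hb, mem_centralizer_singleton_iff.mpr ?_⟩
    have h1 : Commute b (y * v) := mem_centralizer_singleton_iff.mp hbc
    have h2 : Commute b c := congrArg Subtype.val (hB.1.is_comm.comm (⟨b, hb⟩ : B) ⟨c, hc.1⟩)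
    have h3 : Commute b (y * v⁻¹) := hcyv ▸ (h2.mul_right h1).mul_right h2.inv_right
    have h4 : Commute b (v * v) := by
      have := h3.inv_right.mul_right h1
      rwa [show (y * v⁻¹)⁻¹ * (y * v) = v * v by group] at this
    have h5 : Commute b v := by
      obtain ⟨k, hk⟩ := hY
      have h6 := h4.pow_right (k + 1)
      rwa [← pow_two, ← pow_mul, show 2 * (k + 1) = (2 * k + 1) + 1 by ring, ← hk, pow_succ, hodd v hvY,
        one_mul] at h6
    have := h1.mul_right h5.inv_right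
    rwa [mul_inv_cancel_right] at this
  have hne : B ⊓ centralizer ({y * v} : Set X) ≠ B ⊓ centralizer ({y} : Set X) := by
    intro h
    have h1 : Commute c (y * v) := mem_centralizer_singleton_iff.mp (h ▸ hc).2
    rw [h1.eq, mul_inv_cancel_right, mul_left_cancel_iff, eq_comm, inv_eq_iff_mul_eq_one] at hcyv
    exact hv1 (eq_one_of_sq_of_odd hY hcyv (hodd v hvY))
  have hlt : Nat.card ↥(B ⊓ centralizer ({y * v} : Set X)) < Nat.card ↥(B ⊓ centralizer ({y} : Set X)) :=
    lt_of_le_of_ne (card_le_of_le hle) fun h => hne (eq_of_le_of_card_ge hle h.ge)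
  exact absurd (hmin (y * v) (Y.mul_mem hy hvY)) (not_le.mpr hlt)

variable {M : Type v} [Group M] [Finite M]

/-- The subgroup generated by `B` and its conjugate by `h`. -/
def pairSub (B : Subgroup M) (h : M) : Subgroup M := B ⊔ B.map (MulAut.conj h).toMonoidHom

theorem pairSub_le {B : Subgroup M} {h : M} {L : Subgroup M} (hB : B ≤ L) (hh : h ∈ L) :
    pairSub B h ≤ L :=
  sup_le hB (by rintro _ ⟨b, hb, rfl⟩; exact mul_mem (mul_mem hh (hB hb)) (inv_mem hh))

/-- A pair of conjugates of `B` generating a subgroup in which `B` acts faithfully on the part over `F`. -/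
theorem exists_pair (π : M →* X) (hπ : Function.Surjective π) {B : Subgroup M}
    (hB : Cfsg.IsElementaryAbelian 2 B) (F : Subgroup X) [F.Normal] (hF : Odd (Nat.card F))
    (hfaith : B.map π ⊓ centralizer (F : Set X) = ⊥) :
    ∃ h : M, h ∈ pairSub B h ∧
      ∀ b ∈ B, (∀ l ∈ pairSub B h, π l ∈ F → π b * π l = π l * π b) → π b = 1 := by
  set B' := B.map π with hB'
  have hB'e : Cfsg.IsElementaryAbelian 2 B' := by
    refine ⟨⟨⟨?_⟩⟩, ?_⟩
    · rintro ⟨_, a, ha, rfl⟩ ⟨_, c, hc, rfl⟩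
      exact Subtype.ext ((map_mul π a c).symm.trans
        ((congrArg π (congrArg Subtype.val (hB.1.is_comm.comm (⟨a, ha⟩ : B) ⟨c, hc⟩))).trans (map_mul π c a)))
    · rintro _ ⟨a, ha, rfl⟩; rw [← map_pow, hB.2 a ha, map_one]
  obtain ⟨y, hy, hy'⟩ := exists_moved hB'e (by rw [normalizer_eq_top]; exact le_top) hF hfaith
  obtain ⟨g, rfl⟩ := hπ y
  obtain ⟨h, ⟨hhF, hhB⟩, hmin⟩ := Set.exists_min_image
    {h : M | π h ∈ F ∧ B' ⊓ centralizer ({π h} : Set X) = ⊥} (fun h => Nat.card (pairSub B h))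
    (Set.toFinite _) ⟨g, hy, hy'⟩
  set L := pairSub B h with hL
  have hBL : B ≤ L := le_sup_left
  -- `B` is faithful on the part of `L` over `F`
  have hfaith' : ∀ b ∈ B, (∀ l ∈ L, π l ∈ F → π b * π l = π l * π b) → π b = 1 := by
    intro b hb hc
    set k := π b with hk
    have hk2 : k * k = 1 := by rw [hk, ← map_mul, ← pow_two, hB.2 b hb, map_one]
    set l := h * b * h⁻¹ * b⁻¹ with hl
    have hlL : l ∈ L := mul_mem (mem_sup_right ⟨b, hb, rfl⟩) (inv_mem (hBL hb))
    have hπl : π l = π h * k * (π h)⁻¹ * k⁻¹ := by simp [hl, hk]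
    have hlF : π l ∈ F := by
      rw [hπl, show π h * k * (π h)⁻¹ * k⁻¹ = π h * (k * (π h)⁻¹ * k⁻¹) by group]
      exact mul_mem hhF (Normal.conj_mem inferInstance _ (inv_mem hhF) k)
    have hcom := hc l hlL hlF
    have hkinv : k⁻¹ = k := inv_eq_of_mul_eq_one_right hk2
    have hsq : π l * π l = 1 := by
      have h1 : k * π l * k⁻¹ = (π l)⁻¹ := by
        rw [hπl, hkinv]
        simp only [mul_inv_rev, inv_inv, hkinv, mul_assoc]
        rw [hk2, mul_one]
      rw [hcom, mul_inv_cancel_right] at h1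
      calc π l * π l = π l * (π l)⁻¹ := by rw [← h1]
        _ = 1 := mul_inv_cancel _
    have hl1 : π l = 1 := eq_one_of_sq_of_odd hF hsq
      (congrArg Subtype.val (pow_card_eq_one' (x := (⟨π l, hlF⟩ : F))))
    rw [hπl] at hl1
    have h2 : k ∈ B' ⊓ centralizer ({π h} : Set X) := by
      refine ⟨⟨b, hb, rfl⟩, mem_centralizer_singleton_iff.mpr ?_⟩
      rw [mul_inv_eq_one, mul_inv_eq_iff_eq_mul] at hl1
      exact hl1.symm
    rwa [hhB, mem_bot] at h2
  -- minimality puts `h` into `L`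
  set Y := L.map π ⊓ F with hY
  have hBY : B' ≤ normalizer (Y : Set X) := by
    rintro _ ⟨b, hb, rfl⟩
    refine mem_normalizer_iff.mpr fun z => ⟨fun hz => ⟨?_, Normal.conj_mem inferInstance z hz.2 _⟩,
      fun hz => ⟨?_, ?_⟩⟩
    · show π b * z * (π b)⁻¹ ∈ L.map π
      exact mul_mem (mul_mem (Subgroup.mem_map_of_mem π (hBL hb)) hz.1) (inv_mem (Subgroup.mem_map_of_mem π (hBL hb)))
    · have := mul_mem (mul_mem (inv_mem (Subgroup.mem_map_of_mem π (hBL hb))) hz.1) (Subgroup.mem_map_of_mem π (hBL hb))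
      simpa [mul_assoc] using this
    · have := Normal.conj_mem (inferInstance : F.Normal) _ hz.2 (π b)⁻¹
      simpa [mul_assoc] using this
  have hYodd : Odd (Nat.card Y) := hF.of_dvd_nat (card_dvd_of_le inf_le_right)
  have hYfaith : B' ⊓ centralizer (Y : Set X) = ⊥ := by
    rw [eq_bot_iff]
    rintro _ ⟨⟨b, hb, rfl⟩, hc⟩
    exact mem_bot.mpr (hfaith' b hb fun l hl hlF =>
      (mem_centralizer_iff.mp hc (π l) ⟨mem_map_of_mem π hl, hlF⟩).symm)
  obtain ⟨y, ⟨⟨h', hh', hh'y⟩, hyF⟩, hyc⟩ := exists_moved hB'e hBY hYodd hYfaith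
  subst hh'y
  have hle : pairSub B h' ≤ L := pairSub_le hBL hh'
  have heq : pairSub B h' = L := eq_of_le_of_card_ge hle (hmin h' ⟨hyF, hyc⟩)
  exact ⟨h', by rw [heq]; exact hh', by rw [heq]; exact hfaith'⟩

end Cfsg.Agent.H47.Pair
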