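import Mathlib
import Cfsg.Prelude.Def_LocalEven
import Cfsg.Agent.H40.Generation
import Cfsg.Agent.H58.Involve
import Cfsg.Agent.Cores.Fitting
import Cfsg.Agent.Cores.PCore
import Cfsg.Agent.Components.BenderUnique

/-!
Solvable groups without sections `S₃` acting on an elementary abelian 2-group: an elementary abelian
2-subgroup `B` has `|B / B ∩ D|²` at most the index of its fixed points, `D` acting as a 2-group.
-/

set_option autoImplicit false
set_option linter.style.haveILetI false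
set_option linter.unusedSectionVars false

namespace Cfsg.Agent.H47.SB

open Subgroup

universe u v

variable {G : Type u} [Group G] {V : Type v} [CommGroup V]

/-- The points fixed by `B`. -/
def fixed (φ : G →* MulAut V) (B : Subgroup G) : Subgroup V where
  carrier := {v | ∀ b ∈ B, φ b v = v}
  one_mem' := fun b _ => map_one (φ b)
  mul_mem' := fun {x y} hx hy b hb => by rw [map_mul, hx b hb, hy b hb]
  inv_mem' := fun {x} hx b hb => by rw [map_inv, hx b hb]

theorem mem_fixed {φ : G →* MulAut V} {B : Subgroup G} {v : V} :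
    v ∈ fixed φ B ↔ ∀ b ∈ B, φ b v = v := Iff.rfl

theorem fixed_anti {φ : G →* MulAut V} {B C : Subgroup G} (h : B ≤ C) : fixed φ C ≤ fixed φ B :=
  fun _ hv b hb => hv b (h hb)

theorem apply_mul (φ : G →* MulAut V) (g h : G) (v : V) : φ (g * h) v = φ g (φ h v) := by
  rw [map_mul]; rfl

theorem inv_apply (φ : G →* MulAut V) (g : G) (v : V) : φ g⁻¹ (φ g v) = v := by
  rw [← apply_mul, inv_mul_cancel, map_one]; rfl

theorem apply_inv (φ : G →* MulAut V) (g : G) (v : V) : φ g (φ g⁻¹ v) = v := by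
  rw [← apply_mul, mul_inv_cancel, map_one]; rfl

/-- A moved vector can not be moved by a constant of odd period. -/
theorem eq_one_of_pow_odd {x : V} (hx : x * x = 1) {n : ℕ} (hn : Odd n) (h : x ^ n = 1) : x = 1 := by
  obtain ⟨k, rfl⟩ := hn
  rwa [pow_succ, pow_mul, pow_two, hx, one_pow, one_mul] at h

theorem apply_pow_eq (φ : G →* MulAut V) {f : G} {x c : V} (h : φ f x = x * c) (hc : φ f c = c) :
    ∀ n : ℕ, φ (f ^ n) x = x * c ^ n := by
  intro n
  induction n with
  | zero => rw [pow_zero, map_one, pow_zero, mul_one]; rfl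
  | succ n ih => rw [pow_succ', apply_mul, ih, map_mul, map_pow, hc, h, mul_assoc, ← pow_succ']

theorem pow_apply_eq_one (φ : G →* MulAut V) (hV : ∀ x : V, x * x = 1) {f : G} {n : ℕ} (hn : Odd n)
    (hf : f ^ n = 1) {x c : V} (h : φ f x = x * c) (hc : φ f c = c) : c = 1 := by
  refine eq_one_of_pow_odd (hV c) hn ?_
  have := apply_pow_eq φ h hc n
  rw [hf, map_one] at this
  exact mul_eq_left.mp this.symm

/-- An element of odd order centralizing a 2-group `B` and its fixed points acts trivially. -/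
theorem fix_of_fix_fixed [Finite V] (φ : G →* MulAut V) (hV : ∀ x : V, x * x = 1) {B : Subgroup G}
    (hB : IsPGroup 2 B) {f : G} {n : ℕ} (hn : Odd n) (hf : f ^ n = 1)
    (hc : ∀ b ∈ B, b * f = f * b) (hfix : ∀ x ∈ fixed φ B, φ f x = x) (x : V) : φ f x = x := by
  haveI : Fact (Nat.Prime 2) := ⟨Nat.prime_two⟩
  let ψ : V →* V :=
    { toFun := fun x => φ f x * x⁻¹
      map_one' := by simp
      map_mul' := fun a b => by rw [map_mul, mul_inv]; exact mul_mul_mul_comm _ _ _ _ }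
  have hψ : ∀ b ∈ B, ∀ y, ψ (φ b y) = φ b (ψ y) := fun b hb y => by
    show φ f (φ b y) * (φ b y)⁻¹ = φ b (φ f y * y⁻¹)
    rw [map_mul, map_inv, ← apply_mul, ← apply_mul, hc b hb]
  have key : ψ.range = ⊥ := by
    by_contra hne
    let _ : MulAction B ψ.range :=
      { smul := fun b y => ⟨φ b y, by
          obtain ⟨z, hz⟩ := y.2
          exact ⟨φ b z, by rw [hψ b b.2, hz]⟩⟩
        one_smul := fun y => Subtype.ext (by show φ ((1 : B) : G) y = _; rw [Subgroup.coe_one, map_one]; rfl)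
        mul_smul := fun a b y => Subtype.ext (by show φ ((a * b : B) : G) y = _; exact apply_mul φ _ _ _) }
    have h2 : 2 ∣ Nat.card ψ.range := by
      haveI : Nontrivial ψ.range := (nontrivial_iff_ne_bot _).mpr hne
      obtain ⟨⟨y, hy⟩, hy1⟩ := exists_ne (1 : ψ.range)
      have ho : orderOf (⟨y, hy⟩ : ψ.range) = 2 :=
        orderOf_eq_prime (by rw [pow_two]; exact Subtype.ext (hV y)) hy1
      exact ho ▸ orderOf_dvd_natCard _
    obtain ⟨⟨y, hy⟩, hyfix, hy1⟩ := hB.exists_fixed_point_of_prime_dvd_card_of_fixed_point ψ.range h2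
      (a := (1 : ψ.range)) (fun b => Subtype.ext (map_one (φ b)))
    have hyB : y ∈ fixed φ B := fun b hb => congrArg Subtype.val (hyfix ⟨b, hb⟩)
    obtain ⟨w, hw⟩ := hy
    have hw' : φ f w = w * y := by
      rw [← hw]
      show φ f w = w * (φ f w * w⁻¹)
      rw [mul_comm (φ f w), mul_inv_cancel_left]
    exact hy1 (Subtype.ext (pow_apply_eq_one φ hV hn hf hw' (hfix y hyB))).symm
  have : ψ x = 1 := mem_bot.mp (key ▸ ⟨x, rfl⟩)
  exact mul_inv_eq_one.mp this

/-- A dihedral group of order `2p`, `p ≥ 5`: the involution moves at least a four-group. -/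
theorem four_le_index [Finite V] (φ : G →* MulAut V) (hV : ∀ x : V, x * x = 1) {W : Subgroup V}
    {b f : G} {p : ℕ} (hpp : p.Prime) (hp : 5 ≤ p) (hpodd : Odd p) (hf : f ^ p = 1) (hbf : b * f * b⁻¹ = f⁻¹)
    (hWb : ∀ x ∈ W, φ b x ∈ W) (hWf : ∀ x ∈ W, φ f x ∈ W) (hne : ∃ x ∈ W, φ f x ≠ x) :
    4 ≤ (fixed φ (zpowers b)).relIndex W := by
  by_contra hlt
  set F := fixed φ (zpowers b) with hF
  set b' := f * b * f⁻¹ with hb'
  set F' := fixed φ (zpowers b') with hF'
  have hfinv : ∀ x ∈ W, φ f⁻¹ x ∈ W := by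
    intro x hx
    have hk : f⁻¹ = f ^ (p - 1) := inv_eq_of_mul_eq_one_right (by
      rw [← pow_succ', Nat.sub_add_cancel (by omega : 1 ≤ p), hf])
    rw [hk]
    clear hk
    induction (p - 1) with
    | zero => rw [pow_zero, map_one]; exact hx
    | succ k ih => rw [pow_succ', apply_mul]; exact hWf _ ih
  -- the index of `F` in `W` is at most two
  have hpos : F.relIndex W ≠ 0 := index_ne_zero_of_finite
  have hdvd : ∀ K : Subgroup V, K.relIndex W ∣ Nat.card W := fun K => index_dvd_card _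
  have h2 : ∀ K : Subgroup V, K.relIndex W < 4 → K.relIndex W ≤ 2 := by
    intro K hK
    by_contra h3
    have h3' : 3 ∣ Nat.card W := by
      have := hdvd K
      rwa [show K.relIndex W = 3 by omega] at this
    haveI : Fact (Nat.Prime 3) := ⟨Nat.prime_three⟩
    obtain ⟨x, hx⟩ := exists_prime_orderOf_dvd_card' 3 h3'
    have h4 : orderOf x ∣ 2 := orderOf_dvd_of_pow_eq_one (by rw [pow_two]; exact Subtype.ext (hV x))
    rw [hx] at h4
    exact absurd (Nat.le_of_dvd two_pos h4) (by norm_num)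
  have hF2 := h2 F (by omega)
  have hF'2 : F'.relIndex W ≤ 2 := by
    have heq : F' = F.map (φ f).toMonoidHom := by
      ext x
      constructor
      · intro hx
        refine ⟨φ f⁻¹ x, ?_, apply_inv φ f x⟩
        intro c hc
        obtain ⟨k, rfl⟩ := hc
        show φ (b ^ k) (φ f⁻¹ x) = φ f⁻¹ x
        have h1 := hx ((b') ^ k) (zpow_mem (mem_zpowers _) k)
        rw [hb', conj_zpow, apply_mul, apply_mul] at h1
        conv_rhs => rw [← h1, inv_apply]
      · rintro ⟨y, hy, rfl⟩ c hc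
        obtain ⟨k, rfl⟩ := hc
        show φ (b' ^ k) (φ f y) = φ f y
        rw [hb', conj_zpow, apply_mul, inv_apply, apply_mul, hy _ (zpow_mem (mem_zpowers _) k)]
    have hWmap : W.map (φ f).toMonoidHom = W := le_antisymm
      (by rintro _ ⟨y, hy, rfl⟩; exact hWf y hy)
      (fun y hy => ⟨φ f⁻¹ y, hfinv y hy, apply_inv φ f y⟩)
    rw [heq, ← hWmap, relIndex_map_map_of_injective _ _ (φ f).injective]
    exact hF2
  set C := F ⊓ F' with hC
  have hC4 : C.relIndex W ≤ 4 := relIndex_inf_le.trans (Nat.mul_le_mul hF2 hF'2)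
  -- `f²` is the product of the two involutions
  have hff : b' * b⁻¹ = f * f := by
    have h1 : b * f⁻¹ * b⁻¹ = f := by
      have := congrArg (·⁻¹) hbf
      simpa [mul_assoc] using this
    calc b' * b⁻¹ = f * (b * f⁻¹ * b⁻¹) := by rw [hb']; group
      _ = f * f := by rw [h1]
  have hfC : ∀ x ∈ C, φ f x = x := by
    intro x hx
    have h1 : φ (f * f) x = x := by
      rw [← hff, apply_mul, hx.1 _ (inv_mem (mem_zpowers b)), hx.2 _ (mem_zpowers b')]
    have h2 : ∀ k : ℕ, φ ((f * f) ^ k) x = x := by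
      intro k
      induction k with
      | zero => rw [pow_zero, map_one]; rfl
      | succ k ih => rw [pow_succ', apply_mul, ih, h1]
    obtain ⟨k, hk⟩ := hpodd
    have := h2 (k + 1)
    rwa [← pow_two, ← pow_mul, show 2 * (k + 1) = (2 * k + 1) + 1 by ring, ← hk, pow_succ, hf,
      one_mul] at this
  -- `f` permutes the cosets of `C` in `W`
  set C' := C.subgroupOf W with hC'
  let σ : Equiv.Perm (W ⧸ C') :=
    (Equiv.ofBijective (fun q : W ⧸ C' => Quotient.map' (fun x : W => (⟨φ f x, hWf x x.2⟩ : W))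
      (fun a c hac => QuotientGroup.leftRel_apply.mpr (by
        have h0 : a⁻¹ * c ∈ C' := QuotientGroup.leftRel_apply.mp hac
        have h1 : ((a : V))⁻¹ * c ∈ C := h0
        have h2 : (φ f a)⁻¹ * φ f c ∈ C := by rw [← map_inv, ← map_mul, hfC _ h1]; exact h1
        exact h2)) q) ⟨fun q r hqr => by
          induction q using QuotientGroup.induction_on with | _ a => ?_
          induction r using QuotientGroup.induction_on with | _ c => ?_
          have hqr' : (QuotientGroup.mk (⟨φ f a, hWf a a.2⟩ : W) : W ⧸ C') =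
              QuotientGroup.mk ⟨φ f c, hWf c c.2⟩ := hqr
          have h0 : (⟨φ f a, hWf a a.2⟩ : W)⁻¹ * ⟨φ f c, hWf c c.2⟩ ∈ C' := QuotientGroup.eq.mp hqr'
          have h1 : (φ f (a : V))⁻¹ * φ f (c : V) ∈ C := h0
          rw [← map_inv, ← map_mul] at h1
          have h2 := hfC _ h1
          refine QuotientGroup.eq.mpr (show (a : V)⁻¹ * c ∈ C from ?_)
          rwa [← (φ f).injective h2],
        fun q => by
          induction q using QuotientGroup.induction_on with | _ a => ?_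
          exact ⟨QuotientGroup.mk ⟨φ f⁻¹ a, hfinv a a.2⟩,
            congrArg QuotientGroup.mk (Subtype.ext (apply_inv φ f a))⟩⟩)
  have hσ : ∀ (k : ℕ) (x : W), ∃ y : W, (y : V) = φ (f ^ k) x ∧
      (σ ^ k) (QuotientGroup.mk x) = QuotientGroup.mk y := by
    intro k x
    induction k with
    | zero => exact ⟨x, by rw [pow_zero, map_one]; rfl, rfl⟩
    | succ k ih =>
      obtain ⟨y, hy, hy'⟩ := ih
      refine ⟨⟨φ f y, hWf y y.2⟩, by rw [pow_succ', apply_mul, ← hy], ?_⟩
      rw [pow_succ', Equiv.Perm.mul_apply, hy']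
      rfl
  have hσp : σ ^ p = 1 := Equiv.ext fun q => by
    induction q using QuotientGroup.induction_on with | _ a => ?_
    obtain ⟨y, hy, hy'⟩ := hσ p a
    rw [hy', Equiv.Perm.one_apply]
    refine congrArg QuotientGroup.mk (Subtype.ext ?_)
    rw [hy, hf, map_one]; rfl
  have hσ1 : σ = 1 := by
    classical
    haveI := Fintype.ofFinite (W ⧸ C')
    by_contra hne1
    have hcard : Fintype.card (W ⧸ C') ≤ 4 := by rw [← Nat.card_eq_fintype_card]; exact hC4
    have h1 : orderOf σ ∣ (Fintype.card (W ⧸ C')).factorial := by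
      rw [← Fintype.card_perm]; exact orderOf_dvd_card
    have h3 : orderOf σ ∣ 24 := h1.trans (by
      rw [show (24 : ℕ) = Nat.factorial 4 from rfl]; exact Nat.factorial_dvd_factorial hcard)
    have h4 : (orderOf σ) ∣ p := orderOf_dvd_of_pow_eq_one hσp
    have hne2 : orderOf σ ≠ 1 := fun h => hne1 (orderOf_eq_one_iff.mp h)
    obtain ⟨q, hq, hqd⟩ := Nat.exists_prime_and_dvd hne2
    have h5 : q ∣ 2 ^ 3 * 3 := hqd.trans h3
    have h6 : q ∣ p := hqd.trans h4
    rcases hq.dvd_mul.mp h5 with h | h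
    · have := (Nat.prime_dvd_prime_iff_eq hq Nat.prime_two).mp (hq.dvd_of_dvd_pow h)
      subst this
      exact absurd (even_iff_two_dvd.mpr h6) (Nat.not_even_iff_odd.mpr hpodd)
    · have := (Nat.prime_dvd_prime_iff_eq hq Nat.prime_three).mp h
      subst this
      have := (Nat.prime_dvd_prime_iff_eq Nat.prime_three hpp).mp h6
      omega
  obtain ⟨x, hx, hxne⟩ := hne
  have h1 : (σ ^ 1) (QuotientGroup.mk ⟨x, hx⟩) = QuotientGroup.mk ⟨x, hx⟩ := by rw [hσ1, pow_one]; rfl
  obtain ⟨y, hy, hy'⟩ := hσ 1 ⟨x, hx⟩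
  rw [hy', eq_comm, QuotientGroup.eq] at h1
  have hc : x⁻¹ * φ f x ∈ C := by
    have h : x⁻¹ * (y : V) ∈ C := h1
    rwa [hy, pow_one] at h
  have := pow_apply_eq_one φ hV hpodd hf (c := x⁻¹ * φ f x) (mul_inv_cancel_left x _).symm (hfC _ hc)
  exact hxne (inv_mul_eq_one.mp this).symm

/-- The action on an invariant subgroup. -/
def resAut (φ : G →* MulAut V) (W : Subgroup V) (hW : ∀ g : G, ∀ x ∈ W, φ g x ∈ W) : G →* MulAut W where
  toFun g :=
    { toFun := fun x => ⟨φ g (x : V), hW g x x.2⟩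
      invFun := fun x => ⟨φ g⁻¹ (x : V), hW _ x x.2⟩
      left_inv := fun x => Subtype.ext (inv_apply φ g (x : V))
      right_inv := fun x => Subtype.ext (apply_inv φ g (x : V))
      map_mul' := fun a b => Subtype.ext (map_mul (φ g) (a : V) (b : V)) }
  map_one' := MulEquiv.ext fun x => Subtype.ext (by show φ 1 (x : V) = x; rw [map_one]; rfl)
  map_mul' g h := MulEquiv.ext fun x => Subtype.ext (apply_mul φ g h (x : V))

theorem map_eq_of_invariant (φ : G →* MulAut V) {W : Subgroup V} (hW : ∀ g : G, ∀ x ∈ W, φ g x ∈ W)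
    (g : G) : W.map (φ g).toMonoidHom = W :=
  le_antisymm (by rintro _ ⟨x, hx, rfl⟩; exact hW g x hx)
    (fun x hx => ⟨φ g⁻¹ x, hW _ x hx, apply_inv φ g x⟩)

/-- The action on the quotient by an invariant subgroup. -/
noncomputable def quotAut (φ : G →* MulAut V) (W : Subgroup V) (hW : ∀ g : G, ∀ x ∈ W, φ g x ∈ W) :
    G →* MulAut (V ⧸ W) where
  toFun g := QuotientGroup.congr W W (φ g) (map_eq_of_invariant φ hW g)
  map_one' := MulEquiv.ext fun q => by
    induction q using QuotientGroup.induction_on with | _ a => ?_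
    show (((φ 1) a : V) : V ⧸ W) = _
    rw [map_one]; rfl
  map_mul' g h := MulEquiv.ext fun q => by
    induction q using QuotientGroup.induction_on with | _ a => ?_
    show (((φ (g * h)) a : V) : V ⧸ W) = _
    rw [apply_mul]; rfl

theorem involves_of_surjective {H : Type*} [Group H] {K : Type*} [Group K] (f : G →* H)
    (hf : Function.Surjective f) (h : Cfsg.Involves K H) : Cfsg.Involves K G := by
  obtain ⟨L, g, hg⟩ := H58.Inv.exists_hom_of_involves h
  refine H58.Inv.involves_of_hom (K := L.comap f) (g.comp (f.subgroupComap L)) fun k => ?_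
  obtain ⟨l, rfl⟩ := hg k
  obtain ⟨x, hx⟩ := hf (l : H)
  exact ⟨⟨x, show f x ∈ L from hx ▸ l.2⟩, congrArg g (Subtype.ext hx)⟩

theorem odd_card_fitting [Finite G] (hO : Cfsg.pCore 2 G = ⊥) :
    Odd (Nat.card (Cfsg.fittingSubgroup G)) := by
  haveI : Fact (Nat.Prime 2) := ⟨Nat.prime_two⟩
  rw [← Nat.not_even_iff_odd, even_iff_two_dvd]
  intro h
  obtain ⟨x, hx⟩ := exists_prime_orderOf_dvd_card' 2 h
  have hp : IsPGroup 2 (zpowers (x : G)) := IsPGroup.of_card (n := 1) (by
    rw [Nat.card_zpowers, orderOf_coe, hx, pow_one])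
  have h1 := Components.le_pCore_of_le_fitting hp (zpowers_le.mpr x.2)
  rw [hO, zpowers_le, mem_bot] at h1
  rw [← orderOf_coe, h1, orderOf_one] at hx
  exact absurd hx (by norm_num)

variable [Finite G]

/-- The reduced case. -/
theorem sq_bound_reduced [Finite V] [hsol : Group.IsSolvable G] (hO : Cfsg.pCore 2 G = ⊥)
    (hfree : ¬ Cfsg.Involves (DihedralGroup 3) G) (hV : ∀ x : V, x * x = 1) (φ : G →* MulAut V)
    (hφ : Function.Injective φ) (B : Subgroup G) (hB : Cfsg.IsElementaryAbelian 2 B) :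
    Nat.card B ^ 2 ≤ (fixed φ B).index := by
  haveI : Fact (Nat.Prime 2) := ⟨Nat.prime_two⟩
  induction B using WellFoundedLT.induction with
  | ind B ih =>
  rcases eq_or_ne B ⊥ with rfl | hne
  · rw [card_bot, one_pow]
    exact Nat.one_le_iff_ne_zero.mpr index_ne_zero_of_finite
  set F := Cfsg.fittingSubgroup G with hFdef
  have hFodd : Odd (Nat.card F) := odd_card_fitting hO
  have hBn : B ≤ normalizer (F : Set G) := by rw [normalizer_eq_top]; exact le_top
  -- a hyperplane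
  obtain ⟨B₀, hB₀, hrel, hnle⟩ : ∃ B₀ ≤ B, B₀.relIndex B ≤ 2 ∧
      ¬ F ⊓ centralizer (B₀ : Set G) ≤ centralizer (B : Set G) := by
    by_contra hcon
    push Not at hcon
    have h1 : F ≤ centralizer (B : Set G) := H40.le_of_hyperplanes hB
      (fun h => (Nat.not_even_iff_odd.mpr hFodd) (even_iff_two_dvd.mpr h)) hBn hcon
    have h2 : B ≤ F := (le_centralizer_iff.mp h1).trans Cores.centralizer_fittingSubgroup_le
    obtain ⟨x, hxB, hx1⟩ := (Subgroup.ne_bot_iff_exists_ne_one).mp hne |> fun ⟨x, hx⟩ =>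
      (⟨(x : G), x.2, fun h => hx (Subtype.ext h)⟩ : ∃ x ∈ B, x ≠ (1 : G))
    have h3 : (x : G) ^ Nat.card F = 1 := by
      exact congrArg Subtype.val (pow_card_eq_one' (x := (⟨x, h2 hxB⟩ : F)))
    exact hx1 (orderOf_eq_one_iff.mp (Nat.eq_one_of_dvd_coprimes
      (Nat.coprime_two_left.mpr hFodd) (orderOf_dvd_of_pow_eq_one (hB.2 x hxB))
      (orderOf_dvd_of_pow_eq_one h3)))
  obtain ⟨f₀, hf₀, hf₀B⟩ := SetLike.not_le_iff_exists.mp hnle
  obtain ⟨b, hbB, hbf⟩ : ∃ b ∈ B, b * f₀ ≠ f₀ * b := by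
    by_contra hcon
    push Not at hcon
    exact hf₀B (mem_centralizer_iff.mpr hcon)
  have hb2 : b * b = 1 := by rw [← pow_two]; exact hB.2 b hbB
  have hbinv : b⁻¹ = b := inv_eq_of_mul_eq_one_right hb2
  have hcomm : ∀ x ∈ B, ∀ y ∈ B, x * y = y * x := fun x hx y hy =>
    congrArg Subtype.val (hB.1.is_comm.comm (⟨x, hx⟩ : B) ⟨y, hy⟩)
  set f₁ := f₀⁻¹ * (b * f₀ * b⁻¹) with hf₁
  have hf₁F : f₁ ∈ F := mul_mem (inv_mem hf₀.1) (Normal.conj_mem inferInstance f₀ hf₀.1 b)
  have hf₁C : ∀ c ∈ B₀, c * f₁ = f₁ * c := by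
    intro c hc
    have h1 : Commute c f₀ := mem_centralizer_iff.mp hf₀.2 c hc
    have h2 : Commute c b := hcomm c (hB₀ hc) b hbB
    exact (h1.inv_right.mul_right ((h2.mul_right h1).mul_right h2.inv_right)).eq
  have hf₁i : b * f₁ * b⁻¹ = f₁⁻¹ := by
    rw [hf₁, hbinv]
    simp only [mul_inv_rev, inv_inv, hbinv, mul_assoc]
    rw [hb2, mul_one]
  have hf₁1 : f₁ ≠ 1 := fun h => hbf (by
    rw [hf₁, inv_mul_eq_one] at h
    exact (mul_inv_eq_iff_eq_mul.mp h.symm))
  have ho : orderOf f₁ ∣ Nat.card F := orderOf_mk f₁ hf₁F ▸ orderOf_dvd_natCard (⟨f₁, hf₁F⟩ : F)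
  obtain ⟨p, hp, hpd⟩ := Nat.exists_prime_and_dvd (mt orderOf_eq_one_iff.mp hf₁1)
  haveI : Fact p.Prime := ⟨hp⟩
  have hpodd : Odd p := hFodd.of_dvd_nat (hpd.trans ho)
  set f := f₁ ^ (orderOf f₁ / p) with hfdef
  have hfo : orderOf f = p := by
    rw [hfdef, orderOf_pow_of_dvd (Nat.div_ne_zero_iff.mpr ⟨hp.ne_zero,
      Nat.le_of_dvd (orderOf_pos f₁) hpd⟩) (Nat.div_dvd_of_dvd hpd), Nat.div_div_self hpd (orderOf_pos f₁).ne']
  have hfp : f ^ p = 1 := hfo ▸ pow_orderOf_eq_one f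
  have hfC : ∀ c ∈ B₀, c * f = f * c := fun c hc => ((show Commute c f₁ from hf₁C c hc).pow_right _).eq
  have hfi : b * f * b⁻¹ = f⁻¹ := by rw [hfdef, ← conj_pow, hf₁i, inv_pow]
  have hf1 : f ≠ 1 := fun h => hp.ne_one (hfo.symm.trans (orderOf_eq_one_iff.mpr h))
  have hp5 : 5 ≤ p := by
    by_contra hlt
    have h2 := hp.two_le
    have hp3 : p = 3 := by
      interval_cases p
      · exact absurd hpodd (by decide)
      · rfl
      · exact absurd hpodd (by decide)
    subst hp3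
    refine hfree (H58.Inv.involves_dihedral (x := b) (y := f) (by norm_num) ?_ ⟨1, by rw [hfo, pow_one]⟩ hf1 hfi)
    obtain ⟨k, -, hk⟩ := (Nat.dvd_prime_pow Nat.prime_two).mp
      (orderOf_dvd_of_pow_eq_one (show b ^ 2 ^ 1 = 1 by rw [pow_one, pow_two]; exact hb2))
    exact ⟨k, hk⟩
  have hbB₀ : b ∉ B₀ := fun h => hbf (mem_centralizer_iff.mp hf₀.2 b h)
  have hlt : B₀ < B := lt_of_le_of_ne hB₀ fun h => hbB₀ (h.symm ▸ hbB)
  have hB₀e : Cfsg.IsElementaryAbelian 2 B₀ := H40.elemAb_mono hB hB₀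
  have ihB := ih B₀ hlt hB₀e
  set W := fixed φ B₀ with hW
  have hWb : ∀ x ∈ W, φ b x ∈ W := fun x hx c hc => by
    rw [← apply_mul, hcomm c (hB₀ hc) b hbB, apply_mul, hx c hc]
  have hWf : ∀ x ∈ W, φ f x ∈ W := fun x hx c hc => by
    rw [← apply_mul, hfC c hc, apply_mul, hx c hc]
  have hmove : ∃ x ∈ W, φ f x ≠ x := by
    by_contra hcon
    push Not at hcon
    have := fix_of_fix_fixed φ hV (H40.elemAb_isPGroup hB₀e) hpodd hfp hfC hcon
    exact hf1 (hφ (by rw [map_one]; exact MulEquiv.ext this))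
  have h4 : 4 ≤ (fixed φ B).relIndex W := by
    refine (four_le_index φ hV hp hp5 hpodd hfp hfi hWb hWf hmove).trans ?_
    refine Nat.le_of_dvd (Nat.pos_of_ne_zero index_ne_zero_of_finite) (relIndex_dvd_of_le_left W ?_)
    exact fixed_anti (zpowers_le.mpr hbB)
  have hcard : Nat.card B = Nat.card B₀ * B₀.relIndex B := by
    rw [← relIndex_bot_left B, ← relIndex_bot_left B₀, relIndex_mul_relIndex _ _ _ bot_le hB₀]
  calc Nat.card B ^ 2 ≤ (Nat.card B₀ * 2) ^ 2 := Nat.pow_le_pow_left (hcard ▸ Nat.mul_le_mul_left _ hrel) 2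
    _ = 4 * Nat.card B₀ ^ 2 := by ring
    _ ≤ (fixed φ B).relIndex W * W.index := Nat.mul_le_mul h4 ihB
    _ = (fixed φ B).index := relIndex_mul_index (fixed_anti hB₀)

theorem card_map_sq_le {n : ℕ} : ∀ {V : Type v} [CommGroup V] [Finite V], Nat.card V = n →
    ∀ [Group.IsSolvable G], ¬ Cfsg.Involves (DihedralGroup 3) G → (∀ x : V, x * x = 1) →
    ∀ (φ : G →* MulAut V) (B : Subgroup G), Cfsg.IsElementaryAbelian 2 B →
      ∃ D : Subgroup G, D.Normal ∧ φ.ker ≤ D ∧
        (∀ g ∈ D, ∃ k : ℕ, φ (g ^ 2 ^ k) = 1) ∧ (D.relIndex B) ^ 2 ≤ (fixed φ B).index := by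
  induction n using Nat.strong_induction_on with
  | _ n ih =>
  intro V _ _ hcard hsol hfree hV φ B hB
  haveI : Fact (Nat.Prime 2) := ⟨Nat.prime_two⟩
  set R := φ.range with hR
  set π := φ.rangeRestrict with hπdef
  have hπ : Function.Surjective π := φ.rangeRestrict_surjective
  haveI : Group.IsSolvable R := Group.isSolvable_of_surjective hπ
  have hπker : π.ker = φ.ker := φ.ker_rangeRestrict
  by_cases hO : Cfsg.pCore 2 R = ⊥
  · refine ⟨φ.ker, inferInstance, le_rfl, fun g hg => ⟨0, by simpa using hg⟩, ?_⟩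
    have h1 := sq_bound_reduced (G := R) hO (fun h => hfree (involves_of_surjective π hπ h)) hV
      R.subtype R.subtype_injective (B.map π)
      ⟨⟨⟨by
          rintro ⟨_, a, ha, rfl⟩ ⟨_, c, hc, rfl⟩
          exact Subtype.ext ((map_mul π a c).symm.trans
            ((congrArg π (congrArg Subtype.val (hB.1.is_comm.comm (⟨a, ha⟩ : B) ⟨c, hc⟩))).trans (map_mul π c a)))⟩⟩,
        by rintro _ ⟨a, ha, rfl⟩; rw [← map_pow, hB.2 a ha, map_one]⟩
    rw [← hπker, relIndex_ker]
    refine h1.trans (le_of_eq (congrArg Subgroup.index ?_))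
    ext x
    exact ⟨fun h b hb => h (π b) ⟨b, hb, rfl⟩, fun h => by rintro _ ⟨b, hb, rfl⟩; exact h b hb⟩
  set O := Cfsg.pCore 2 R with hOdef
  have hOp : IsPGroup 2 O := Cores.pCore_isPGroup
  set V₁ := fixed R.subtype O with hV₁
  have hV₁n : V₁ ≠ ⊥ := by
    obtain ⟨r, hr, hr1⟩ := (ne_bot_iff_exists_ne_one).mp hO |> fun ⟨x, hx⟩ =>
      (⟨(x : R), x.2, fun h => hx (Subtype.ext h)⟩ : ∃ r ∈ O, r ≠ (1 : R))
    obtain ⟨x, hx⟩ : ∃ x : V, (r : MulAut V) x ≠ x := by
      by_contra hcon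
      push Not at hcon
      exact hr1 (Subtype.ext (MulEquiv.ext hcon))
    let _ : MulAction O V :=
      { smul := fun o y => ((o : R) : MulAut V) y
        one_smul := fun y => rfl
        mul_smul := fun a c y => rfl }
    have h2 : 2 ∣ Nat.card V := by
      have hx1 : x ≠ 1 := fun h => hx (by rw [h, map_one])
      exact orderOf_eq_prime (by rw [pow_two]; exact hV x) hx1 ▸ orderOf_dvd_natCard x
    obtain ⟨y, hy, hy1⟩ := hOp.exists_fixed_point_of_prime_dvd_card_of_fixed_point V h2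
      (a := (1 : V)) (fun o => map_one ((o : R) : MulAut V))
    intro hb
    exact hy1 (mem_bot.mp (hb ▸ (fun o ho => hy ⟨o, ho⟩ : y ∈ V₁))).symm
  have hV₁t : V₁ ≠ ⊤ := fun h => hO (by
    rw [eq_bot_iff]
    intro o ho
    rw [mem_bot]
    exact Subtype.ext (MulEquiv.ext fun y => (h ▸ mem_top y : y ∈ V₁) o ho))
  have hinv : ∀ g : G, ∀ x ∈ V₁, φ g x ∈ V₁ := by
    intro g x hx o ho
    have h1 := hx ((π g)⁻¹ * o * π g) (by
      simpa using (inferInstance : O.Normal).conj_mem o ho (π g)⁻¹)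
    have h2 : R.subtype ((π g)⁻¹ * o * π g) x = φ g⁻¹ ((o : MulAut V) (φ g x)) := by
      rw [map_inv φ g]; rfl
    rw [h2] at h1
    show (o : MulAut V) (φ g x) = φ g x
    conv_rhs => rw [← h1, apply_inv]
  have hcardV : Nat.card V = V₁.index * Nat.card V₁ := by rw [mul_comm, card_mul_index]
  have hpos1 : 1 < Nat.card V₁ := (Subgroup.one_lt_card_iff_ne_bot V₁).mpr hV₁n
  have hidx : 1 < V₁.index := lt_of_le_of_ne (Nat.one_le_iff_ne_zero.mpr index_ne_zero_of_finite)
    fun h => hV₁t (index_eq_one.mp h.symm)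
  have hlt1 : Nat.card V₁ < n := by rw [← hcard, hcardV]; exact lt_mul_left (by omega) hidx
  have hlt2 : Nat.card (V ⧸ V₁) < n := by
    rw [← hcard, hcardV, ← index_eq_card]; exact lt_mul_right (by omega) hpos1
  set φ₁ := resAut φ V₁ hinv with hφ₁
  set φ₂ := quotAut φ V₁ hinv with hφ₂
  obtain ⟨D₁, hD₁n, hD₁k, hD₁p, hD₁b⟩ := ih _ hlt1 (V := V₁) rfl hfree
    (fun x => Subtype.ext (hV x)) φ₁ B hB
  obtain ⟨D₂, hD₂n, hD₂k, hD₂p, hD₂b⟩ := ih _ hlt2 (V := V ⧸ V₁) rfl hfree
    (fun q => by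
      induction q using QuotientGroup.induction_on with | _ a => ?_
      rw [← QuotientGroup.mk_mul, hV a]; rfl) φ₂ B hB
  refine ⟨D₁ ⊓ D₂, inferInstance, le_inf (fun g hg => hD₁k ?_) (fun g hg => hD₂k ?_), ?_, ?_⟩
  · have hg' : φ g = 1 := hg
    exact MulEquiv.ext fun x => Subtype.ext (show φ g (x : V) = x by rw [hg']; rfl)
  · have hg' : φ g = 1 := hg
    refine MulEquiv.ext fun q => ?_
    induction q using QuotientGroup.induction_on with | _ a => ?_
    show ((φ g a : V) : V ⧸ V₁) = _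
    rw [hg']; rfl
  · intro g hg
    obtain ⟨k₁, hk₁⟩ := hD₁p g hg.1
    obtain ⟨k₂, hk₂⟩ := hD₂p g hg.2
    set h := g ^ 2 ^ (k₁ + k₂) with hh
    have e1 : φ₁ h = 1 := by rw [hh, pow_add, pow_mul, map_pow, hk₁, one_pow]
    have e2 : φ₂ h = 1 := by rw [hh, pow_add, mul_comm, pow_mul, map_pow, hk₂, one_pow]
    refine ⟨k₁ + k₂ + 1, MulEquiv.ext fun x => ?_⟩
    set c := x⁻¹ * φ h x with hc
    have hc1 : c ∈ V₁ := by
      have h1 : φ₂ h (x : V ⧸ V₁) = x := by rw [e2]; rfl
      have h2 : ((φ h x : V) : V ⧸ V₁) = x := h1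
      exact QuotientGroup.eq.mp h2.symm
    have hc2 : φ h c = c := by
      have h3 : φ₁ h ⟨c, hc1⟩ = ⟨c, hc1⟩ := by rw [e1]; rfl
      exact congrArg Subtype.val h3
    have := apply_pow_eq φ (mul_inv_cancel_left x (φ h x)).symm hc2 2
    rw [pow_two c, hV c, mul_one, hh, ← pow_mul, ← pow_succ] at this
    rw [this]; rfl
  · refine (Nat.pow_le_pow_left relIndex_inf_le 2).trans ?_
    rw [mul_pow]
    set C := fixed φ B with hC
    calc D₁.relIndex B ^ 2 * D₂.relIndex B ^ 2 ≤ (fixed φ₁ B).index * (fixed φ₂ B).index :=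
          Nat.mul_le_mul hD₁b hD₂b
      _ ≤ C.relIndex V₁ * (C ⊔ V₁).index := by
          refine Nat.mul_le_mul (le_of_eq (congrArg Subgroup.index ?_)) ?_
          · ext x
            exact ⟨fun h b hb => congrArg Subtype.val (h b hb), fun h b hb => Subtype.ext (h b hb)⟩
          · rw [← index_comap_of_surjective _ (QuotientGroup.mk'_surjective V₁)]
            refine Nat.le_of_dvd (Nat.pos_of_ne_zero index_ne_zero_of_finite) (index_dvd_of_le ?_)
            refine sup_le (fun x hx b hb => ?_) (fun x hx b hb => ?_)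
            · show ((φ b x : V) : V ⧸ V₁) = x
              rw [hx b hb]
            · show ((φ b x : V) : V ⧸ V₁) = x
              rw [(QuotientGroup.eq_one_iff _).mpr hx, (QuotientGroup.eq_one_iff _).mpr (hinv b x hx)]
      _ = C.index := by
          rw [← relIndex_sup_right (H := V₁) (K := C), sup_comm, relIndex_mul_index le_sup_left]

/-- **The square bound.** -/
theorem sq_bound [Finite V] [Group.IsSolvable G] (hfree : ¬ Cfsg.Involves (DihedralGroup 3) G)
    (hV : ∀ x : V, x * x = 1) (φ : G →* MulAut V) (B : Subgroup G) (hB : Cfsg.IsElementaryAbelian 2 B) :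
    ∃ D : Subgroup G, D.Normal ∧ φ.ker ≤ D ∧ (∀ g ∈ D, ∃ k : ℕ, φ (g ^ 2 ^ k) = 1) ∧
      (D.relIndex B) ^ 2 ≤ (fixed φ B).index :=
  card_map_sq_le rfl hfree hV φ B hB

/-- An element of odd order in the subgroup `D` of the bound acts trivially. -/
theorem apply_eq_one_of_odd (φ : G →* MulAut V) {g : G} (hodd : Odd (orderOf g))
    (h : ∃ k : ℕ, φ (g ^ 2 ^ k) = 1) : φ g = 1 := by
  obtain ⟨k, hk⟩ := h
  obtain ⟨m, hm⟩ := exists_pow_eq_self_of_coprime (x := g) (n := 2 ^ k)
    (Nat.Coprime.pow_left k (Nat.coprime_two_left.mpr hodd))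
  rw [← hm, map_pow, hk, one_pow]

end Cfsg.Agent.H47.SB
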