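import Mathlib
import Cfsg.Prelude.Def_LocalEven
import Cfsg.Agent.H47.SquareBound
import Cfsg.Agent.H47.PairGeneration
import Cfsg.Agent.H58.SFour
import Cfsg.Agent.Coprime.Basic

/-!
Tools for the normality theorem in four-free solvable groups of characteristic two.
-/

set_option autoImplicit false
set_option linter.style.haveILetI false
set_option linter.unusedSectionVars false

namespace Cfsg.Agent.H47.FF

open Subgroup

universe u

variable {M : Type u} [Group M]

/-- Conjugate of a subgroup. -/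
abbrev cj (g : M) (H : Subgroup M) : Subgroup M := H.map (MulAut.conj g).toMonoidHom

theorem mem_cj {g x : M} {H : Subgroup M} : x ∈ cj g H ↔ g⁻¹ * x * g ∈ H := by
  constructor
  · rintro ⟨y, hy, rfl⟩
    simpa [mul_assoc] using hy
  · intro h
    exact ⟨_, h, by simp [mul_assoc]⟩

theorem cj_mono {g : M} {H K : Subgroup M} (h : H ≤ K) : cj g H ≤ cj g K := map_mono h

theorem cj_cj (g h : M) (H : Subgroup M) : cj g (cj h H) = cj (g * h) H := by
  ext x; simp only [mem_cj, mul_inv_rev, mul_assoc]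

theorem cj_one (H : Subgroup M) : cj 1 H = H := by
  ext x; simp [mem_cj]

theorem cj_centralizer (g : M) (H : Subgroup M) :
    cj g (centralizer (H : Set M)) = centralizer ((cj g H : Subgroup M) : Set M) := by
  ext x
  rw [mem_cj, mem_centralizer_iff, mem_centralizer_iff]
  constructor
  · intro h y hy
    have h1 := congrArg (fun z => g * z * g⁻¹) (h _ (mem_cj.mp hy))
    simpa [mul_assoc] using h1
  · intro h y hy
    have h1 := congrArg (fun z => g⁻¹ * z * g) (h (g * y * g⁻¹) ⟨y, hy, rfl⟩)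
    simpa [mul_assoc] using h1

theorem cj_of_normal (g : M) (H : Subgroup M) [H.Normal] : cj g H = H :=
  Coprime.map_conj_eq (by rw [normalizer_eq_top]; exact mem_top _)

theorem relIndex_cj (g : M) (H K : Subgroup M) : (cj g H).relIndex (cj g K) = H.relIndex K :=
  relIndex_map_map_of_injective _ _ (MulAut.conj g).injective

theorem mem_normalizer_of_conj_le [Finite M] {g : M} {H : Subgroup M}
    (h : ∀ x ∈ H, g * x * g⁻¹ ∈ H) : g ∈ normalizer (H : Set M) :=
  Coprime.mem_normalizer_of_map_conj (eq_of_le_of_card_ge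
    (by rintro _ ⟨x, hx, rfl⟩; exact h x hx) (Coprime.card_map_conj g H).ge)

theorem normal_of_normalizer_top {H : Subgroup M} (h : (⊤ : Subgroup M) ≤ normalizer (H : Set M)) :
    H.Normal :=
  ⟨fun n hn g => (mem_normalizer_iff.mp (h (mem_top g)) n).mp hn⟩

/-- Index of a subgroup in its product with a subgroup normalizing it. -/
theorem relIndex_sup_eq {K H : Subgroup M} (h : H ≤ normalizer (K : Set M)) :
    K.relIndex (H ⊔ K) = K.relIndex H := by
  set S := normalizer (K : Set M)
  have hK : K ≤ S := le_normalizer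
  haveI : (K.subgroupOf S).Normal := normal_subgroupOf_of_le_normalizer le_rfl
  rw [← relIndex_subgroupOf (sup_le h hK), subgroupOf_sup h hK, relIndex_sup_right,
    relIndex_subgroupOf h]

theorem isPGroup_map_of_odd {L : Type*} [Group L] [Finite L] {X : Type*} [Group X] (f : L →* X)
    (D : Subgroup L) (h : ∀ l ∈ D, Odd (orderOf l) → f l = 1) : IsPGroup 2 (D.map f) := by
  rintro ⟨_, l, hl, rfl⟩
  refine ⟨(orderOf l).factorization 2, Subtype.ext ?_⟩
  show f l ^ 2 ^ (orderOf l).factorization 2 = 1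
  rw [← map_pow]
  refine h _ (pow_mem hl _) ?_
  rw [orderOf_pow' _ (pow_ne_zero _ two_ne_zero), Nat.gcd_eq_right (Nat.ordProj_dvd _ _)]
  exact Nat.coprime_two_left.mp (Nat.coprime_ordCompl Nat.prime_two (orderOf_pos l).ne')

theorem conj_pow_step {l q x : M} (h : l * q * l⁻¹ = x * q) (hx : l * x * l⁻¹ = x) :
    ∀ n : ℕ, l ^ n * q * (l ^ n)⁻¹ = x ^ n * q := by
  intro n
  induction n with
  | zero => simp
  | succ n ih =>
    rw [pow_succ', show l * l ^ n * q * (l * l ^ n)⁻¹ = l * (l ^ n * q * (l ^ n)⁻¹) * l⁻¹ by group, ih,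
      show l * (x ^ n * q) * l⁻¹ = (l * x ^ n * l⁻¹) * (l * q * l⁻¹) by group, ← conj_pow, hx, h,
      ← mul_assoc, ← pow_succ]

/-- A step of a stabilized series collapses for an element of odd order. -/
theorem eq_one_of_step [Finite M] {P : Subgroup M} (hP : IsPGroup 2 P) {l q x : M} (hodd : Odd (orderOf l))
    (hxP : x ∈ P) (h : l * q * l⁻¹ = x * q) (hx : l * x * l⁻¹ = x) : x = 1 := by
  have h1 := conj_pow_step h hx (orderOf l)
  rw [pow_orderOf_eq_one] at h1
  have h2 : x ^ orderOf l = 1 := by simpa using h1.symm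
  obtain ⟨k, hk⟩ := hP ⟨x, hxP⟩
  exact orderOf_eq_one_iff.mp (Nat.eq_one_of_dvd_coprimes
    (Nat.Coprime.pow_left k (Nat.coprime_two_left.mpr hodd))
    (orderOf_dvd_of_pow_eq_one (congrArg Subtype.val hk)) (orderOf_dvd_of_pow_eq_one h2))

section Section

/-- The action on a section by conjugation. -/
noncomputable def sectionHom (L X N : Subgroup M) [hn : (N.subgroupOf X).Normal]
    (hLX : L ≤ normalizer (X : Set M)) (hLN : L ≤ normalizer (N : Set M)) :
    L →* MulAut (X ⧸ N.subgroupOf X) where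
  toFun l := QuotientGroup.congr _ _ (X.normalizerMonoidHom ⟨l, hLX l.2⟩) (by
    ext x
    constructor
    · rintro ⟨y, hy, rfl⟩
      exact (mem_normalizer_iff.mp (hLN l.2) (y : M)).mp hy
    · intro hx
      refine ⟨(X.normalizerMonoidHom ⟨l, hLX l.2⟩).symm x, ?_, MulEquiv.apply_symm_apply _ _⟩
      refine (mem_normalizer_iff.mp (hLN l.2) _).mpr ?_
      have e := congrArg Subtype.val ((X.normalizerMonoidHom ⟨l, hLX l.2⟩).apply_symm_apply x)
      exact Eq.mpr (congrArg (· ∈ N) e) hx)
  map_one' := MulEquiv.ext fun q => by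
    induction q using QuotientGroup.induction_on with | _ a => ?_
    exact congrArg QuotientGroup.mk (Subtype.ext (by
      show ((1 : L) : M) * (a : M) * ((1 : L) : M)⁻¹ = a
      simp))
  map_mul' g h := MulEquiv.ext fun q => by
    induction q using QuotientGroup.induction_on with | _ a => ?_
    exact congrArg QuotientGroup.mk (Subtype.ext (by
      show ((g * h : L) : M) * (a : M) * ((g * h : L) : M)⁻¹ =
        (g : M) * ((h : M) * a * (h : M)⁻¹) * (g : M)⁻¹
      push_cast
      group))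

variable {L X N : Subgroup M} [hn : (N.subgroupOf X).Normal]
  {hLX : L ≤ normalizer (X : Set M)} {hLN : L ≤ normalizer (N : Set M)}

theorem section_fix_iff (l : L) (x : X) :
    sectionHom L X N hLX hLN l (x : X ⧸ N.subgroupOf X) = (x : X ⧸ N.subgroupOf X) ↔
      (l : M) * x * (l : M)⁻¹ * (x : M)⁻¹ ∈ N := by
  have hc : sectionHom L X N hLX hLN l (x : X ⧸ N.subgroupOf X) =
      ((⟨(l : M) * x * (l : M)⁻¹, (mem_normalizer_iff.mp (hLX l.2) _).mp x.2⟩ : X) : X ⧸ N.subgroupOf X) := rfl
  rw [hc, QuotientGroup.eq_iff_div_mem, mem_subgroupOf, div_eq_mul_inv]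
  rfl

theorem section_eq_one_iff (l : L) :
    sectionHom L X N hLX hLN l = 1 ↔ ∀ x ∈ X, (l : M) * x * (l : M)⁻¹ * x⁻¹ ∈ N := by
  constructor
  · intro h x hx
    exact (section_fix_iff (hLX := hLX) (hLN := hLN) l ⟨x, hx⟩).mp (by rw [h]; rfl)
  · intro h
    refine MulEquiv.ext fun q => ?_
    induction q using QuotientGroup.induction_on with | _ a => ?_
    exact (section_fix_iff l a).mpr (h a a.2)

end Section

theorem involves_subgroup {K : Type*} [Group K] (S : Subgroup M) (h : Cfsg.Involves K S) :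
    Cfsg.Involves K M := by
  obtain ⟨L, f, hf⟩ := H58.Inv.exists_hom_of_involves h
  let e := L.equivMapOfInjective S.subtype S.subtype_injective
  exact H58.Inv.involves_of_hom (f.comp e.symm.toMonoidHom) (hf.comp e.symm.surjective)

theorem nonempty_dihedral_perm : Nonempty (DihedralGroup 3 ≃* Equiv.Perm (Fin 3)) := by
  let r : Equiv.Perm (Fin 3) := finRotate 3
  let s : Equiv.Perm (Fin 3) := Equiv.swap 0 1
  let f : DihedralGroup 3 → Equiv.Perm (Fin 3) := fun g =>
    match g with
    | .r i => r ^ i.val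
    | .sr i => s * r ^ i.val
  have hmul : ∀ a b, f (a * b) = f a * f b := by decide +kernel
  have hbij : Function.Bijective f := by decide +kernel
  exact ⟨MulEquiv.ofBijective (MonoidHom.mk' f hmul) hbij⟩

theorem involves_perm_of_dihedral (h : Cfsg.Involves (DihedralGroup 3) M) :
    Cfsg.Involves (Equiv.Perm (Fin 3)) M := by
  obtain ⟨L, f, hf⟩ := H58.Inv.exists_hom_of_involves h
  obtain ⟨e⟩ := nonempty_dihedral_perm
  exact H58.Inv.involves_of_hom (e.toMonoidHom.comp f) (e.surjective.comp hf)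

variable [Finite M]

/-- Modulo the centralizer of a normal 2-subgroup a four-free group has no section `S₃`. -/
theorem not_involves_of_normal (hfree : ¬ Cfsg.Involves (Equiv.Perm (Fin 4)) M) (R : Subgroup M) [R.Normal]
    (hR : IsPGroup 2 R) {X : Type*} [Group X] (π : M →* X) (hπ : Function.Surjective π)
    (hker : centralizer (R : Set M) ≤ π.ker) : ¬ Cfsg.Involves (DihedralGroup 3) X := by
  intro h
  set N := normalizer (R : Set M) with hN
  set C := (centralizer (R : Set M)).subgroupOf N with hC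
  have hNtop : N = ⊤ := by rw [hN, normalizer_eq_top]
  refine hfree (H58.SFour.backward R hR (involves_perm_of_dihedral ?_))
  refine SB.involves_of_surjective (QuotientGroup.lift C (π.comp N.subtype) fun x hx => hker hx) ?_ h
  intro y
  obtain ⟨x, rfl⟩ := hπ y
  exact ⟨QuotientGroup.mk ⟨x, show x ∈ N by rw [hNtop]; exact mem_top x⟩, rfl⟩

/-- A section `S₃` survives modulo a normal 2-subgroup. -/
theorem not_involves_of_quotient (Q : Subgroup M) [Q.Normal] (hQ : IsPGroup 2 Q)
    (h : ¬ Cfsg.Involves (DihedralGroup 3) (M ⧸ Q)) : ¬ Cfsg.Involves (DihedralGroup 3) M := by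
  intro hi
  obtain ⟨K, f, hf⟩ := H58.Inv.exists_hom_of_involves hi
  set π := QuotientGroup.mk' Q with hπ
  let ψ : K →* K.map π := π.subgroupMap K
  have hψ : Function.Surjective ψ := π.subgroupMap_surjective K
  have hsmall : ∀ y : DihedralGroup 3, y * y = 1 →
      (∀ z, (y * (z * y * z⁻¹)) * (y * (z * y * z⁻¹)) = 1) → y = 1 := by decide +kernel
  have hker : ψ.ker ≤ f.ker := by
    intro x hx
    have hxQ : (x : M) ∈ Q := (QuotientGroup.eq_one_iff _).mp (congrArg Subtype.val hx)
    have h4 : ∀ w : K, (w : M) ∈ Q → f w * f w = 1 := by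
      intro w hw
      obtain ⟨k, hk⟩ := hQ ⟨w, hw⟩
      have h1 : f w ^ 2 ^ k = 1 := by
        rw [← map_pow, show w ^ 2 ^ k = 1 from Subtype.ext (by
          have := congrArg Subtype.val hk
          push_cast at this ⊢
          exact this), map_one]
      have h6 : ∀ y : DihedralGroup 3, y ^ 6 = 1 := by decide +kernel
      have h3 : f w ^ Nat.gcd (2 ^ k) 6 = 1 := pow_gcd_eq_one.mpr ⟨h1, h6 _⟩
      have h2 : Nat.gcd (2 ^ k) 6 ∣ 2 := by
        refine Nat.Coprime.dvd_of_dvd_mul_right (k := Nat.gcd (2 ^ k) 6) (n := 3) ?_ ?_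
        · exact (Nat.Coprime.pow_left k (by norm_num : Nat.Coprime 2 3)).coprime_dvd_left (Nat.gcd_dvd_left _ _)
        · exact (Nat.gcd_dvd_right _ _).trans (by norm_num)
      obtain ⟨c, hc⟩ := h2
      have h5 : f w ^ 2 = 1 := by rw [hc, pow_mul, h3, one_pow]
      rw [← pow_two, h5]
    refine hsmall (f x) ?_ fun z => ?_
    · exact h4 x hxQ
    · obtain ⟨c, rfl⟩ := hf z
      have hm : ((x * (c * x * c⁻¹) : K) : M) ∈ Q := by
        push_cast
        exact mul_mem hxQ (Normal.conj_mem inferInstance _ hxQ _)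
      have := h4 _ hm
      simpa using this
  refine h (H58.Inv.involves_of_hom (K := K.map π) (ψ.liftOfSurjective hψ ⟨f, hker⟩) fun y => ?_)
  obtain ⟨x, rfl⟩ := hf y
  exact ⟨ψ x, MonoidHom.liftOfRightInverse_comp_apply _ _ _ _ _⟩

/-- A 2-group meets a faithful action on the Fitting subgroup. -/
theorem inf_centralizer_fitting {X : Type*} [Group X] [Finite X] [Group.IsSolvable X]
    (hO : Cfsg.pCore 2 X = ⊥) (π : M →* X) {B : Subgroup M} (hB : Cfsg.IsElementaryAbelian 2 B) :
    B.map π ⊓ centralizer ((Cfsg.fittingSubgroup X : Subgroup X) : Set X) = ⊥ := by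
  rw [eq_bot_iff]
  rintro _ ⟨⟨b, hb, rfl⟩, hc⟩
  have hF := Cores.centralizer_fittingSubgroup_le hc
  refine mem_bot.mpr (Pair.eq_one_of_sq_of_odd (SB.odd_card_fitting hO)
    (by rw [← map_mul, ← pow_two, hB.2 b hb, map_one]) ?_)
  exact congrArg Subtype.val (pow_card_eq_one' (x := (⟨π b, hF⟩ : Cfsg.fittingSubgroup X)))

/-- The bound obtained from a pair of conjugates acting on a section. -/
theorem pair_bound [Group.IsSolvable M] (hfree : ¬ Cfsg.Involves (DihedralGroup 3) M) {X₀ : Type*} [Group X₀]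
    [Finite X₀] (π : M →* X₀) (F : Subgroup X₀) [F.Normal] (hF : Odd (Nat.card F)) {B L X N Y : Subgroup M}
    (hB : Cfsg.IsElementaryAbelian 2 B) (hBL : B ≤ L)
    (hpair : ∀ b ∈ B, (∀ l ∈ L, π l ∈ F → π b * π l = π l * π b) → π b = 1)
    (hLX : L ≤ normalizer (X : Set M)) (hLN : L ≤ normalizer (N : Set M))
    (hXN : X ≤ normalizer (N : Set M)) (hsq : ∀ x ∈ X, x * x ∈ N)
    (hcomm : ∀ x ∈ X, ∀ y ∈ X, x * y * x⁻¹ * y⁻¹ ∈ N)
    (hYX : Y ≤ X) (hfix : ∀ b ∈ B, ∀ y ∈ Y, b * y * b⁻¹ * y⁻¹ ∈ N)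
    (hodd : ∀ l ∈ L, Odd (orderOf l) → (∀ x ∈ X, l * x * l⁻¹ * x⁻¹ ∈ N) → π l = 1) :
    π.ker.relIndex B ^ 2 ≤ Y.relIndex X := by
  haveI hn : (N.subgroupOf X).Normal := normal_subgroupOf_of_le_normalizer hXN
  letI : CommGroup (X ⧸ N.subgroupOf X) :=
    { (inferInstance : Group (X ⧸ N.subgroupOf X)) with
      mul_comm := fun a b => by
        induction a using QuotientGroup.induction_on with | _ a => ?_
        induction b using QuotientGroup.induction_on with | _ b => ?_
        rw [← QuotientGroup.mk_mul, ← QuotientGroup.mk_mul, QuotientGroup.eq_iff_div_mem, mem_subgroupOf,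
          div_eq_mul_inv]
        push_cast
        rw [mul_inv_rev, ← mul_assoc]
        exact hcomm a a.2 b b.2 }
  have hV : ∀ q : X ⧸ N.subgroupOf X, q * q = 1 := fun q => by
    induction q using QuotientGroup.induction_on with | _ a => ?_
    rw [← QuotientGroup.mk_mul, QuotientGroup.eq_one_iff]
    exact hsq a a.2
  have hfreeL : ¬ Cfsg.Involves (DihedralGroup 3) L := fun h => hfree (involves_subgroup L h)
  haveI : Group.IsSolvable L := inferInstance
  set φ := sectionHom L X N hLX hLN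
  obtain ⟨D, hDn, -, hD2, hDb⟩ := SB.sq_bound hfreeL hV φ (B.subgroupOf L)
    ⟨⟨⟨fun a b => by
      refine Subtype.ext (Subtype.ext ?_)
      exact congrArg (fun z : B => (z : M)) (hB.1.is_comm.comm (⟨_, a.2⟩ : B) ⟨_, b.2⟩)⟩⟩,
      fun a ha => Subtype.ext (hB.2 _ ha)⟩
  -- the image of `D` is a 2-group
  have hP : IsPGroup 2 (D.map (π.comp L.subtype)) := isPGroup_map_of_odd _ D fun l hl hlo => by
    have h1 : φ l = 1 := SB.apply_eq_one_of_odd φ hlo (hD2 l hl)
    exact hodd l l.2 (by rw [Subgroup.orderOf_coe]; exact hlo) ((section_eq_one_iff l).mp h1)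
  have hkill : D.map L.subtype ⊓ B ≤ π.ker ⊓ B := by
    rintro _ ⟨⟨a, ha, rfl⟩, hb⟩
    refine ⟨hpair _ hb fun l hl hlF => ?_, hb⟩
    have hcP : π a * π l * (π a)⁻¹ * (π l)⁻¹ ∈ D.map (π.comp L.subtype) := by
      refine ⟨a * (⟨l, hl⟩ * a⁻¹ * (⟨l, hl⟩ : L)⁻¹), mul_mem ha (hDn.conj_mem _ (inv_mem ha) _), ?_⟩
      simp [mul_assoc]
    have hcF : π a * π l * (π a)⁻¹ * (π l)⁻¹ ∈ F :=
      mul_mem (Normal.conj_mem inferInstance _ hlF _) (inv_mem hlF)
    obtain ⟨k, hk⟩ := hP ⟨_, hcP⟩
    have := orderOf_eq_one_iff.mp (Nat.eq_one_of_dvd_coprimes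
      (Nat.Coprime.pow_left k (Nat.coprime_two_left.mpr hF))
      (orderOf_dvd_of_pow_eq_one (congrArg Subtype.val hk))
      (orderOf_dvd_of_pow_eq_one (congrArg Subtype.val (pow_card_eq_one' (x := (⟨_, hcF⟩ : F))))))
    exact commutatorElement_eq_one_iff_mul_comm.mp this
  have hrel : π.ker.relIndex B ≤ D.relIndex (B.subgroupOf L) := by
    rw [← relIndex_map_map_of_injective D (B.subgroupOf L) L.subtype_injective,
      map_subgroupOf_eq_of_le hBL, ← inf_relIndex_right π.ker, ← inf_relIndex_right (D.map L.subtype)]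
    exact relIndex_le_of_le_left hkill index_ne_zero_of_finite
  refine (Nat.pow_le_pow_left hrel 2).trans (hDb.trans ?_)
  rw [← index_comap_of_surjective _ (QuotientGroup.mk'_surjective (N.subgroupOf X)),
    ← relIndex_top_right]
  refine le_trans ?_ (le_of_eq (show (Y.subgroupOf X).relIndex ⊤ = Y.relIndex X by
    rw [relIndex_top_right]; rfl))
  refine relIndex_le_of_le_left (fun y hy b hb => ?_) index_ne_zero_of_finite
  exact (section_fix_iff b y).mpr (hfix _ hb _ hy)

end Cfsg.Agent.H47.FF
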