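import Mathlib
import Cfsg.Prelude.Def_QuasithinSetup
import Cfsg.Agent.Components.PLocalMore
import Cfsg.Agent.Coprime.Abelian
import Cfsg.Agent.H47.LBalance
import Cfsg.Agent.PGroups.Basic

/-!
Members of `ℒ(G, T)` in a group of even characteristic.
-/

set_option autoImplicit false
set_option linter.style.haveILetI false
set_option linter.unusedSectionVars false

namespace Cfsg.Agent.H47.CalL

open Subgroup
open scoped commutatorElement

variable {G : Type*} [Group G]

/-- `Ω₁(Z(P))`. -/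
abbrev omegaZ (P : Subgroup G) : Subgroup G :=
  Cfsg.omegaOne 2 (P ⊓ centralizer (P : Set G))

theorem mem_omegaZ {P : Subgroup G} {x : G} (h : x ∈ omegaZ P) :
    x ∈ P ∧ x ∈ centralizer (P : Set G) ∧ x ^ 2 = 1 := by
  suffices h' : x ∈ P ⊓ centralizer (P : Set G) ∧ x ^ 2 = 1 from ⟨h'.1.1, h'.1.2, h'.2⟩
  induction h using Subgroup.closure_induction with
  | mem x hx => exact hx
  | one => exact ⟨one_mem _, one_pow 2⟩
  | mul a b _ _ ha hb =>
    refine ⟨mul_mem ha.1 hb.1, ?_⟩
    rw [(show Commute a b from Subgroup.mem_centralizer_iff.mp hb.1.2 a ha.1.1).mul_pow, ha.2, hb.2,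
      one_mul]
  | inv a _ ha => exact ⟨inv_mem ha.1, by rw [inv_pow, ha.2, inv_one]⟩

theorem mem_omegaZ_mk {P : Subgroup G} {x : G} (hx : x ∈ P) (hc : x ∈ centralizer (P : Set G))
    (h2 : x ^ 2 = 1) : x ∈ omegaZ P :=
  Subgroup.subset_closure ⟨⟨hx, hc⟩, h2⟩

theorem normalizer_le_omegaZ [Finite G] (P : Subgroup G) :
    normalizer (P : Set G) ≤ normalizer (omegaZ P : Set G) := fun g hg => by
  apply Coprime.mem_normalizer_of_map_conj
  refine Subgroup.eq_of_le_of_card_ge ?_ (Coprime.card_map_conj g _).ge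
  rintro _ ⟨x, hx, rfl⟩
  obtain ⟨h1, h2, h3⟩ := mem_omegaZ hx
  refine mem_omegaZ_mk (Coprime.conj_mem hg h1)
    (Coprime.conj_mem (Components.normalizer_le_normalizer_centralizer P hg) h2) ?_
  rw [← map_pow, h3, map_one]

/-- A perfect subgroup of `A P`, with `A` subnormal and `P` solvable normal, lies in `A`. -/
theorem perfect_le_of_le_sup {A P : Subgroup G} (hA : A.IsSubnormal) [P.Normal]
    (hP : Group.IsSolvable P) {R : Subgroup G} (hR : ⁅R, R⁆ = R) (hle : R ≤ A ⊔ P) : R ≤ A := by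
  induction hA with
  | top => exact le_top
  | step A B hAB _ hN ih =>
    have hRB : R ≤ B := ih (hle.trans (sup_le_sup_right hAB P))
    haveI := hN
    set π := QuotientGroup.mk' (A.subgroupOf B)
    have hsol : Group.IsSolvable ↥((P.subgroupOf B).map π) := by
      haveI : Group.IsSolvable ↥(P.subgroupOf B) :=
        Group.isSolvable_of_isSolvable_injective (f := (B.subtype.comp (P.subgroupOf B).subtype).codRestrict P
          fun z => z.2) fun a b h => Subtype.ext (Subtype.ext (congrArg Subtype.val h :))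
      exact Group.isSolvable_of_surjective (π.subgroupMap_surjective _)
    have hperf : ⁅(R.subgroupOf B).map π, (R.subgroupOf B).map π⁆ = (R.subgroupOf B).map π := by
      rw [← Subgroup.map_commutator]
      congr 1
      apply Subgroup.map_injective B.subtype_injective
      rw [Subgroup.map_commutator, Subgroup.map_subgroupOf_eq_of_le hRB, hR]
    have hle' : (R.subgroupOf B).map π ≤ (P.subgroupOf B).map π := by
      rintro _ ⟨r, hr, rfl⟩
      obtain ⟨a, ha, z, hz, haz⟩ := Subgroup.mem_sup_of_normal_right.mp (hle hr)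
      have hzB : z ∈ B := by
        rw [show z = a⁻¹ * (r : G) by rw [show (r : G) = a * z from haz.symm, inv_mul_cancel_left]]
        exact mul_mem (inv_mem (hAB ha)) r.2
      refine ⟨⟨z, hzB⟩, hz, ?_⟩
      rw [show r = (⟨a, hAB ha⟩ : B) * ⟨z, hzB⟩ from Subtype.ext haz.symm, map_mul,
        show π ⟨a, hAB ha⟩ = 1 from (QuotientGroup.eq_one_iff _).mpr ha, one_mul]
    have h1 := eq_bot_of_perfect_le_solvable hperf hle' hsol
    rw [Subgroup.map_eq_bot_iff, QuotientGroup.ker_mk'] at h1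
    exact fun r hr => h1 (show (⟨r, hRB hr⟩ : B) ∈ R.subgroupOf B from hr)

variable [Finite G]

/-- Properties of a member of `ℒ(G, T)`, with `H = LT` and `P = O₂(H)`. -/
structure Facts (L H P : Subgroup G) : Prop where
  le : L ≤ H
  perfect : ⁅L, L⁆ = L
  ne_bot : L ≠ ⊥
  subnormal : (L.subgroupOf H).IsSubnormal
  pgroup : IsPGroup 2 P
  leH : P ≤ H
  normal : H ≤ normalizer (P : Set G)
  selfCentralizing : H ⊓ centralizer (P : Set G) ≤ P
  core : Cfsg.pCoreTwoOf L = P ⊓ L
  normalizes : P ≤ normalizer (L : Set G)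
  charTwo : L ∈ Cfsg.calHe G
  oddGen : Cfsg.oddGenerated L = L

theorem calL_facts (hE : Cfsg.IsOfEvenCharacteristic G) (T : Sylow 2 G) {L : Subgroup G}
    (hL : L ∈ Cfsg.calL (T : Subgroup G)) :
    Facts L (L ⊔ (T : Subgroup G))
        ((Cfsg.pCore 2 ↥(L ⊔ (T : Subgroup G))).map (L ⊔ (T : Subgroup G)).subtype) ∧
      (Cfsg.pCore 2 ↥(L ⊔ (T : Subgroup G))).map (L ⊔ (T : Subgroup G)).subtype ≤ T := by
  haveI : Fact (Nat.Prime 2) := ⟨Nat.prime_two⟩
  obtain ⟨⟨hne, hperf, hsn, -⟩, -, hO⟩ := hL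
  set H := L ⊔ (T : Subgroup G) with hH
  set P := (Cfsg.pCore 2 ↥H).map H.subtype with hP
  have hLH : L ≤ H := le_sup_left
  have hTH : (T : Subgroup G) ≤ H := le_sup_right
  have hperf' : ⁅L, L⁆ = L := by
    conv_lhs => rw [← Subgroup.map_subgroupOf_eq_of_le hLH, ← Subgroup.map_commutator, hperf,
      Subgroup.map_subgroupOf_eq_of_le hLH]
  have hPn : H ≤ normalizer (P : Set G) := Components.le_normalizer_map_subtype _
  have hP2 : IsPGroup 2 P := Cores.pCore_isPGroup.map _
  have hPT : P ≤ T := by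
    have h := Subgroup.map_mono (f := H.subtype) (Cores.pCore_le_sylow (T.subtype hTH))
    rwa [Sylow.coe_subtype, Subgroup.map_subgroupOf_eq_of_le hTH] at h
  set M := normalizer (P : Set G) with hM
  have hMc : Cfsg.IsOfCharacteristicTwo ↥M :=
    hE M ⟨P, hP2, fun h => hO ((Subgroup.map_eq_bot_iff_of_injective _ H.subtype_injective).mp h), rfl⟩
      ⟨T, hTH.trans hPn⟩
  have hTM : (T : Subgroup G) ≤ M := hTH.trans hPn
  have hMP : (Cfsg.pCore 2 ↥M).map M.subtype ≤ P := by
    have hT : (Cfsg.pCore 2 ↥M).map M.subtype ≤ T := by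
      have h := Subgroup.map_mono (f := M.subtype) (Cores.pCore_le_sylow (T.subtype hTM))
      rwa [Sylow.coe_subtype, Subgroup.map_subgroupOf_eq_of_le hTM] at h
    haveI : (((Cfsg.pCore 2 ↥M).map M.subtype).subgroupOf H).Normal :=
      Subgroup.normal_subgroupOf_of_le_normalizer (hPn.trans (Components.le_normalizer_map_subtype _))
    rw [← Subgroup.map_subgroupOf_eq_of_le (hT.trans hTH)]
    exact Subgroup.map_mono (Cores.le_pCore ((Cores.pCore_isPGroup.map _).comap_subtype))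
  have hself : H ⊓ centralizer (P : Set G) ≤ P := fun x hx => by
    have h1 : (⟨x, hPn hx.1⟩ : M) ∈ centralizer (Cfsg.pCore 2 ↥M : Set M) :=
      Subgroup.mem_centralizer_iff.mpr fun y hy =>
        Subtype.ext (Subgroup.mem_centralizer_iff.mp hx.2 y (hMP ⟨y, hy, rfl⟩))
    exact hMP ⟨_, hMc h1, rfl⟩
  have hHe : Cfsg.generalizedFittingSubgroup ↥H = Cfsg.pCore 2 ↥H :=
    Components.genFitting_eq_pCore_iff.mpr fun x hx => by
      obtain ⟨y, hy, hyx⟩ := hself (Subgroup.mem_inf.mpr ⟨x.2, Subgroup.mem_centralizer_iff.mpr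
        (by rintro _ ⟨z, hz, rfl⟩; exact congrArg Subtype.val (hx z hz))⟩)
      exact (Subtype.ext hyx : y = x) ▸ hy
  have hnorm : P ≤ normalizer (L : Set G) := fun g hg => by
    have hgH : g ∈ H := Subgroup.map_subtype_le _ hg
    set g' : H := ⟨g, hgH⟩
    have hgP : g' ∈ Cfsg.pCore 2 ↥H := by
      obtain ⟨y, hy, hyg⟩ := hg
      exact (Subtype.ext hyg : y = g') ▸ hy
    apply Coprime.mem_normalizer_of_map_conj
    refine Subgroup.eq_of_le_of_card_ge ?_ (Coprime.card_map_conj g L).ge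
    rintro _ ⟨l, hl, rfl⟩
    haveI := (Cores.pCore_isPGroup (p := 2) (G := ↥H)).isNilpotent
    have hR := perfect_le_of_le_sup (P := Cfsg.pCore 2 ↥H) hsn inferInstance
      (R := (L.subgroupOf H).map (MulAut.conj g').toMonoidHom)
      (by rw [← Subgroup.map_commutator, hperf]) (by
        rintro _ ⟨m, hm, rfl⟩
        exact mul_mem (mul_mem (Subgroup.mem_sup_right hgP) (Subgroup.mem_sup_left hm))
          (inv_mem (Subgroup.mem_sup_right hgP)))
    exact hR ⟨⟨l, hLH hl⟩, hl, rfl⟩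
  refine ⟨⟨hLH, hperf', fun h => hne (by rw [h, Subgroup.bot_subgroupOf]), hsn, hP2,
    Subgroup.map_subtype_le _, hPn, hself, ?_, hnorm, ?_, ?_⟩, hPT⟩
  · refine le_antisymm (le_inf ?_ (Subgroup.map_subtype_le _)) ?_
    · have hsn' := hsn
      rintro _ ⟨y, hy, rfl⟩
      have h1 : (Cfsg.pCore 2 ↥(L.subgroupOf H)).map (L.subgroupOf H).subtype ≤ Cfsg.pCore 2 ↥H :=
        Cores.map_pCore_le_of_isSubnormal hsn'
      have hy' : (Subgroup.subgroupOfEquivOfLe hLH).symm y ∈ Cfsg.pCore 2 ↥(L.subgroupOf H) := by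
        rw [← Cores.pCore_map_mulEquiv (Subgroup.subgroupOfEquivOfLe hLH).symm]
        exact ⟨y, hy, rfl⟩
      exact ⟨_, h1 ⟨_, hy', rfl⟩, rfl⟩
    · intro x hx
      haveI : ((P ⊓ L).subgroupOf L).Normal := Subgroup.normal_subgroupOf_of_le_normalizer
        ((le_inf (hLH.trans hPn) Subgroup.le_normalizer).trans Subgroup.inf_normalizer_le_normalizer_inf)
      exact ⟨⟨x, hx.2⟩, Cores.le_pCore (N := (P ⊓ L).subgroupOf L)
        ((hP2.to_le inf_le_left).comap_subtype) hx, rfl⟩
  · exact (Components.genFitting_eq_pCore_congr (Subgroup.subgroupOfEquivOfLe hLH)).mp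
      (Components.genFitting_eq_pCore_of_isSubnormal hsn hHe)
  · refine le_antisymm ((Subgroup.closure_le _).mpr fun x hx => hx.1) ?_
    exact le_of_coprime_elements_mem (p := 2) hperf' fun x hx hc =>
      Subgroup.subset_closure ⟨hx, Nat.coprime_two_right.mp hc⟩

theorem omegaZ_core_le_centralizer_iff {L : Subgroup G} :
    Cfsg.moduleV L = ⊥ ↔ omegaZ (Cfsg.pCoreTwoOf L) ≤ centralizer (L : Set G) :=
  Subgroup.commutator_eq_bot_iff_le_centralizer

/-- A perfect `L` centralizing `Ω₁(Z(O₂(H)))` centralizes `Ω₁(Z(O₂(L)))`. -/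
theorem Facts.centralizes_of_centralizes {L H P : Subgroup G} (f : Facts L H P)
    (h : omegaZ P ≤ centralizer (L : Set G)) : Cfsg.moduleV L = ⊥ := by
  haveI : Fact (Nat.Prime 2) := ⟨Nat.prime_two⟩
  rw [omegaZ_core_le_centralizer_iff, f.core, Subgroup.le_centralizer_iff]
  set V := omegaZ (P ⊓ L) with hV
  have hVP : V ≤ P ⊓ L := fun v hv => (mem_omegaZ hv).1
  have hVp : IsPGroup 2 V := f.pgroup.to_le (hVP.trans inf_le_left)
  haveI : IsMulCommutative V := ⟨⟨fun a b => Subtype.ext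
    (Subgroup.mem_centralizer_iff.mp (mem_omegaZ b.2).2.1 a (mem_omegaZ a.2).1)⟩⟩
  have hLV : L ≤ normalizer (V : Set G) :=
    ((le_inf (f.le.trans f.normal) Subgroup.le_normalizer).trans
      Subgroup.inf_normalizer_le_normalizer_inf).trans (normalizer_le_omegaZ _)
  have hPV : P ≤ normalizer (V : Set G) :=
    ((le_inf Subgroup.le_normalizer f.normalizes).trans
      Subgroup.inf_normalizer_le_normalizer_inf).trans (normalizer_le_omegaZ _)
  refine le_of_coprime_elements_mem (p := 2) f.perfect fun a ha hao => ?_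
  have hAL : zpowers a ≤ L := Subgroup.zpowers_le.mpr ha
  have hcop : (Nat.card (zpowers a)).Coprime (Nat.card V) := by
    obtain ⟨n, hn⟩ := IsPGroup.iff_card.mp hVp
    rw [Nat.card_zpowers, hn]
    exact hao.pow_right n
  obtain ⟨hbot, -⟩ := Coprime.abelian_decomposition (hAL.trans hLV) hcop
  set D := ⁅V, zpowers a⁆ with hD
  have hDV : D ≤ V := Coprime.commutator_le_left_of_normalizer (hAL.trans hLV)
  have hPD : P ≤ normalizer (D : Set G) := fun g hg => by
    apply Coprime.mem_normalizer_of_map_conj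
    refine Subgroup.eq_of_le_of_card_ge ?_ (Coprime.card_map_conj g D).ge
    rw [hD, Subgroup.map_commutator, Components.map_conj_eq_of_mem_normalizer (hPV hg),
      Subgroup.commutator_le]
    rintro v hv _ ⟨b, hb, rfl⟩
    show ⁅v, g * b * g⁻¹⁆ ∈ D
    obtain ⟨u, hu, hgb⟩ : ∃ u ∈ P ⊓ L, g * b * g⁻¹ = b * u := by
      refine ⟨b⁻¹ * (g * b * g⁻¹), Subgroup.mem_inf.mpr ⟨?_, mul_mem (inv_mem (hAL hb))
        (Coprime.conj_mem (f.normalizes hg) (hAL hb))⟩, (mul_inv_cancel_left _ _).symm⟩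
      have h1 := mul_mem (Coprime.conj_mem (f.normal (f.le (inv_mem (hAL hb)))) hg) (inv_mem hg)
      rwa [inv_inv, show b⁻¹ * g * b * g⁻¹ = b⁻¹ * (g * b * g⁻¹) by group] at h1
    have hcv : u * v = v * u := Subgroup.mem_centralizer_iff.mp (mem_omegaZ hv).2.1 _ hu
    have heq : ⁅v, g * b * g⁻¹⁆ = ⁅v, b⁆ := by
      have h2 : u * v⁻¹ * u⁻¹ = v⁻¹ := by
        rw [(show Commute u v from hcv).inv_right.eq, mul_inv_cancel_right]
      calc ⁅v, g * b * g⁻¹⁆ = v * b * (u * v⁻¹ * u⁻¹) * b⁻¹ := by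
            rw [hgb]; simp only [commutatorElement_def]; group
        _ = ⁅v, b⁆ := by rw [h2, commutatorElement_def]
    rw [heq]
    exact Subgroup.commutator_mem_commutator hv hb
  have hD1 : D = ⊥ := by
    by_contra hne
    have hle : D ≤ P := hDV.trans (hVP.trans inf_le_left)
    haveI : (D.subgroupOf P).Normal := Subgroup.normal_subgroupOf_of_le_normalizer hPD
    obtain ⟨⟨w, hwP⟩, hw, hwc, hwo⟩ := PGroups.exists_mem_center_orderOf_eq f.pgroup (D.subgroupOf P)
      fun hb => hne (by rw [← Subgroup.map_subgroupOf_eq_of_le hle, hb, Subgroup.map_bot])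
    have hwD : w ∈ D := hw
    have hw2 : w ^ 2 = 1 := (mem_omegaZ (hDV hwD)).2.2
    have hwZ : w ∈ omegaZ P := mem_omegaZ_mk hwP (Subgroup.mem_centralizer_iff.mpr fun y hy =>
      congrArg Subtype.val (Subgroup.mem_center_iff.mp hwc ⟨y, hy⟩)) hw2
    have h1 : w ∈ (V ⊓ centralizer (zpowers a : Set G)) ⊓ ⁅V, zpowers a⁆ :=
      Subgroup.mem_inf.mpr ⟨Subgroup.mem_inf.mpr ⟨hDV hwD,
        Subgroup.centralizer_le (SetLike.coe_subset_coe.mpr hAL) (h hwZ)⟩, hwD⟩
    rw [hbot, Subgroup.mem_bot] at h1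
    rw [← Subgroup.orderOf_coe] at hwo
    rw [show ((⟨w, hwP⟩ : P) : G) = 1 from h1, orderOf_one] at hwo
    exact absurd hwo (by decide)
  have h2 := Subgroup.commutator_eq_bot_iff_le_centralizer.mp hD1
  exact (Subgroup.le_centralizer_iff.mp h2) (mem_zpowers a)

end Cfsg.Agent.H47.CalL
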