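import Cfsg.Agent.H47.Pump
import Cfsg.Agent.Cores.LBalanceMain
import Cfsg.Agent.Coprime.OddHyp

/-!
Components of the centralizer of an involution inside `E(G)` (pumping up without `O(G) = 1`),
given the odd order theorem.
-/

set_option autoImplicit false
set_option linter.style.haveILetI false
set_option linter.unusedSectionVars false

namespace Cfsg.Agent.H47.CPump

open Subgroup
open scoped commutatorElement

universe u

variable {G : Type u} [Group G] [Finite G]

/-- A component of `C(t)` is a 2-component, given the odd order theorem. -/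
theorem isPComponent_of_component_centralizer (hodd : Coprime.OddSolvable.{u}) {C : Subgroup G}
    {L : Subgroup C} (hL : Cfsg.IsComponent L) : Cfsg.IsPComponent 2 L := by
  haveI : Fact (Nat.Prime 2) := ⟨Nat.prime_two⟩
  refine Components.isPComponent_of_component hL fun hle =>
    Components.qsSub_not_le_of_isSolvable hL.2 (hodd _ ?_) hle
  exact Nat.coprime_two_right.mp (Cores.coprime_card_pPrimeCore (p := 2) (G := C))

theorem le_layer (hodd : Coprime.OddSolvable.{u}) (hL2 : Cfsg.pLayer 2 G = Cfsg.layer G) {t : G}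
    (ht : orderOf t = 2) {L : Subgroup G} (hLt : L ≤ centralizer ({t} : Set G))
    (hL : Cfsg.IsComponent (L.subgroupOf (centralizer ({t} : Set G)))) : L ≤ Cfsg.layer G := by
  have key : ∀ C : Subgroup G, centralizer (zpowers t : Set G) = C →
      (Cfsg.pLayer 2 C).map C.subtype ≤ Cfsg.pLayer 2 G := by
    rintro _ rfl
    exact Cores.lBalance_two (IsPGroup.of_card (n := 1) (by rw [Nat.card_zpowers, ht, pow_one]))
  have hC : centralizer (zpowers t : Set G) = centralizer ({t} : Set G) := by
    rw [zpowers_eq_closure, centralizer_closure]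
  refine le_trans ?_ (hL2 ▸ key _ hC)
  intro x hx
  exact ⟨⟨x, hLt hx⟩, Components.pComponent_le_pLayer (isPComponent_of_component_centralizer hodd hL)
    hx, rfl⟩

variable {t : G} {L : Subgroup G}

/-- `L` lies in `M` or centralizes `M`. -/
theorem le_or_centralizes (hLt : L ≤ centralizer ({t} : Set G))
    (hL : Cfsg.IsComponent (L.subgroupOf (centralizer ({t} : Set G)))) (hLE : L ≤ Cfsg.layer G)
    {M : Subgroup G} (hME : M ≤ Cfsg.layer G) (hEM : Cfsg.layer G ≤ normalizer (M : Set G))
    (htM : t ∈ normalizer (M : Set G))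
    (hsplit : Cfsg.layer G ≤ M ⊔ centralizer (M : Set G)) :
    L ≤ M ∨ L ≤ centralizer (M : Set G) := by
  set C := centralizer ({t} : Set G)
  set U := Cfsg.layer G ⊓ C with hU
  set V := M ⊓ C with hV
  set Z := centralizer (M : Set G) with hZ
  haveI := Components.layer_normal (G := G)
  have hCU : C ≤ normalizer (U : Set G) :=
    (le_inf (Components.le_normalizer_of_normal _) le_normalizer).trans
      inf_normalizer_le_normalizer_inf
  have hUV : U ≤ normalizer (V : Set G) :=
    (le_inf (inf_le_left.trans hEM) (inf_le_right.trans le_normalizer)).trans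
      inf_normalizer_le_normalizer_inf
  haveI : (U.subgroupOf C).Normal := (normal_subgroupOf_iff_le_normalizer inf_le_right).mpr hCU
  have hVU : V.subgroupOf C ≤ U.subgroupOf C := fun y hy => ⟨hME hy.1, hy.2⟩
  have hVsn : (V.subgroupOf C).IsSubnormal := by
    refine Subgroup.IsSubnormal.step _ (U.subgroupOf C) hVU
      (inferInstance : (U.subgroupOf C).Normal).isSubnormal ?_
    refine (normal_subgroupOf_iff_le_normalizer hVU).mpr fun y hy => ?_
    rw [mem_normalizer_iff]
    exact fun z => mem_normalizer_iff.mp (hUV hy) (z : G)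
  rcases Components.component_le_or_commutator_eq_bot hL hVsn with h | h
  · exact Or.inl fun x hx => (h (show (⟨x, hLt hx⟩ : C) ∈ L.subgroupOf C from hx)).1
  have hLV : ∀ a ∈ L, ∀ v ∈ V, Commute a v := fun a ha v hv => congrArg Subtype.val
    (Components.commute_of_commutator_eq_bot h
      (show (⟨a, hLt ha⟩ : C) ∈ L.subgroupOf C from ha)
      (show (⟨v, hv.2⟩ : C) ∈ V.subgroupOf C from hv))
  have hperf : ⁅L, L⁆ = L := by
    conv_lhs => rw [← map_subgroupOf_eq_of_le hLt, ← map_commutator,
      Components.component_perfect hL, map_subgroupOf_eq_of_le hLt]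
  have hNZ : normalizer (M : Set G) ≤ normalizer (Z : Set G) :=
    normalizer_le_normalizer_centralizer M
  have hcom : ∀ y ∈ M, ∀ u ∈ Z, Commute y u := fun y hy u hu => mem_centralizer_iff.mp hu y hy
  have hfix : ∀ i c : G, i ∈ M → c ∈ Z → i * c ∈ C → ∃ z ∈ M, z ∈ Z ∧ t * i * t⁻¹ = i * z := by
    intro i c hi hc hic
    refine ⟨i⁻¹ * (t * i * t⁻¹), mul_mem (inv_mem hi) (Coprime.conj_mem htM hi), ?_, by group⟩
    have h1 : t * i * t⁻¹ = i * c * (t * c * t⁻¹)⁻¹ := by
      have h2 : i * c = t * (i * c) * t⁻¹ := by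
        rw [← (mem_centralizer_singleton_iff.mp hic : i * c * t = t * (i * c))]
        group
      rw [h2]
      group
    rw [h1, show i⁻¹ * (i * c * (t * c * t⁻¹)⁻¹) = c * (t * c * t⁻¹)⁻¹ by group]
    exact mul_mem hc (inv_mem (Coprime.conj_mem (hNZ htM) hc))
  have hVZn : V ≤ normalizer (Z : Set G) := (inf_le_left.trans le_normalizer).trans hNZ
  have hLVZ : L ≤ V ⊔ Z := by
    rw [← hperf, commutator_le]
    intro a ha b hb
    obtain ⟨i, hi, c, hc, rfl⟩ :=
      (Coprime.mem_sup_iff (centralizer_le_normalizer _)).mp (hsplit (hLE ha))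
    obtain ⟨j, hj, e, he, rfl⟩ :=
      (Coprime.mem_sup_iff (centralizer_le_normalizer _)).mp (hsplit (hLE hb))
    obtain ⟨z, hzM, hzZ, hti⟩ := hfix i c hi hc (hLt ha)
    obtain ⟨z', hzM', hzZ', htj⟩ := hfix j e hj he (hLt hb)
    have hij : ⁅i, j⁆ ∈ V := by
      refine ⟨?_, mem_centralizer_singleton_iff.mpr ?_⟩
      · rw [commutatorElement_def]
        exact M.mul_mem (M.mul_mem (M.mul_mem hi hj) (M.inv_mem hi)) (M.inv_mem hj)
      have h1 : MulAut.conj t ⁅i, j⁆ = ⁅i * z, j * z'⁆ := by
        rw [← MulEquiv.coe_toMonoidHom, map_commutatorElement]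
        simp [hti, htj]
      have h2 : ⁅i * z, j * z'⁆ = ⁅i, j⁆ := by
        simp only [commutatorElement_def, mul_inv_rev]
        calc i * z * (j * z') * (z⁻¹ * i⁻¹) * (z'⁻¹ * j⁻¹)
            = i * (z * (j * z')) * z⁻¹ * i⁻¹ * z'⁻¹ * j⁻¹ := by group
          _ = i * (j * z') * i⁻¹ * z'⁻¹ * j⁻¹ := by
              rw [← (hcom _ (mul_mem hj hzM') z hzZ).eq]; group
          _ = i * j * (z' * i⁻¹) * z'⁻¹ * j⁻¹ := by group
          _ = i * j * i⁻¹ * j⁻¹ := by rw [← (hcom _ (inv_mem hi) z' hzZ').eq]; group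
      rw [h2, MulAut.conj_apply] at h1
      calc ⁅i, j⁆ * t = t * ⁅i, j⁆ * t⁻¹ * t := by rw [h1]
        _ = t * ⁅i, j⁆ := by group
    have h3 : ⁅i * c, j * e⁆ = ⁅i, j⁆ * ⁅c, e⁆ := by
      simp only [commutatorElement_def, mul_inv_rev]
      calc i * c * (j * e) * (c⁻¹ * i⁻¹) * (e⁻¹ * j⁻¹)
          = i * (c * j) * (e * c⁻¹) * i⁻¹ * e⁻¹ * j⁻¹ := by group
        _ = i * j * ((c * e * c⁻¹) * i⁻¹) * (e⁻¹ * j⁻¹) := by rw [← (hcom j hj c hc).eq]; group
        _ = i * j * (i⁻¹ * (c * e * c⁻¹)) * (j⁻¹ * e⁻¹) := by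
            rw [← (hcom i⁻¹ (inv_mem hi) _ (mul_mem (mul_mem hc he) (inv_mem hc))).eq,
              (hcom j⁻¹ (inv_mem hj) _ (inv_mem he)).eq]
        _ = i * j * i⁻¹ * ((c * e * c⁻¹) * j⁻¹) * e⁻¹ := by group
        _ = _ := by
            rw [← (hcom j⁻¹ (inv_mem hj) _ (mul_mem (mul_mem hc he) (inv_mem hc))).eq]; group
    rw [h3]
    refine mul_mem (mem_sup_left hij) (mem_sup_right ?_)
    rw [commutatorElement_def]
    exact mul_mem (mul_mem (mul_mem hc he) (inv_mem hc)) (inv_mem he)
  refine Or.inr ?_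
  rw [← hperf, commutator_le]
  intro a ha b hb
  obtain ⟨v, hv, z, hz, rfl⟩ := (Coprime.mem_sup_iff
    ((centralizer_le (SetLike.coe_subset_coe.mpr (inf_le_left : V ≤ M))).trans
      (centralizer_le_normalizer _))).mp (hLVZ hb)
  have h1 : ⁅a, z⁆ ∈ Z := by
    rw [commutatorElement_def]
    exact mul_mem (Coprime.conj_mem (hNZ (hEM (hLE ha))) hz) (inv_mem hz)
  have h2 : ⁅a, v * z⁆ = ⁅a, v⁆ * (v * ⁅a, z⁆ * v⁻¹) := by
    simp only [commutatorElement_def, mul_inv_rev]
    group
  rw [h2, commutatorElement_eq_one_iff_commute.mpr (hLV a ha v hv), one_mul]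
  exact Coprime.conj_mem (hVZn hv) h1

theorem qs_congr_subgroupOf {A C : Subgroup G} (hle : A ≤ C) (h : Cfsg.IsQuasisimple A) :
    Cfsg.IsQuasisimple (A.subgroupOf C) := by
  haveI := Components.qs_nontrivial h
  haveI : Nontrivial (A.subgroupOf C) :=
    (subgroupOfEquivOfLe hle).symm.injective.nontrivial
  exact Components.qs_of_surjective h (subgroupOfEquivOfLe hle).symm.toMonoidHom
    (subgroupOfEquivOfLe hle).symm.surjective

/-- The position of a component of `C(t)` lying in the layer, with the diagonal map. -/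
theorem exists_pumpup_diag (ht : orderOf t = 2) (hLt : L ≤ centralizer ({t} : Set G))
    (hL : Cfsg.IsComponent (L.subgroupOf (centralizer ({t} : Set G))))
    (hLE : L ≤ Cfsg.layer G) :
    ∃ D : Subgroup G, Cfsg.IsComponent D ∧
      (L = D ∨ (L < D ∧ D = ⁅D, zpowers t⁆) ∨
        (t ∉ normalizer (D : Set G) ∧ (∃ h : OrbitCommutes t 2 D, L = diag h) ∧
          L = (Cfsg.layer ↥((D ⊔ D.map (MulAut.conj t).toMonoidHom) ⊓
              centralizer ({t} : Set G))).map
            ((D ⊔ D.map (MulAut.conj t).toMonoidHom) ⊓ centralizer ({t} : Set G)).subtype)) := by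
  haveI : Fact (Nat.Prime 2) := ⟨Nat.prime_two⟩
  set C := centralizer ({t} : Set G) with hC
  set E := Cfsg.layer G with hE
  have ht2 : t ^ 2 = 1 := by rw [← ht]; exact pow_orderOf_eq_one t
  have hperf : ⁅L, L⁆ = L := by
    conv_lhs => rw [← map_subgroupOf_eq_of_le hLt, ← map_commutator,
      Components.component_perfect hL, map_subgroupOf_eq_of_le hLt]
  have hne : L ≠ ⊥ := fun h => Components.qsSub_ne_bot hL.2 (by rw [h, bot_subgroupOf])
  obtain ⟨J, hJ, hLJ⟩ : ∃ J : Subgroup G, Cfsg.IsComponent J ∧ ¬ L ≤ centralizer (J : Set G) := by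
    by_contra h
    push Not at h
    apply hne
    rw [← hperf, commutator_eq_bot_iff_le_centralizer]
    refine le_centralizer_iff.mp ?_
    refine hLE.trans (Components.layer_le_iff.mpr fun K hK => le_centralizer_iff.mp (h K hK))
  have hEJ : E ≤ normalizer (J : Set G) := Components.layer_le_normalizer_component hJ
  have hEc : E ≤ J ⊔ centralizer (J : Set G) := Components.layer_le_iff.mpr fun K hK => by
    by_cases h : K = J
    · exact h ▸ le_sup_left
    · exact le_sup_of_le_right (commutator_eq_bot_iff_le_centralizer.mp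
        (Components.components_commute hK hJ h))
  refine ⟨J, hJ, ?_⟩
  by_cases htJ : t ∈ normalizer (J : Set G)
  · have hle : L ≤ J := (le_or_centralizes hLt hL hLE (Components.component_le_layer hJ) hEJ htJ
      hEc).resolve_right hLJ
    by_cases heq : L = J
    · exact Or.inl heq
    refine Or.inr (Or.inl ⟨lt_of_le_of_ne hle heq, ?_⟩)
    set N := ⁅J, zpowers t⁆ with hN
    have hNJ : N ≤ J := Coprime.commutator_le_left_of_normalizer (zpowers_le.mpr htJ)
    rcases Components.qsSub_normal hJ.2 (normalizer_commutator_ge_left J (zpowers t) :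
      J ≤ normalizer (N : Set G)) with h | h
    · exact le_antisymm h hNJ
    exfalso
    rw [inf_eq_right.mpr hNJ, commutator_comm] at h
    have h1 := commutator_eq_bot_iff_le_centralizer.mp
      (Components.commutator_eq_bot_of_perfect (Components.component_perfect hJ) h)
    have hJC : J ≤ C := fun j hj => mem_centralizer_singleton_iff.mpr
      ((mem_centralizer_iff.mp (h1 hj) t (mem_zpowers t)).symm)
    have hJc : Cfsg.IsComponent (J.subgroupOf C) :=
      ⟨hJ.1.subgroupOf, qs_congr_subgroupOf hJC hJ.2⟩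
    have h2 := Components.component_eq_of_le hL hJc (fun x hx => hle hx)
    refine heq ?_
    rw [← map_subgroupOf_eq_of_le hLt, h2, map_subgroupOf_eq_of_le hJC]
  refine Or.inr (Or.inr ⟨htJ, ?_⟩)
  have htc : t ^ 2 ∈ Subgroup.center G := by rw [ht2]; exact one_mem _
  set h := orbitCommutes_of_component (p := 2) htc hJ htJ
  set J' := J.map (MulAut.conj t).toMonoidHom with hJ'
  have horb : orbitSup t J = J ⊔ J' := by
    refine le_antisymm (iSup_le fun i => ?_) (sup_le le_orbitSup (le_iSup_of_le 1 (by rw [pow_one])))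
    rw [show t ^ i = t ^ (i % 2) by
      conv_lhs => rw [← Nat.div_add_mod i 2, pow_add, pow_mul, ht2, one_pow, one_mul]]
    rcases Nat.mod_two_eq_zero_or_one i with h0 | h0
    · rw [h0, pow_zero, Coprime.map_conj_one]; exact le_sup_left
    · rw [h0, pow_one]; exact le_sup_right
  rw [← horb]
  set M := orbitSup t J with hM
  have hJi : ∀ i : ℕ, Cfsg.IsComponent (J.map (MulAut.conj (t ^ i)).toMonoidHom) :=
    fun i => Components.component_conj hJ _
  have hME : M ≤ E := iSup_le fun i => Components.component_le_layer (hJi i)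
  have hEM : E ≤ normalizer (M : Set G) := fun g hg => by
    refine Coprime.mem_normalizer_of_map_conj ?_
    rw [hM, orbitSup, Subgroup.map_iSup]
    exact iSup_congr fun i => Components.map_conj_eq_of_mem_normalizer
      (Components.layer_le_normalizer_component (hJi i) hg)
  have hsplit : E ≤ M ⊔ centralizer (M : Set G) := Components.layer_le_iff.mpr fun K hK => by
    by_cases hex : ∃ i : ℕ, K = J.map (MulAut.conj (t ^ i)).toMonoidHom
    · obtain ⟨i, rfl⟩ := hex
      exact le_sup_of_le_left
        (le_iSup (fun i : ℕ => J.map (MulAut.conj (t ^ i)).toMonoidHom) i)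
    · push Not at hex
      refine le_sup_of_le_right (le_centralizer_iff.mp (iSup_le fun i => ?_))
      exact commutator_eq_bot_iff_le_centralizer.mp
        (Components.components_commute (hJi i) hK (hex i).symm)
  have hLM : L ≤ M := (le_or_centralizes hLt hL hLE hME hEM mem_normalizer_orbitSup
    hsplit).resolve_right fun hc =>
      hLJ (hc.trans (centralizer_le (SetLike.coe_subset_coe.mpr le_orbitSup)))
  have hMJ : M ≤ J ⊔ centralizer (J : Set G) := hME.trans hEc
  have hLd : L ≤ diag h := le_diag_of_perfect h one_le_two htc hMJ hperf hLM hLt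
  set S := M ⊓ C with hS
  have hdS : diag h ≤ S :=
    le_inf (diag_le h le_orbitSup mem_normalizer_orbitSup) (diag_le_centralizer h one_le_two htc)
  have hSd : S ≤ normalizer (diag h : Set G) := fun g hg =>
    mem_normalizer_diag h (mem_centralizer_singleton_iff.mp hg.2) (hEJ (hME hg.1))
  haveI : Nontrivial (diag h) := (nontrivial_iff_ne_bot _).mpr fun hb =>
    hne (le_bot_iff.mp (hLd.trans hb.le))
  have hqs : Cfsg.IsQuasisimple (diag h) :=
    Components.qs_of_surjective hJ.2 (diagHom h).rangeRestrict (MonoidHom.rangeRestrict_surjective _)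
  haveI := Components.layer_normal (G := G)
  set U := E ⊓ C with hU
  have hSU : S ≤ U := inf_le_inf_right C hME
  have hdn : ((diag h).subgroupOf S).Normal := (normal_subgroupOf_iff_le_normalizer hdS).mpr hSd
  have hdC : diag h ≤ C := hdS.trans inf_le_right
  have hdsn : ((diag h).subgroupOf C).IsSubnormal := by
    haveI : (U.subgroupOf C).Normal := (normal_subgroupOf_iff_le_normalizer inf_le_right).mpr
      ((le_inf (Components.le_normalizer_of_normal _) le_normalizer).trans
        inf_normalizer_le_normalizer_inf)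
    have hUS : U ≤ normalizer (S : Set G) :=
      (le_inf (inf_le_left.trans hEM) (inf_le_right.trans le_normalizer)).trans
        inf_normalizer_le_normalizer_inf
    have hle1 : S.subgroupOf C ≤ U.subgroupOf C := fun y hy => hSU hy
    have hle2 : (diag h).subgroupOf C ≤ S.subgroupOf C := fun y hy => hdS hy
    refine Subgroup.IsSubnormal.step _ (S.subgroupOf C) hle2
      (Subgroup.IsSubnormal.step _ (U.subgroupOf C) hle1
        (inferInstance : (U.subgroupOf C).Normal).isSubnormal
        ((normal_subgroupOf_iff_le_normalizer hle1).mpr fun y hy => ?_))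
      ((normal_subgroupOf_iff_le_normalizer hle2).mpr fun y hy => ?_)
    · rw [mem_normalizer_iff]
      exact fun z => mem_normalizer_iff.mp (hUS hy) (z : G)
    · rw [mem_normalizer_iff]
      exact fun z => mem_normalizer_iff.mp (hSd hy) (z : G)
  have hdc : Cfsg.IsComponent ((diag h).subgroupOf C) := ⟨hdsn, qs_congr_subgroupOf hdC hqs⟩
  have heq : L = diag h := by
    rw [← map_subgroupOf_eq_of_le hLt,
      Components.component_eq_of_le hL hdc (fun x hx => hLd hx), map_subgroupOf_eq_of_le hdC]
  refine ⟨⟨h, heq⟩, ?_⟩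
  rw [heq]
  refine le_antisymm ?_ ?_
  · intro x hx
    exact ⟨⟨x, hdS hx⟩, Components.component_le_layer
      (⟨hdn.isSubnormal, qs_congr_subgroupOf hdS hqs⟩ : Cfsg.IsComponent ((diag h).subgroupOf S))
      hx, rfl⟩
  · rw [map_le_iff_le_comap, Components.layer_le_iff]
    intro K hK
    rw [← map_le_iff_le_comap]
    refine le_diag_of_perfect h one_le_two htc hMJ ?_ ?_ ?_
    · rw [← map_commutator, Components.component_perfect hK]
    · exact (map_subtype_le K).trans inf_le_left
    · exact (map_subtype_le K).trans inf_le_right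

/-- The position of a component of `C(t)` lying in the layer. -/
theorem exists_pumpup (ht : orderOf t = 2) (hLt : L ≤ centralizer ({t} : Set G))
    (hL : Cfsg.IsComponent (L.subgroupOf (centralizer ({t} : Set G))))
    (hLE : L ≤ Cfsg.layer G) :
    ∃ D : Subgroup G, Cfsg.IsComponent D ∧
      (L = D ∨ (L < D ∧ D = ⁅D, zpowers t⁆) ∨
        (D.map (MulAut.conj t).toMonoidHom ≠ D ∧
          L = (Cfsg.layer ↥((D ⊔ D.map (MulAut.conj t).toMonoidHom) ⊓
              centralizer ({t} : Set G))).map
            ((D ⊔ D.map (MulAut.conj t).toMonoidHom) ⊓ centralizer ({t} : Set G)).subtype)) := by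
  obtain ⟨D, hD, h | h | ⟨htD, -, h⟩⟩ := exists_pumpup_diag ht hLt hL hLE
  exacts [⟨D, hD, Or.inl h⟩, ⟨D, hD, Or.inr (Or.inl h)⟩,
    ⟨D, hD, Or.inr (Or.inr ⟨fun e => htD (Components.mem_normalizer_of_map_conj_eq e), h⟩)⟩]

/-- S1322, given the odd order theorem. -/
theorem s1322 (hodd : Coprime.OddSolvable.{u}) (hL2 : Cfsg.pLayer 2 G = Cfsg.layer G)
    (ht : orderOf t = 2) (hLt : L ≤ centralizer ({t} : Set G))
    (hL : Cfsg.IsComponent (L.subgroupOf (centralizer ({t} : Set G)))) :
    ∃ D : Subgroup G, Cfsg.IsComponent D ∧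
      (L = D ∨ (L < D ∧ D = ⁅D, zpowers t⁆) ∨
        (D.map (MulAut.conj t).toMonoidHom ≠ D ∧
          L = (Cfsg.layer ↥((D ⊔ D.map (MulAut.conj t).toMonoidHom) ⊓
              centralizer ({t} : Set G))).map
            ((D ⊔ D.map (MulAut.conj t).toMonoidHom) ⊓ centralizer ({t} : Set G)).subtype)) :=
  exists_pumpup ht hLt hL (le_layer hodd hL2 ht hLt hL)

end Cfsg.Agent.H47.CPump
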