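import Cfsg.Agent.H47.FourFreeTools
import Cfsg.Agent.Thompson.Jay
import Cfsg.Agent.Thompson.ZJ
import Cfsg.Agent.Coprime.Centralize

/-!
A four-free solvable group of characteristic two normalizes every reduced elementary abelian subgroup
of a Sylow 2-subgroup that is normalized by the normalizer of the Thompson subgroup.
-/

set_option autoImplicit false
set_option linter.style.haveILetI false
set_option linter.unusedSectionVars false

namespace Cfsg.Agent.H47.FF

open Subgroup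
open Cfsg.Agent.Thompson (jay maxIn)

universe u

variable {M : Type u} [Group M]

/-- No subgroup of `T` acts on `U` as a quadratically bounded offender. -/
def Nof (U T : Subgroup M) : Prop :=
  ∀ B ≤ T, (∀ x ∈ B, x * x ∈ centralizer (U : Set M)) →
    (∀ x ∈ B, ∀ y ∈ B, x * y * x⁻¹ * y⁻¹ ∈ centralizer (U : Set M)) →
    (centralizer (U : Set M)).relIndex B ^ 2 ≤ (centralizer (B : Set M)).relIndex U

theorem card_mul_relIndex' {H K : Subgroup M} (h : H ≤ K) :
    Nat.card H * H.relIndex K = Nat.card K := by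
  rw [← relIndex_bot_left, ← relIndex_bot_left]
  exact relIndex_mul_relIndex _ _ _ bot_le h

theorem centralizer_sup (A B : Subgroup M) :
    centralizer ((A ⊔ B : Subgroup M) : Set M) = centralizer (A : Set M) ⊓ centralizer (B : Set M) :=
  le_antisymm (le_inf (centralizer_le (le_sup_left : A ≤ A ⊔ B)) (centralizer_le (le_sup_right : B ≤ A ⊔ B)))
    (le_centralizer_iff.mp (sup_le (le_centralizer_iff.mp inf_le_left) (le_centralizer_iff.mp inf_le_right)))

theorem le_centralizer_of_comm {A B : Subgroup M} (h : ∀ a ∈ A, ∀ b ∈ B, a * b = b * a) :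
    A ≤ centralizer (B : Set M) := fun a ha => mem_centralizer_iff.mpr fun b hb => (h a ha b hb).symm

theorem comm_of_le_centralizer {A B : Subgroup M} (h : A ≤ centralizer (B : Set M)) {a b : M}
    (ha : a ∈ A) (hb : b ∈ B) : a * b = b * a := (mem_centralizer_iff.mp (h ha) b hb).symm

theorem le_centralizer_self {A : Subgroup M} (hA : IsMulCommutative A) : A ≤ centralizer (A : Set M) :=
  le_centralizer_iff_isMulCommutative.mpr hA

theorem isElementaryAbelian_of {A : Subgroup M} (hc : A ≤ centralizer (A : Set M))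
    (h : ∀ x ∈ A, x * x = 1) : Cfsg.IsElementaryAbelian 2 A :=
  ⟨le_centralizer_iff_isMulCommutative.mp hc, fun x hx => by rw [pow_two]; exact h x hx⟩

theorem sq_eq_one {A : Subgroup M} (hA : Cfsg.IsElementaryAbelian 2 A) {x : M} (hx : x ∈ A) :
    x * x = 1 := by rw [← pow_two]; exact hA.2 x hx

theorem self_inv_eq {A : Subgroup M} (hA : Cfsg.IsElementaryAbelian 2 A) {x : M} (hx : x ∈ A) :
    x⁻¹ = x := inv_eq_of_mul_eq_one_right (sq_eq_one hA hx)

/-- The elements whose commutator with `y` lies in `N`. -/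
def commStab (N : Subgroup M) (y : M) : Subgroup M where
  carrier := {x | x ∈ normalizer (N : Set M) ∧ x * y * x⁻¹ * y⁻¹ ∈ N}
  one_mem' := ⟨one_mem _, by simp⟩
  mul_mem' := fun {a b} ha hb => ⟨mul_mem ha.1 hb.1, by
    have h1 := (mem_normalizer_iff.mp ha.1 _).mp hb.2
    have h2 := mul_mem h1 ha.2
    rwa [show a * (b * y * b⁻¹ * y⁻¹) * a⁻¹ * (a * y * a⁻¹ * y⁻¹) = a * b * y * (a * b)⁻¹ * y⁻¹ by group] at h2⟩
  inv_mem' := fun {a} ha => ⟨inv_mem ha.1, by
    have h1 := (mem_normalizer_iff.mp (inv_mem ha.1) _).mp (inv_mem ha.2)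
    rwa [show a⁻¹ * (a * y * a⁻¹ * y⁻¹)⁻¹ * a⁻¹⁻¹ = a⁻¹ * y * a⁻¹⁻¹ * y⁻¹ by group] at h1⟩

theorem inv_comm_mem {N : Subgroup M} {x y : M} (h : x * y * x⁻¹ * y⁻¹ ∈ N) :
    y * x * y⁻¹ * x⁻¹ ∈ N := by
  rw [show y * x * y⁻¹ * x⁻¹ = (x * y * x⁻¹ * y⁻¹)⁻¹ by group]; exact inv_mem h

/-- The elements moving `Q` only inside `X`. -/
def commInto (X Q : Subgroup M) [Q.Normal] : Subgroup M where
  carrier := {l | l ∈ normalizer (X : Set M) ∧ ∀ q ∈ Q, l * q * l⁻¹ * q⁻¹ ∈ X}
  one_mem' := ⟨one_mem _, by simp⟩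
  mul_mem' := fun {a b} ha hb => ⟨mul_mem ha.1 hb.1, fun q hq => by
    have h2 := mul_mem ((mem_normalizer_iff.mp ha.1 _).mp (hb.2 q hq)) (ha.2 q hq)
    rwa [show a * (b * q * b⁻¹ * q⁻¹) * a⁻¹ * (a * q * a⁻¹ * q⁻¹) = a * b * q * (a * b)⁻¹ * q⁻¹ by group] at h2⟩
  inv_mem' := fun {a} ha => ⟨inv_mem ha.1, fun q hq => by
    have hq' : a⁻¹ * q * a ∈ Q := by
      have := Normal.conj_mem (inferInstance : Q.Normal) q hq a⁻¹
      rwa [inv_inv] at this
    have h1 := inv_mem (ha.2 _ hq')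
    rwa [show (a * (a⁻¹ * q * a) * a⁻¹ * (a⁻¹ * q * a)⁻¹)⁻¹ = a⁻¹ * q * a⁻¹⁻¹ * q⁻¹ by group] at h1⟩

theorem comm_mem_of_generators {ι : Sort*} {A : ι → Subgroup M} {N : Subgroup M}
    (hN : ∀ i, A i ≤ normalizer (N : Set M))
    (h : ∀ i j, ∀ a ∈ A i, ∀ b ∈ A j, a * b * a⁻¹ * b⁻¹ ∈ N) {x y : M} (hx : x ∈ ⨆ i, A i)
    (hy : y ∈ ⨆ i, A i) : x * y * x⁻¹ * y⁻¹ ∈ N := by
  have h1 : ∀ j, ∀ b ∈ A j, (⨆ i, A i) ≤ commStab N b := fun j b hb =>
    iSup_le fun i a ha => ⟨hN i ha, h i j a ha b hb⟩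
  have h2 : (⨆ i, A i) ≤ commStab N x := iSup_le fun j b hb => ⟨hN j hb, inv_comm_mem (h1 j b hb hx).2⟩
  exact inv_comm_mem (h2 hy).2

theorem sq_mem_of_generators {ι : Sort*} {A : ι → Subgroup M} {N : Subgroup M}
    (hN : ∀ i, A i ≤ normalizer (N : Set M))
    (h : ∀ i j, ∀ a ∈ A i, ∀ b ∈ A j, a * b * a⁻¹ * b⁻¹ ∈ N) (hs : ∀ i, ∀ a ∈ A i, a * a ∈ N)
    {x : M} (hx : x ∈ ⨆ i, A i) : x * x ∈ N := by
  have hle : (⨆ i, A i) ≤ normalizer (N : Set M) := iSup_le hN
  have key : x ∈ (⨆ i, A i) ∧ x * x ∈ N := by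
    induction hx using Subgroup.iSup_induction' with
    | hp i a ha => exact ⟨mem_iSup_of_mem i ha, hs i a ha⟩
    | h1 => exact ⟨one_mem _, by simp⟩
    | hmul a b _ _ ha hb =>
      refine ⟨mul_mem ha.1 hb.1, ?_⟩
      have hc := comm_mem_of_generators hN h hb.1 ha.1
      have hc' := (mem_normalizer_iff.mp (hle ha.1) _).mp hc
      have := mul_mem (mul_mem hc' ha.2) hb.2
      rwa [show a * (b * a * b⁻¹ * a⁻¹) * a⁻¹ * (a * a) * (b * b) = a * b * (a * b) by group] at this
  exact key.2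

theorem centralizer_subgroupOf {A K : Subgroup M} (h : A ≤ K) :
    centralizer ((A.subgroupOf K : Subgroup K) : Set K) = (centralizer (A : Set M)).subgroupOf K := by
  ext x
  simp only [mem_centralizer_iff, mem_subgroupOf, SetLike.mem_coe]
  exact ⟨fun hx a ha => congrArg Subtype.val (hx ⟨a, h ha⟩ ha),
    fun hx a ha => Subtype.ext (hx a ha)⟩

variable [Finite M]

/-- A four-free group of characteristic two has no section `S₃`. -/
theorem free_self (hfree : ¬ Cfsg.Involves (Equiv.Perm (Fin 4)) M)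
    (hconstr : centralizer (Cfsg.pCore 2 M : Set M) ≤ Cfsg.pCore 2 M) :
    ¬ Cfsg.Involves (DihedralGroup 3) M :=
  not_involves_of_quotient _ Cores.pCore_isPGroup (not_involves_of_normal hfree (Cfsg.pCore 2 M)
    Cores.pCore_isPGroup (QuotientGroup.mk' (Cfsg.pCore 2 M)) (QuotientGroup.mk'_surjective _)
    (by rw [QuotientGroup.ker_mk']; exact hconstr))

/-- A reduced subgroup normalized by the Sylow subgroup lies in the 2-core. -/
theorem le_pCore_of_nof [hsol : Group.IsSolvable M] (hfree3 : ¬ Cfsg.Involves (DihedralGroup 3) M)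
    (hconstr : centralizer (Cfsg.pCore 2 M : Set M) ≤ Cfsg.pCore 2 M) {T : Subgroup M}
    (hQT : Cfsg.pCore 2 M ≤ T) {U : Subgroup M} (hU : Cfsg.IsElementaryAbelian 2 U)
    (hTN : T ≤ normalizer (U : Set M)) (hnof : Nof U T) : U ≤ Cfsg.pCore 2 M := by
  haveI : Fact (Nat.Prime 2) := ⟨Nat.prime_two⟩
  set Q := Cfsg.pCore 2 M with hQ
  haveI hQn : Q.Normal := Cfsg.pCore_normal 2 M
  have hO : Cfsg.pCore 2 (M ⧸ Q) = ⊥ := Cores.pCore_quotient_pCore
  obtain ⟨h, hhL, hpair⟩ := Pair.exists_pair (QuotientGroup.mk' Q) (QuotientGroup.mk'_surjective _) hU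
    (Cfsg.fittingSubgroup (M ⧸ Q)) (SB.odd_card_fitting hO) (inf_centralizer_fitting hO _ hU)
  set U' := cj h U with hU'
  set L := Pair.pairSub U h with hL
  have hUL : U ≤ L := le_sup_left
  have hU'L : U' ≤ L := le_sup_right
  set T0 := U ⊓ Q with hT0
  set T0' := cj h T0 with hT0'
  set N := T0 ⊓ T0' with hN
  set X := T0' ⊔ T0 with hX
  have hT0'Q : T0' ≤ Q := (cj_mono inf_le_right).trans (cj_of_normal h Q).le
  have hT0'U : T0' ≤ U' := cj_mono inf_le_left
  -- commutators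
  have hcU : ∀ u ∈ U, ∀ q ∈ Q, u * q * u⁻¹ * q⁻¹ ∈ T0 := fun u hu q hq => ⟨by
    show _ ∈ U
    rw [show u * q * u⁻¹ * q⁻¹ = u * (q * u⁻¹ * q⁻¹) by group]
    exact mul_mem hu ((mem_normalizer_iff.mp (hTN (hQT hq)) _).mp (inv_mem hu)),
    show _ ∈ Q from mul_mem (hQn.conj_mem q hq u) (inv_mem hq)⟩
  have hcU' : ∀ u ∈ U', ∀ q ∈ Q, u * q * u⁻¹ * q⁻¹ ∈ T0' := by
    rintro _ ⟨u, hu, rfl⟩ q hq
    refine mem_cj.mpr ?_
    have hq' : h⁻¹ * q * h ∈ Q := by
      have := hQn.conj_mem q hq h⁻¹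
      rwa [inv_inv] at this
    have := hcU u hu _ hq'
    simpa [mul_assoc] using this
  have hNN : L ≤ centralizer (N : Set M) := sup_le
    ((le_centralizer_self hU.1).trans (centralizer_le (inf_le_left.trans inf_le_left : N ≤ U)))
    (le_centralizer_of_comm fun a ha b hb => by
      obtain ⟨a', ha', rfl⟩ := ha
      obtain ⟨b', hb', rfl⟩ := hT0'U hb.2
      show MulAut.conj h a' * MulAut.conj h b' = MulAut.conj h b' * MulAut.conj h a'
      rw [← map_mul, ← map_mul, comm_of_le_centralizer (le_centralizer_self hU.1) ha' hb'])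
  have hLN : L ≤ normalizer (N : Set M) := hNN.trans (centralizer_le_normalizer _)
  have hT0L : T0 ≤ L := inf_le_left.trans hUL
  have hT0'L : T0' ≤ L := hT0'U.trans hU'L
  have hXQ : X ≤ Q := sup_le hT0'Q inf_le_right
  have hmove : ∀ W : Subgroup M, (∀ u ∈ W, ∀ q ∈ Q, u * q * u⁻¹ * q⁻¹ ∈ X) →
      W ≤ normalizer (X : Set M) := fun W hW u hu => mem_normalizer_of_conj_le fun x hx => by
    rw [show u * x * u⁻¹ = (u * x * u⁻¹ * x⁻¹) * x by group]
    exact mul_mem (hW u hu x (hXQ hx)) hx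
  have hUX := hmove U fun u hu q hq => mem_sup_right (hcU u hu q hq)
  have hU'X := hmove U' fun u hu q hq => mem_sup_left (hcU' u hu q hq)
  have hLX : L ≤ normalizer (X : Set M) := sup_le hUX hU'X
  have hLinto : L ≤ commInto X Q :=
    sup_le (fun u hu => ⟨hUX hu, fun q hq => mem_sup_right (hcU u hu q hq)⟩)
      (fun u hu => ⟨hU'X hu, fun q hq => mem_sup_left (hcU' u hu q hq)⟩)
  have hXeq : (⨆ i : Bool, cond i T0' T0) = X := by rw [iSup_bool_eq]; rfl
  have hgenN : ∀ i : Bool, cond i T0' T0 ≤ normalizer (N : Set M) := fun i => by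
    cases i
    exacts [hT0L.trans hLN, hT0'L.trans hLN]
  have hgen : ∀ i j : Bool, ∀ a ∈ cond i T0' T0, ∀ b ∈ cond j T0' T0, a * b * a⁻¹ * b⁻¹ ∈ N := by
    have hcase : ∀ a ∈ T0, ∀ b ∈ T0', a * b * a⁻¹ * b⁻¹ ∈ N := fun a ha b hb =>
      ⟨hcU a ha.1 b (hT0'Q hb), inv_comm_mem (hcU' b (hT0'U hb) a ha.2)⟩
    have hUc : ∀ a ∈ U, ∀ b ∈ U, a * b * a⁻¹ * b⁻¹ = 1 := fun a ha b hb => by
      rw [comm_of_le_centralizer (le_centralizer_self hU.1) ha hb]; group
    intro i j a ha b hb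
    cases i <;> cases j
    · rw [hUc a ha.1 b hb.1]; exact one_mem _
    · exact hcase a ha b hb
    · exact inv_comm_mem (hcase b hb a ha)
    · obtain ⟨a', ha', rfl⟩ := hT0'U ha
      obtain ⟨b', hb', rfl⟩ := hT0'U hb
      show MulAut.conj h a' * MulAut.conj h b' * (MulAut.conj h a')⁻¹ * (MulAut.conj h b')⁻¹ ∈ N
      rw [← map_inv, ← map_inv, ← map_mul, ← map_mul, ← map_mul, hUc a' ha' b' hb', map_one]
      exact one_mem _
  have hgsq : ∀ i : Bool, ∀ a ∈ cond i T0' T0, a * a ∈ N := fun i a ha => by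
    cases i
    · rw [sq_eq_one hU ha.1]; exact one_mem _
    · obtain ⟨a', ha', rfl⟩ := hT0'U ha
      show MulAut.conj h a' * MulAut.conj h a' ∈ N
      rw [← map_mul, sq_eq_one hU ha', map_one]; exact one_mem _
  -- the pair bound
  have hb := pair_bound hfree3 (QuotientGroup.mk' Q) (Cfsg.fittingSubgroup (M ⧸ Q))
    (SB.odd_card_fitting hO) hU hUL hpair hLX hLN ((sup_le hT0'L hT0L).trans hLN)
    (fun x hx => sq_mem_of_generators hgenN hgen hgsq (hXeq ▸ hx))
    (fun x hx y hy => comm_mem_of_generators hgenN hgen (hXeq ▸ hx) (hXeq ▸ hy))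
    (le_sup_right : T0 ≤ X)
    (fun b hb y hy => by
      rw [comm_of_le_centralizer (le_centralizer_self hU.1) hb hy.1, mul_inv_cancel_right, mul_inv_cancel]
      exact one_mem _)
    (fun l hl hlo hlX => by
      refine (QuotientGroup.eq_one_iff l).mpr (hconstr (mem_centralizer_iff.mpr fun q hq => ?_))
      set x := l * q * l⁻¹ * q⁻¹ with hx
      have hxX : x ∈ X := (hLinto hl).2 q hq
      have hfix : l * x * l⁻¹ = x := by
        have hy := hlX x hxX
        have hyfix : l * (l * x * l⁻¹ * x⁻¹) * l⁻¹ = l * x * l⁻¹ * x⁻¹ := by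
          rw [comm_of_le_centralizer hNN hl hy, mul_inv_cancel_right]
        have := eq_one_of_step (P := Q) Cores.pCore_isPGroup hlo (q := x) (x := l * x * l⁻¹ * x⁻¹)
          (mul_mem (hQn.conj_mem x (hXQ hxX) l) (inv_mem (hXQ hxX))) (by group) hyfix
        exact mul_inv_eq_one.mp this
      have h1 : x = 1 := eq_one_of_step (P := Q) Cores.pCore_isPGroup hlo (q := q) (x := x) (hXQ hxX) (by rw [hx]; group) hfix
      rw [hx, mul_inv_eq_one, mul_inv_eq_iff_eq_mul] at h1
      exact h1.symm)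
  rw [QuotientGroup.ker_mk'] at hb
  set a := Q.relIndex U with ha
  set t := N.relIndex T0' with ht
  have hb' : a ^ 2 ≤ t := by
    refine hb.trans (le_of_eq ?_)
    rw [hX, relIndex_sup_eq, ← inf_relIndex_right]
    refine fun x hx => ?_
    exact mem_normalizer_of_conj_le fun y hy => by
      rw [show x * y * x⁻¹ = (y * x * y⁻¹ * x⁻¹)⁻¹ * y by group]
      exact mul_mem (inv_mem (hcU y hy.1 x (hT0'Q hx))) hy
  -- bound from the hypothesis
  have hcard : N.relIndex T0 = t := by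
    have h1 := card_mul_relIndex' (inf_le_left : N ≤ T0)
    have h2 := card_mul_relIndex' (inf_le_right : N ≤ T0')
    rw [show Nat.card T0' = Nat.card T0 from Coprime.card_map_conj h T0, ← h1] at h2
    exact (Nat.eq_of_mul_eq_mul_left Nat.card_pos h2).symm
  have hCN : centralizer (U : Set M) ⊓ T0' ≤ N := by
    rintro x ⟨hxc, hxT⟩
    refine ⟨?_, hxT⟩
    have hLx : L ≤ centralizer ({x} : Set M) := sup_le
      (fun u hu => mem_centralizer_singleton_iff.mpr (mem_centralizer_iff.mp hxc u hu))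
      (fun u hu => mem_centralizer_singleton_iff.mpr (by
        obtain ⟨u', hu', rfl⟩ := hu
        obtain ⟨x', hx', rfl⟩ := hT0'U hxT
        show MulAut.conj h u' * MulAut.conj h x' = MulAut.conj h x' * MulAut.conj h u'
        rw [← map_mul, ← map_mul, comm_of_le_centralizer (le_centralizer_self hU.1) hu' hx']))
    have hc : h * x = x * h := mem_centralizer_singleton_iff.mp (hLx hhL)
    have := mem_cj.mp hxT
    rwa [mul_assoc, ← hc, inv_mul_cancel_left] at this
  have hn := hnof T0' (hT0'Q.trans hQT)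
    (fun x hx => by
      obtain ⟨x', hx', rfl⟩ := hT0'U hx
      show MulAut.conj h x' * MulAut.conj h x' ∈ _
      rw [← map_mul, sq_eq_one hU hx', map_one]; exact one_mem _)
    (fun x hx y hy => by
      obtain ⟨x', hx', rfl⟩ := hT0'U hx
      obtain ⟨y', hy', rfl⟩ := hT0'U hy
      show MulAut.conj h x' * MulAut.conj h y' * (MulAut.conj h x')⁻¹ * (MulAut.conj h y')⁻¹ ∈ _
      rw [← map_inv, ← map_inv, ← map_mul, ← map_mul, ← map_mul,
        comm_of_le_centralizer (le_centralizer_self hU.1) hx' hy',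
        show y' * x' * x'⁻¹ * y'⁻¹ = (1 : M) by group, map_one]
      exact one_mem _)
  have ht2 : t ^ 2 ≤ t * a := by
    refine le_trans (Nat.pow_le_pow_left ?_ 2) (hn.trans ?_)
    · rw [ht, ← inf_relIndex_right (centralizer (U : Set M))]
      exact relIndex_le_of_le_left hCN index_ne_zero_of_finite
    · refine (relIndex_le_of_le_left (K := centralizer (T0' : Set M)) (H := N) ?_
        index_ne_zero_of_finite).trans (le_of_eq ?_)
      · exact le_centralizer_iff.mp (hT0'L.trans hNN)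
      · rw [← relIndex_mul_relIndex N T0 U inf_le_left inf_le_left, hcard, hT0, inf_relIndex_left]
  have htpos : 0 < t := Nat.pos_of_ne_zero index_ne_zero_of_finite
  have hta : t ≤ a := Nat.le_of_mul_le_mul_left (by rwa [pow_two] at ht2) htpos
  have hapos : 0 < a := Nat.pos_of_ne_zero index_ne_zero_of_finite
  exact relIndex_eq_one.mp (show a = 1 by
    have := hb'.trans hta
    rw [pow_two] at this
    have := Nat.le_of_mul_le_mul_left (this.trans (le_of_eq (mul_one a).symm)) hapos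
    omega)

/-- The conjugates of a reduced subgroup of the 2-core commute. -/
theorem conj_le_centralizer {T : Subgroup M} (hQT : Cfsg.pCore 2 M ≤ T) {U : Subgroup M}
    (hU : Cfsg.IsElementaryAbelian 2 U) (hUQ : U ≤ Cfsg.pCore 2 M) (hnof : Nof U T) (g : M) :
    cj g U ≤ centralizer (U : Set M) := by
  haveI : (Cfsg.pCore 2 M).Normal := Cfsg.pCore_normal 2 M
  have hsub : ∀ g : M, (centralizer (U : Set M)).relIndex (cj g U) ^ 2 ≤
      (centralizer (cj g U : Set M)).relIndex U := fun g => by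
    refine hnof _ (((cj_mono hUQ).trans (cj_of_normal g _).le).trans hQT) ?_ ?_
    · rintro _ ⟨x, hx, rfl⟩
      show MulAut.conj g x * MulAut.conj g x ∈ _
      rw [← map_mul, sq_eq_one hU hx, map_one]; exact one_mem _
    · rintro _ ⟨x, hx, rfl⟩ _ ⟨y, hy, rfl⟩
      show MulAut.conj g x * MulAut.conj g y * (MulAut.conj g x)⁻¹ * (MulAut.conj g y)⁻¹ ∈ _
      rw [← map_inv, ← map_inv, ← map_mul, ← map_mul, ← map_mul,
        comm_of_le_centralizer (le_centralizer_self hU.1) hx hy,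
        show y * x * x⁻¹ * y⁻¹ = (1 : M) by group, map_one]
      exact one_mem _
  have h1 := hsub g
  have h2 := hsub g⁻¹
  rw [← relIndex_cj g (centralizer (U : Set M)) (cj g⁻¹ U),
    ← relIndex_cj g (centralizer (cj g⁻¹ U : Set M)) U, cj_centralizer, cj_centralizer, cj_cj,
    mul_inv_cancel, cj_one] at h2
  set a := (centralizer (U : Set M)).relIndex (cj g U)
  set b := (centralizer (cj g U : Set M)).relIndex U
  refine relIndex_eq_one.mp (show a = 1 from ?_)
  have hapos : 0 < a := Nat.pos_of_ne_zero index_ne_zero_of_finite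
  by_contra hne
  have h3 : a < a ^ 2 := by rw [pow_two]; exact lt_mul_self (by omega)
  have h4 : b ≤ b ^ 2 := Nat.le_self_pow two_ne_zero b
  omega

/-- The bound passes to the normal closure. -/
theorem nof_iSup {T : Subgroup M} (hQT : Cfsg.pCore 2 M ≤ T) {U : Subgroup M} (hnof : Nof U T)
    (hcomm : ∀ g g' : M, cj g U ≤ centralizer (cj g' U : Set M)) :
    ∀ B ≤ Cfsg.pCore 2 M, (∀ x ∈ B, x * x ∈ centralizer ((⨆ g, cj g U : Subgroup M) : Set M)) →
    (∀ x ∈ B, ∀ y ∈ B, x * y * x⁻¹ * y⁻¹ ∈ centralizer ((⨆ g, cj g U : Subgroup M) : Set M)) →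
    (centralizer ((⨆ g, cj g U : Subgroup M) : Set M)).relIndex B ^ 2 ≤
      (centralizer (B : Set M)).relIndex (⨆ g, cj g U) := by
  classical
  haveI : (Cfsg.pCore 2 M).Normal := Cfsg.pCore_normal 2 M
  set V := ⨆ g, cj g U with hV
  haveI hVn : V.Normal := normal_of_normalizer_top fun g _ => mem_normalizer_of_conj_le fun x hx => by
    have : cj g V ≤ V := by
      rw [hV, cj, Subgroup.map_iSup]
      exact iSup_le fun g' => (cj_cj g g' U).le.trans (le_iSup (fun g => cj g U) (g * g'))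
    exact this ⟨x, hx, rfl⟩
  have hcV : ∀ g : M, cj g (centralizer (V : Set M)) = centralizer (V : Set M) := fun g => by
    rw [cj_centralizer, cj_of_normal]
  have hone : ∀ g : M, ∀ B ≤ Cfsg.pCore 2 M, (∀ x ∈ B, x * x ∈ centralizer (V : Set M)) →
      (∀ x ∈ B, ∀ y ∈ B, x * y * x⁻¹ * y⁻¹ ∈ centralizer (V : Set M)) →
      (centralizer (cj g U : Set M)).relIndex B ^ 2 ≤ (centralizer (B : Set M)).relIndex (cj g U) := by
    intro g B hB hsq hc
    have hUV : U ≤ V := (cj_one U).ge.trans (le_iSup (fun g => cj g U) 1)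
    have hmem : ∀ {x : M}, x ∈ centralizer (V : Set M) → g⁻¹ * x * g ∈ centralizer (U : Set M) :=
      fun hx => centralizer_le hUV (mem_cj.mp ((hcV g).ge hx))
    have h := hnof (cj g⁻¹ B) (((cj_mono hB).trans (cj_of_normal _ _).le).trans hQT)
      (by
        rintro _ ⟨x, hx, rfl⟩
        show MulAut.conj g⁻¹ x * MulAut.conj g⁻¹ x ∈ _
        rw [← map_mul, MulAut.conj_apply, inv_inv]
        exact hmem (hsq x hx))
      (by
        rintro _ ⟨x, hx, rfl⟩ _ ⟨y, hy, rfl⟩
        show MulAut.conj g⁻¹ x * MulAut.conj g⁻¹ y * (MulAut.conj g⁻¹ x)⁻¹ * (MulAut.conj g⁻¹ y)⁻¹ ∈ _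
        rw [← map_inv, ← map_inv, ← map_mul, ← map_mul, ← map_mul, MulAut.conj_apply, inv_inv]
        exact hmem (hc x hx y hy))
    rwa [← relIndex_cj g (centralizer (U : Set M)) (cj g⁻¹ B),
      ← relIndex_cj g (centralizer (cj g⁻¹ B : Set M)) U, cj_centralizer, cj_centralizer, cj_cj,
      mul_inv_cancel, cj_one] at h
  have key : ∀ s : Finset M, ∀ B ≤ Cfsg.pCore 2 M, (∀ x ∈ B, x * x ∈ centralizer (V : Set M)) →
      (∀ x ∈ B, ∀ y ∈ B, x * y * x⁻¹ * y⁻¹ ∈ centralizer (V : Set M)) →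
      (centralizer ((s.sup fun g => cj g U : Subgroup M) : Set M)).relIndex B ^ 2 ≤
        (centralizer (B : Set M)).relIndex (s.sup fun g => cj g U) := by
    intro s
    induction s using Finset.induction_on with
    | empty =>
      intro B _ _ _
      rw [Finset.sup_empty, relIndex_bot_right,
        relIndex_eq_one.mpr (le_centralizer_iff.mp bot_le), one_pow]
    | insert g s hgs ih =>
      intro B hB hsq hc
      rw [Finset.sup_insert]
      set W := cj g U
      set Vs := s.sup fun g => cj g U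
      set B' := centralizer (Vs : Set M) ⊓ B with hB'
      have i1 := ih B hB hsq hc
      have i2 := hone g B' (inf_le_right.trans hB) (fun x hx => hsq x hx.2)
        (fun x hx y hy => hc x hx.2 y hy.2)
      have hleV : W ⊔ Vs ≤ V := sup_le (le_iSup (fun g => cj g U) g)
        (Finset.sup_le fun a _ => le_iSup (fun g => cj g U) a)
      have hVab : V ≤ centralizer (V : Set M) :=
        iSup_le fun a => le_centralizer_iff.mp (iSup_le fun b => hcomm b a)
      set c := centralizer (B : Set M) ⊓ (W ⊔ Vs) with hc'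
      set X := Vs ⊔ c with hX
      have hXB' : X ≤ centralizer (B' : Set M) := sup_le (le_centralizer_iff.mp inf_le_left)
        (inf_le_left.trans (centralizer_le (inf_le_right : B' ≤ B)))
      have hXV : X ≤ W ⊔ Vs := sup_le le_sup_right inf_le_right
      have h1 : (centralizer (B : Set M)).relIndex Vs = c.relIndex X := by
        rw [hX, relIndex_sup_eq ((le_sup_right.trans (hleV.trans hVab)).trans
            ((centralizer_le (inf_le_right.trans hleV : c ≤ V)).trans (centralizer_le_normalizer _))),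
          ← inf_relIndex_right c, hc', inf_assoc, inf_eq_right.mpr (le_sup_right : Vs ≤ W ⊔ Vs),
          inf_relIndex_right]
      have h2 : (centralizer (B' : Set M)).relIndex W ≤ X.relIndex (W ⊔ Vs) :=
        (relIndex_le_of_le_left hXB' index_ne_zero_of_finite).trans
          (relIndex_le_of_le_right le_sup_left index_ne_zero_of_finite)
      calc (centralizer ((W ⊔ Vs : Subgroup M) : Set M)).relIndex B ^ 2
          = (centralizer (W : Set M)).relIndex B' ^ 2 * (centralizer (Vs : Set M)).relIndex B ^ 2 := by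
            rw [centralizer_sup, ← relIndex_inf_mul_relIndex, mul_pow]
        _ ≤ X.relIndex (W ⊔ Vs) * c.relIndex X := Nat.mul_le_mul (i2.trans h2) (i1.trans h1.le)
        _ = c.relIndex (W ⊔ Vs) := by rw [mul_comm, relIndex_mul_relIndex _ _ _ le_sup_right hXV]
        _ = (centralizer (B : Set M)).relIndex (W ⊔ Vs) := inf_relIndex_right _ _
  haveI := Fintype.ofFinite M
  have hVs : (Finset.univ.sup fun g => cj g U) = V := by rw [Finset.sup_univ_eq_iSup]
  intro B hB hsq hc
  simpa [hVs] using key Finset.univ B hB hsq hc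

/-- Squares and commutators of elements stabilizing the series `V ≥ K` act trivially. -/
theorem series_sq_comm {V K : Subgroup M} [V.Normal] (hV : Cfsg.IsElementaryAbelian 2 V) (hKV : K ≤ V)
    {R : Subgroup M} (hR : R ≤ centralizer (K : Set M))
    (hRV : ∀ x ∈ R, ∀ v ∈ V, x * v * x⁻¹ * v⁻¹ ∈ K) :
    (∀ x ∈ R, x * x ∈ centralizer (V : Set M)) ∧
      ∀ x ∈ R, ∀ y ∈ R, x * y * x⁻¹ * y⁻¹ ∈ centralizer (V : Set M) := by
  have two : ∀ x ∈ R, ∀ y ∈ R, ∀ v ∈ V,
      (x * y) * v * (x * y)⁻¹ = (x * v * x⁻¹ * v⁻¹) * (y * v * y⁻¹ * v⁻¹) * v := by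
    intro x hx y hy v hv
    have hfix : x * (y * v * y⁻¹ * v⁻¹) = (y * v * y⁻¹ * v⁻¹) * x :=
      comm_of_le_centralizer hR hx (hRV y hy v hv)
    have hcc := comm_of_le_centralizer (le_centralizer_self hV.1) (hKV (hRV y hy v hv)) (hKV (hRV x hx v hv))
    rw [← hcc]
    calc x * y * v * (x * y)⁻¹ = x * (y * v * y⁻¹ * v⁻¹) * v * x⁻¹ := by group
      _ = (y * v * y⁻¹ * v⁻¹) * x * v * x⁻¹ := by rw [hfix]
      _ = _ := by group
  refine ⟨fun x hx => mem_centralizer_iff.mpr fun v hv => ?_,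
    fun x hx y hy => mem_centralizer_iff.mpr fun w hw => ?_⟩
  · have h := two x hx x hx v hv
    rw [sq_eq_one hV (hKV (hRV x hx v hv)), one_mul] at h
    exact (mul_inv_eq_iff_eq_mul.mp h).symm
  · set v := (y * x)⁻¹ * w * (y * x) with hv
    have hvV : v ∈ V := by
      have := Normal.conj_mem (inferInstance : V.Normal) w hw (y * x)⁻¹
      rwa [inv_inv] at this
    have h := two x hx y hy v hvV
    have h' := two y hy x hx v hvV
    rw [comm_of_le_centralizer (le_centralizer_self hV.1) (hKV (hRV y hy v hvV)) (hKV (hRV x hx v hvV)),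
      ← h] at h'
    have hw' : w = (y * x) * v * (y * x)⁻¹ := by rw [hv]; group
    have : (x * y * x⁻¹ * y⁻¹) * w * (x * y * x⁻¹ * y⁻¹)⁻¹ = w := by
      calc (x * y * x⁻¹ * y⁻¹) * w * (x * y * x⁻¹ * y⁻¹)⁻¹ = (x * y) * v * (x * y)⁻¹ := by rw [hw']; group
        _ = w := by rw [← h', ← hw']
    exact (mul_inv_eq_iff_eq_mul.mp this).symm

end Cfsg.Agent.H47.FF
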