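import Cfsg.Agent.H47.FourFreeNormal
import Cfsg.Prelude.Def_Involutions
import Cfsg.Prelude.Def_CaseTheorems

/-!
A group whose 2-local subgroups are solvable, four-free and of characteristic two: every maximal 2-local
subgroup is the normalizer of a characteristic subgroup of each of its Sylow 2-subgroups, so it is
strongly embedded.
-/

set_option autoImplicit false
set_option linter.style.haveILetI false
set_option linter.unusedSectionVars false
set_option maxHeartbeats 1000000

namespace Cfsg.Agent.H47.FF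

open Subgroup
open Cfsg.Agent.Thompson (jay zjay maxIn)

universe u

variable {G : Type u} [Group G]

/-- Involutions and the identity of a central subgroup. -/
def omegaCentre (R : Subgroup G) : Subgroup G where
  carrier := {x | x ∈ R ∧ x ∈ centralizer (R : Set G) ∧ x * x = 1}
  one_mem' := ⟨one_mem _, one_mem _, mul_one 1⟩
  mul_mem' := fun {a b} ha hb => ⟨mul_mem ha.1 hb.1, mul_mem ha.2.1 hb.2.1, by
    have hab : a * b = b * a := mem_centralizer_iff.mp hb.2.1 a ha.1
    rw [show a * b * (a * b) = a * (b * a) * b by group, ← hab, show a * (a * b) * b = (a * a) * (b * b) by group,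
      ha.2.2, hb.2.2, one_mul]⟩
  inv_mem' := fun {a} ha => ⟨inv_mem ha.1, inv_mem ha.2.1, by rw [← mul_inv_rev, ha.2.2, inv_one]⟩

theorem omegaCentre_ne_bot [Finite G] {R : Subgroup G} (hR : IsPGroup 2 R) (hne : R ≠ ⊥) :
    omegaCentre R ≠ ⊥ := by
  haveI : Fact (Nat.Prime 2) := ⟨Nat.prime_two⟩
  haveI : Nontrivial R := R.nontrivial_iff_ne_bot.mpr hne
  have hc : Nontrivial (Subgroup.center R) := hR.center_nontrivial
  obtain ⟨n, hn0, hn⟩ := (hR.to_subgroup (Subgroup.center R)).nontrivial_iff_card.mp hc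
  obtain ⟨y, hy⟩ := exists_prime_orderOf_dvd_card' 2 (G := Subgroup.center R) (hn ▸ dvd_pow_self 2 hn0.ne')
  intro h
  have hy2 : y * y = 1 := by rw [← pow_two, ← hy, pow_orderOf_eq_one]
  have hmem : ((y : R) : G) ∈ omegaCentre R :=
    ⟨(y : R).2, mem_centralizer_iff.mpr fun z hz => congrArg Subtype.val (mem_center_iff.mp y.2 ⟨z, hz⟩),
      congrArg (fun w : Subgroup.center R => ((w : R) : G)) hy2⟩
  rw [h, mem_bot] at hmem
  rw [show y = 1 from Subtype.ext (Subtype.ext hmem), orderOf_one] at hy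
  omega

/-- The normal closure in `N(J(S))` of the central involutions of `R`. -/
def closJay (S R : Subgroup G) : Subgroup G :=
  ⨆ h : ↥(normalizer (jay 2 S : Set G)), cj (h : G) (omegaCentre R)

theorem normalizer_jay_le_closJay [Finite G] (S R : Subgroup G) :
    normalizer (jay 2 S : Set G) ≤ normalizer (closJay S R : Set G) := fun g hg =>
  mem_normalizer_of_conj_le fun x hx => by
    have : cj g (closJay S R) ≤ closJay S R := by
      rw [closJay, cj, Subgroup.map_iSup]
      exact iSup_le fun h => (cj_cj g (h : G) _).le.trans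
        (le_iSup (fun h : ↥(normalizer (jay 2 S : Set G)) => cj (h : G) (omegaCentre R)) (⟨g, hg⟩ * h))
    exact this ⟨x, hx, rfl⟩

variable [Finite G]

/-- In a four-free solvable group the conjugates of a subgroup centralized by a Sylow 2-subgroup generate
a subgroup on which no offender acts. -/
theorem nof_of_reduced [hsol : Group.IsSolvable G] (hfree : ¬ Cfsg.Involves (Equiv.Perm (Fin 4)) G)
    (T : Sylow 2 G) {U Z : Subgroup G} [U.Normal] (hU : Cfsg.IsElementaryAbelian 2 U)
    (hZ : Z ≤ centralizer ((T : Subgroup G) : Set G)) (hgen : U ≤ ⨆ g, cj g Z) (hZU : Z ≤ U) :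
    ∀ B : Subgroup G, (∀ x ∈ B, x * x ∈ centralizer (U : Set G)) →
      (∀ x ∈ B, ∀ y ∈ B, x * y * x⁻¹ * y⁻¹ ∈ centralizer (U : Set G)) →
      (centralizer (U : Set G)).relIndex B ^ 2 ≤ (centralizer (B : Set G)).relIndex U := by
  haveI : Fact (Nat.Prime 2) := ⟨Nat.prime_two⟩
  intro B hsq hc
  set C := centralizer (U : Set G) with hC
  haveI hCn : C.Normal := inferInstance
  set π := QuotientGroup.mk' C with hπ
  have hπsurj : Function.Surjective π := QuotientGroup.mk'_surjective C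
  have hfree3 : ¬ Cfsg.Involves (DihedralGroup 3) (G ⧸ C) :=
    not_involves_of_normal hfree U (fun x => ⟨1, Subtype.ext (by simpa using hU.2 x x.2)⟩) π hπsurj (by rw [hπ, QuotientGroup.ker_mk'])
  -- the quotient is reduced
  have hO : Cfsg.pCore 2 (G ⧸ C) = ⊥ := by
    set P := Cfsg.pCore 2 (G ⧸ C)
    haveI : P.Normal := Cfsg.pCore_normal 2 _
    set R := P.comap π with hR
    haveI : R.Normal := Normal.comap inferInstance π
    have hTP : P ≤ (T : Subgroup G).map π := by
      have := Cores.pCore_le_sylow (T.mapSurjective hπsurj)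
      rwa [Sylow.coe_mapSurjective] at this
    set T0 := (T : Subgroup G) ⊓ R with hT0
    have hRfix : R ≤ centralizer (Z : Set G) := by
      intro r hr
      obtain ⟨t, ht, htr⟩ := hTP hr
      have h1 : t⁻¹ * r ∈ C := by
        rw [← QuotientGroup.eq_one_iff]
        show π (t⁻¹ * r) = 1
        rw [map_mul, map_inv, htr, inv_mul_cancel]
      rw [← mul_inv_cancel_left t r]
      exact mul_mem (le_centralizer_iff.mp hZ ht) (centralizer_le hZU h1)
    have hT0U : T0 ≤ C := by
      rw [hC]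
      refine le_centralizer_iff.mp (hgen.trans (iSup_le fun g => ?_))
      have hg : g ∈ normalizer (T0 : Set G) ⊔ R := by rw [Thompson.frattini_inf T R]; exact mem_top g
      obtain ⟨n, hn, r, hr, rfl⟩ : ∃ n ∈ normalizer (T0 : Set G), ∃ r ∈ R, n * r = g := by
        rw [← SetLike.mem_coe, Subgroup.mul_normal] at hg
        exact hg
      rintro _ ⟨z, hz, rfl⟩
      refine mem_centralizer_iff.mpr fun x hx => ?_
      have hrz : r * z * r⁻¹ = z := by
        rw [← comm_of_le_centralizer (le_centralizer_iff.mp hRfix) hz hr, mul_inv_cancel_right]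
      have hx' : n⁻¹ * x * n ∈ T0 := by
        have := (mem_normalizer_iff.mp (inv_mem hn) x).mp hx
        rwa [inv_inv] at this
      have hzx := comm_of_le_centralizer hZ hz hx'.1
      show x * (MulAut.conj (n * r) z) = MulAut.conj (n * r) z * x
      rw [MulAut.conj_apply, show n * r * z * (n * r)⁻¹ = n * (r * z * r⁻¹) * n⁻¹ by group, hrz]
      calc x * (n * z * n⁻¹) = n * ((n⁻¹ * x * n) * z) * n⁻¹ := by group
        _ = n * (z * (n⁻¹ * x * n)) * n⁻¹ := by rw [hzx]
        _ = n * z * n⁻¹ * x := by group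
    rw [eq_bot_iff]
    intro p hp
    obtain ⟨t, ht, rfl⟩ := hTP hp
    exact mem_bot.mpr ((QuotientGroup.eq_one_iff t).mpr (hT0U ⟨ht, hp⟩))
  letI : CommGroup U :=
    { (inferInstance : Group U) with
      mul_comm := fun a b => Subtype.ext (comm_of_le_centralizer (le_centralizer_self hU.1) a.2 b.2) }
  set ψ : G →* MulAut U := MulAut.conjNormal with hψ
  have hker : C = ψ.ker := by
    ext g
    rw [MonoidHom.mem_ker]
    constructor
    · intro hg
      refine MulEquiv.ext fun x => Subtype.ext ?_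
      show g * (x : G) * g⁻¹ = x
      rw [comm_of_le_centralizer le_rfl hg x.2, mul_inv_cancel_right]
    · intro hg
      refine mem_centralizer_iff.mpr fun x hx => ?_
      have h := congrArg Subtype.val (DFunLike.congr_fun hg (⟨x, hx⟩ : U))
      have h' : g * x * g⁻¹ = x := h
      exact (mul_inv_eq_iff_eq_mul.mp h').symm
  set φ : G ⧸ C →* MulAut U := QuotientGroup.lift C ψ hker.le with hφ
  have hBel : Cfsg.IsElementaryAbelian 2 (B.map π) := by
    refine ⟨le_centralizer_iff_isMulCommutative.mp (le_centralizer_of_comm ?_), ?_⟩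
    · rintro _ ⟨a, ha, rfl⟩ _ ⟨b, hb, rfl⟩
      refine commutatorElement_eq_one_iff_mul_comm.mp ?_
      rw [← map_commutatorElement]
      exact (QuotientGroup.eq_one_iff _).mpr (hc a ha b hb)
    · rintro _ ⟨a, ha, rfl⟩
      rw [← map_pow, pow_two]
      exact (QuotientGroup.eq_one_iff _).mpr (hsq a ha)
  obtain ⟨D, hDn, -, hD2, hDb⟩ := SB.sq_bound hfree3
    (fun x : U => Subtype.ext (sq_eq_one hU x.2)) φ (B.map π) hBel
  have hDbot : D = ⊥ := by
    rw [eq_bot_iff, ← hO]
    refine Cores.le_pCore ?_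
    rintro ⟨g, hg⟩
    obtain ⟨k, hk⟩ := hD2 g hg
    refine ⟨k, Subtype.ext ?_⟩
    show g ^ 2 ^ k = 1
    induction g using QuotientGroup.induction_on with | _ g => ?_
    rw [← QuotientGroup.mk_pow] at hk ⊢
    exact (QuotientGroup.eq_one_iff _).mpr (hker.ge (MonoidHom.mem_ker.mpr hk))
  refine le_trans (le_of_eq ?_) (hDb.trans ?_)
  · rw [hDbot, ← relIndex_comap, MonoidHom.comap_bot, hπ, QuotientGroup.ker_mk']
  · rw [← relIndex_top_right]
    refine le_trans ?_ (le_of_eq (show ((centralizer (B : Set G)).subgroupOf U).relIndex ⊤ =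
      (centralizer (B : Set G)).relIndex U by rw [relIndex_top_right]; rfl))
    refine relIndex_le_of_le_left ?_ index_ne_zero_of_finite
    rintro x hx _ ⟨b, hb, rfl⟩
    refine Subtype.ext ?_
    show b * (x : G) * b⁻¹ = x
    rw [← comm_of_le_centralizer le_rfl (mem_subgroupOf.mp hx) hb, mul_inv_cancel_right]

/-- A maximal 2-local subgroup is determined by each of its Sylow 2-subgroups, which are Sylow in `G`. -/
theorem maximal_eq_normalizer
    (hloc : ∀ M : Subgroup G, Cfsg.IsTwoLocal M → Group.IsSolvable M ∧ Cfsg.IsOfCharacteristicTwo ↥M ∧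
      ¬ Cfsg.Involves (Equiv.Perm (Fin 4)) ↥M)
    {M : Subgroup G} (hM : Cfsg.IsMaximalTwoLocal M) (S₀ : Sylow 2 M) :
    ∃ P : Sylow 2 G, (P : Subgroup G) = (S₀ : Subgroup M).map M.subtype ∧
      normalizer (jay 2 (P : Subgroup G) : Set G) ≤ M ∧
      M = normalizer (closJay (P : Subgroup G) (P : Subgroup G) : Set G) := by
  haveI : Fact (Nat.Prime 2) := ⟨Nat.prime_two⟩
  obtain ⟨hMsol, hMchar, hMfree⟩ := hloc M hM.1
  haveI := hMsol
  set S := (S₀ : Subgroup M).map M.subtype with hS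
  have hSM : S ≤ M := map_subtype_le _
  have hS2 : IsPGroup 2 S := S₀.isPGroup'.map _
  set Q := Cfsg.pCore 2 M with hQ
  set Q' := Q.map M.subtype with hQ'
  have hQ'S : Q' ≤ S := map_mono (Cores.pCore_le_sylow S₀)
  have hQ'ne : Q' ≠ ⊥ := by
    obtain ⟨T, hT, hTne, hMT⟩ := hM.1
    have hTM : T ≤ M := hMT ▸ le_normalizer
    intro h
    haveI : (T.subgroupOf M).Normal := (normal_subgroupOf_iff_le_normalizer hTM).mpr hMT.le
    have h1 : T.subgroupOf M ≤ Q := Cores.le_pCore (IsPGroup.of_equiv hT (subgroupOfEquivOfLe hTM).symm)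
    exact hTne (le_bot_iff.mp (h ▸ ((subgroupOf_map_subtype T M).trans (inf_eq_left.mpr hTM)).ge.trans
      (map_mono h1)))
  have hSne : S ≠ ⊥ := fun h => hQ'ne (le_bot_iff.mp (h ▸ hQ'S))
  have hMN : M = normalizer (Q' : Set G) := by
    refine (hM.2 _ ⟨Q', hS2.to_le hQ'S, hQ'ne, rfl⟩ ?_).symm
    intro m hm
    refine mem_normalizer_of_conj_le ?_
    rintro _ ⟨q, hq, rfl⟩
    exact ⟨⟨m, hm⟩ * q * ⟨m, hm⟩⁻¹, (Cfsg.pCore_normal 2 M).conj_mem q hq _, rfl⟩
  set J := jay 2 S with hJ
  set H := normalizer (J : Set G) with hH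
  have hJne : J ≠ ⊥ := fun h => Thompson.zjay_ne_bot hS2 hSne (e := 2) (.inr rfl)
    (le_bot_iff.mp (h ▸ (inf_le_left : zjay 2 S ≤ J)))
  obtain ⟨hHsol, -, hHfree⟩ := hloc H ⟨J, hS2.to_le Thompson.jay_le, hJne, rfl⟩
  haveI := hHsol
  have hSH : S ≤ H := le_normalizer.trans (Thompson.normalizer_le_normalizer_jay 2 S)
  obtain ⟨TH, hTH⟩ := (IsPGroup.of_equiv hS2 (subgroupOfEquivOfLe hSH).symm).exists_le_sylow
  set T' := (TH : Subgroup H).map H.subtype with hT'
  have hST' : S ≤ T' := ((subgroupOf_map_subtype S H).trans (inf_eq_left.mpr hSH)).ge.trans (map_mono hTH)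
  set Z0 := omegaCentre T' with hZ0
  have hZ0M : ∀ z ∈ Z0, z ∈ M := fun z hz => hMN.ge
    (centralizer_le_normalizer _ (centralizer_le (hQ'S.trans hST') hz.2.1))
  have hZ0S : Z0 ≤ S := fun z hz => hQ'S (by
    refine ⟨⟨z, hZ0M z hz⟩, hMchar (mem_centralizer_iff.mpr fun q hq => Subtype.ext ?_), rfl⟩
    exact mem_centralizer_iff.mp (centralizer_le (hQ'S.trans hST') hz.2.1) _ ⟨q, hq, rfl⟩)
  set U := closJay S T' with hUdef
  have hHU : H ≤ normalizer (U : Set G) := normalizer_jay_le_closJay S T'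
  have hZ0U : Z0 ≤ U :=
    (cj_one Z0).ge.trans (le_iSup (fun h : ↥H => cj (h : G) Z0) 1)
  have hUz : ∀ x ∈ U, x ∈ zjay 2 S ∧ x * x = 1 := by
    have hle : U ≤ omegaCentre (zjay 2 S) := by
      refine iSup_le fun h => ?_
      rintro _ ⟨z, hz, rfl⟩
      have hzz : z ∈ zjay 2 S := by
        have hzC : z ∈ centralizer (S : Set G) := centralizer_le hST' hz.2.1
        obtain ⟨A, hA⟩ := Thompson.maxIn_nonempty 2 S
        refine ⟨Thompson.le_jay hA (Thompson.mem_of_mem_centralizer hA (hZ0S hz)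
          (centralizer_le hA.1 hzC) (by rw [pow_two]; exact hz.2.2)), ?_⟩
        exact centralizer_le Thompson.jay_le hzC
      have hmem : (h : G) * z * (h : G)⁻¹ ∈ zjay 2 S :=
        (mem_normalizer_iff.mp (Thompson.normalizer_jay_le_normalizer_zjay 2 S h.2) z).mp hzz
      refine ⟨hmem, mem_centralizer_iff.mpr fun y hy => Thompson.zjay_comm hy hmem, ?_⟩
      show MulAut.conj (h : G) z * MulAut.conj (h : G) z = 1
      rw [← map_mul, hz.2.2, map_one]
    exact fun x hx => ⟨(hle hx).1, (hle hx).2.2⟩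
  have hU : Cfsg.IsElementaryAbelian 2 U := isElementaryAbelian_of
    (le_centralizer_of_comm fun a ha b hb => Thompson.zjay_comm (hUz a ha).1 (hUz b hb).1)
    fun x hx => (hUz x hx).2
  have hUS : U ≤ S := fun x hx => Thompson.zjay_le (hUz x hx).1
  have hUne : U ≠ ⊥ := fun h => omegaCentre_ne_bot (TH.isPGroup'.map _)
    (fun hb => hSne (le_bot_iff.mp (hb ▸ hST'))) (le_bot_iff.mp (h ▸ hZ0U))
  -- no offender
  have hUH : U ≤ H := hUS.trans hSH
  haveI : (U.subgroupOf H).Normal := (normal_subgroupOf_iff_le_normalizer hUH).mpr hHU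
  have hUHel : Cfsg.IsElementaryAbelian 2 (U.subgroupOf H) := isElementaryAbelian_of
    (le_centralizer_of_comm fun a ha b hb => Subtype.ext
      (comm_of_le_centralizer (le_centralizer_self hU.1) (mem_subgroupOf.mp ha) (mem_subgroupOf.mp hb)))
    fun x hx => Subtype.ext (hUz _ (mem_subgroupOf.mp hx)).2
  have hnofH := nof_of_reduced hHfree TH (U := U.subgroupOf H) (Z := Z0.subgroupOf H) hUHel
    (fun z hz => mem_centralizer_iff.mpr fun t ht =>
      Subtype.ext (mem_centralizer_iff.mp (mem_subgroupOf.mp hz).2.1 _ ⟨t, ht, rfl⟩))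
    (by
      refine (Subgroup.map_le_map_iff_of_injective H.subtype_injective).mp ?_
      rw [subgroupOf_map_subtype, inf_eq_left.mpr hUH, Subgroup.map_iSup]
      refine iSup_le fun h => le_iSup_of_le h ?_
      rintro _ ⟨z, hz, rfl⟩
      exact ⟨h * ⟨z, hUH (hZ0U hz)⟩ * h⁻¹, ⟨⟨z, hUH (hZ0U hz)⟩, hz, rfl⟩, rfl⟩)
    (comap_mono hZ0U)
  have hnof : Nof U S := by
    intro B hB hsq hc
    have hBH : B ≤ H := hB.trans hSH
    have h1 := hnofH (B.subgroupOf H)
      (fun x hx => by rw [centralizer_subgroupOf hUH]; exact hsq _ (mem_subgroupOf.mp hx))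
      (fun x hx y hy => by
        rw [centralizer_subgroupOf hUH]; exact hc _ (mem_subgroupOf.mp hx) _ (mem_subgroupOf.mp hy))
    rwa [centralizer_subgroupOf hUH, centralizer_subgroupOf hBH, relIndex_subgroupOf hBH,
      relIndex_subgroupOf hUH] at h1
  have hUM : U ≤ M := hUS.trans hSM
  have hnormal : (U.subgroupOf M).Normal := by
    refine normal_of_nof hMchar hMfree S₀ ?_ ?_ ?_ ?_ ?_
    · exact ((Subgroup.map_le_map_iff_of_injective M.subtype_injective).mp
        (by rw [subgroupOf_map_subtype]; exact inf_le_left.trans hUS))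
    · exact isElementaryAbelian_of
        (le_centralizer_of_comm fun a ha b hb => Subtype.ext
          (comm_of_le_centralizer (le_centralizer_self hU.1) (mem_subgroupOf.mp ha) (mem_subgroupOf.mp hb)))
        fun x hx => Subtype.ext (hUz _ (mem_subgroupOf.mp hx)).2
    · exact fun a ha => mem_normalizer_of_conj_le fun x hx => mem_subgroupOf.mpr
        ((mem_normalizer_iff.mp (hHU (hSH ⟨a, ha, rfl⟩)) _).mp (mem_subgroupOf.mp hx))
    · intro a ha
      have hj : (jay 2 (S₀ : Subgroup M)).map M.subtype = J := by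
        rw [hJ, hS, Thompson.jay_map _ M.subtype_injective]
      have h1 : (a : G) ∈ H := by
        rw [hH, ← hj]
        refine mem_normalizer_of_conj_le ?_
        rintro _ ⟨x, hx, rfl⟩
        exact ⟨a * x * a⁻¹, (mem_normalizer_iff.mp ha x).mp hx, rfl⟩
      exact mem_normalizer_of_conj_le fun x hx => mem_subgroupOf.mpr
        ((mem_normalizer_iff.mp (hHU h1) _).mp (mem_subgroupOf.mp hx))
    · intro B hB hsq hc
      rw [centralizer_subgroupOf hUM] at hsq hc ⊢
      have h1 := hnof (B.map M.subtype) (map_mono hB)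
        (by rintro _ ⟨x, hx, rfl⟩; exact hsq x hx)
        (by rintro _ ⟨x, hx, rfl⟩ _ ⟨y, hy, rfl⟩; exact hc x hx y hy)
      have hBM : B.map M.subtype ≤ M := map_subtype_le B
      have hB' : B = (B.map M.subtype).subgroupOf M :=
        (comap_map_eq_self_of_injective M.subtype_injective B).symm
      rw [hB', centralizer_subgroupOf hBM, relIndex_subgroupOf hBM, relIndex_subgroupOf hUM]
      exact h1
  have hMU : normalizer (U : Set G) = M := hM.2 _ ⟨U, hS2.to_le hUS, hUne, rfl⟩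
    ((normal_subgroupOf_iff_le_normalizer hUM).mp hnormal)
  have hHM : H ≤ M := hHU.trans hMU.le
  -- `S` is Sylow in `N(J)`
  have hT'eq : T' = S := by
    refine le_antisymm ?_ hST'
    have hT'M : T' ≤ M := (map_subtype_le _).trans hHM
    have hle : (S₀ : Subgroup M) ≤ T'.subgroupOf M := fun x hx => hST' ⟨x, hx, rfl⟩
    have heq := S₀.is_maximal' (IsPGroup.of_equiv (TH.isPGroup'.map _) (subgroupOfEquivOfLe hT'M).symm) hle
    intro x hx
    exact ⟨⟨x, hT'M hx⟩, heq ▸ mem_subgroupOf.mpr hx, rfl⟩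
  obtain ⟨P, hSP⟩ := hS2.exists_le_sylow
  have hPS : (P : Subgroup G) = S := by
    by_contra hne
    have hlt : S.subgroupOf P < ⊤ := lt_top_iff_ne_top.mpr fun h => hne (le_antisymm (subgroupOf_eq_top.mp h) hSP)
    haveI := P.isPGroup'.isNilpotent
    obtain ⟨x, hx, hxS⟩ := SetLike.exists_of_lt (Group.normalizerCondition_of_isNilpotent _ hlt)
    set R := (P : Subgroup G) ⊓ normalizer (S : Set G) with hR
    have hxR : (x : G) ∈ R := ⟨x.2, mem_normalizer_of_conj_le fun y hy =>
      (mem_normalizer_iff.mp hx ⟨y, hSP hy⟩).mp hy⟩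
    have hRH : R ≤ H := inf_le_right.trans (Thompson.normalizer_le_normalizer_jay 2 S)
    have hle : (TH : Subgroup H) ≤ R.subgroupOf H := fun y hy => by
      have : (y : G) ∈ S := hT'eq.le ⟨y, hy, rfl⟩
      exact ⟨hSP this, le_normalizer this⟩
    have heq := TH.is_maximal' (IsPGroup.of_equiv (P.isPGroup'.to_le inf_le_left)
      (subgroupOfEquivOfLe hRH).symm) hle
    exact hxS (mem_subgroupOf.mpr (hT'eq.le ⟨⟨(x : G), hRH hxR⟩, heq ▸ mem_subgroupOf.mpr hxR, rfl⟩))
  refine ⟨P, hPS, ?_, ?_⟩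
  · rw [hPS]; exact hHM
  · rw [hPS, ← hMU, hUdef, hT'eq]

/-- Every maximal 2-local subgroup is strongly embedded. -/
theorem maximal_stronglyEmbedded (heven : Even (Nat.card G)) (hO : Cfsg.pCore 2 G = ⊥)
    (hloc : ∀ M : Subgroup G, Cfsg.IsTwoLocal M → Group.IsSolvable M ∧ Cfsg.IsOfCharacteristicTwo ↥M ∧
      ¬ Cfsg.Involves (Equiv.Perm (Fin 4)) ↥M)
    {M : Subgroup G} (hM : Cfsg.IsMaximalTwoLocal M) : Cfsg.IsStronglyEmbedded M := by
  haveI : Fact (Nat.Prime 2) := ⟨Nat.prime_two⟩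
  -- the maximal subgroup over a Sylow subgroup
  let mx : Sylow 2 G → Subgroup G := fun S =>
    normalizer (closJay (S : Subgroup G) (S : Subgroup G) : Set G)
  have huniq : ∀ (N : Subgroup G), Cfsg.IsMaximalTwoLocal N → ∀ S : Sylow 2 G, (S : Subgroup G) ≤ N →
      mx S = N ∧ normalizer (jay 2 (S : Subgroup G) : Set G) ≤ N := by
    intro N hN S hS
    obtain ⟨P, hP, h1, h2⟩ := maximal_eq_normalizer hloc hN (S.subtype hS)
    have hPS : (P : Subgroup G) = S := by
      rw [hP, Sylow.coe_subtype, subgroupOf_map_subtype, inf_eq_left.mpr hS]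
    rw [hPS] at h1 h2
    exact ⟨h2.symm, h1⟩
  have hext : ∀ {N : Subgroup G}, Cfsg.IsTwoLocal N → ∃ N', N ≤ N' ∧ Cfsg.IsMaximalTwoLocal N' := by
    intro N hN
    obtain ⟨N', ⟨hN'1, hN'2⟩, hmax⟩ := Set.exists_max_image {K : Subgroup G | Cfsg.IsTwoLocal K ∧ N ≤ K}
      (fun K => Nat.card K) (Set.toFinite _) ⟨N, hN, le_rfl⟩
    exact ⟨N', hN'2, hN'1, fun K hK hle =>
      (eq_of_le_of_card_ge hle (hmax K ⟨hK, hN'2.trans hle⟩)).symm⟩
  have hinter : ∀ (d : ℕ) (S S' : Sylow 2 G), Nat.card G - Nat.card ↥((S : Subgroup G) ⊓ S') = d →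
      (S : Subgroup G) ⊓ S' ≠ ⊥ → mx S = mx S' := by
    intro d
    induction d using Nat.strong_induction_on with
    | _ d ih =>
    intro S S' hd hne
    rcases eq_or_ne S S' with rfl | hSS
    · rfl
    set P := (S : Subgroup G) ⊓ S' with hP
    obtain ⟨N, hPN, hN⟩ := hext ⟨P, S.isPGroup'.to_le inf_le_left, hne, rfl⟩
    have key : ∀ A : Sylow 2 G, P ≤ (A : Subgroup G) → P ≠ A → mx A = N := by
      intro A hPA hneA
      have hlt : P.subgroupOf A < ⊤ := lt_top_iff_ne_top.mpr fun h =>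
        hneA (le_antisymm hPA (subgroupOf_eq_top.mp h))
      haveI := A.isPGroup'.isNilpotent
      obtain ⟨x, hx, hxP⟩ := SetLike.exists_of_lt (Group.normalizerCondition_of_isNilpotent _ hlt)
      set R := (A : Subgroup G) ⊓ normalizer (P : Set G) with hR
      have hxR : (x : G) ∈ R := ⟨x.2, mem_normalizer_of_conj_le fun y hy =>
        (mem_normalizer_iff.mp hx ⟨y, hPA hy⟩).mp hy⟩
      have hRN : R ≤ N := inf_le_right.trans hPN
      obtain ⟨S₀, hS₀⟩ := (IsPGroup.of_equiv (A.isPGroup'.to_le (inf_le_left : R ≤ A))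
        (subgroupOfEquivOfLe hRN).symm).exists_le_sylow
      obtain ⟨B, hB, -, hBeq⟩ := maximal_eq_normalizer hloc hN S₀
      have hRB : R ≤ B := by
        rw [hB]; exact fun y hy => ⟨⟨y, hRN hy⟩, hS₀ (mem_subgroupOf.mpr hy), rfl⟩
      have hPR : P < R := lt_of_le_of_ne (le_inf hPA le_normalizer) fun h =>
        hxP (mem_subgroupOf.mpr (h ▸ hxR))
      have hlt2 : P < (A : Subgroup G) ⊓ B := hPR.trans_le (le_inf inf_le_left hRB)
      have hc : Nat.card P < Nat.card ↥((A : Subgroup G) ⊓ B) := Set.Finite.card_lt_card (Set.toFinite _) hlt2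
      rw [hBeq]
      refine ih _ ?_ A B rfl fun h => ?_
      · have := card_le_card_group ((A : Subgroup G) ⊓ B)
        rw [← hd]
        show Nat.card G - Nat.card ↥((A : Subgroup G) ⊓ B) < Nat.card G - Nat.card P
        omega
      · rw [h] at hlt2; exact not_lt_bot hlt2
    rw [key S inf_le_left fun h => hSS (Sylow.ext (S.is_maximal' S'.isPGroup' (h ▸ inf_le_right)).symm),
      key S' inf_le_right fun h => hSS (Sylow.ext (S'.is_maximal' S.isPGroup' (h ▸ inf_le_left)))]
  obtain ⟨T, hT, hTne, hMT⟩ := hM.1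
  have hTM : T ≤ M := hMT ▸ le_normalizer
  refine ⟨fun h => hTne ?_, ?_, fun g hg => ?_⟩
  · haveI : T.Normal := normalizer_eq_top_iff.mp (hMT.symm.trans h)
    exact le_bot_iff.mp (hO ▸ Cores.le_pCore hT)
  · rw [even_iff_two_dvd]
    haveI : Nontrivial T := T.nontrivial_iff_ne_bot.mpr hTne
    obtain ⟨n, hn0, hn⟩ := hT.nontrivial_iff_card.mp inferInstance
    exact (hn ▸ dvd_pow_self 2 hn0.ne' : 2 ∣ Nat.card T).trans (card_dvd_of_le hTM)
  rw [← Nat.not_even_iff_odd, even_iff_two_dvd]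
  intro h2
  obtain ⟨⟨t, ht, ht'⟩, ht2⟩ := exists_prime_orderOf_dvd_card' 2 h2
  rw [← orderOf_coe] at ht2
  have hto : orderOf t = 2 := ht2
  have hp : IsPGroup 2 (zpowers t) := IsPGroup.of_card (n := 1) (by rw [Nat.card_zpowers, hto, pow_one])
  have hsy : ∀ N : Subgroup G, Cfsg.IsMaximalTwoLocal N → t ∈ N → ∃ S : Sylow 2 G,
      (S : Subgroup G) ≤ N ∧ t ∈ (S : Subgroup G) := by
    intro N hN htN
    obtain ⟨S₀, hS₀⟩ := (IsPGroup.of_equiv hp (subgroupOfEquivOfLe (zpowers_le.mpr htN)).symm).exists_le_sylow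
    obtain ⟨P, hP, -, -⟩ := maximal_eq_normalizer hloc hN S₀
    exact ⟨P, hP.le.trans (map_subtype_le _), hP.ge ⟨⟨t, htN⟩, hS₀ (mem_subgroupOf.mpr (mem_zpowers t)), rfl⟩⟩
  have hconjN : ∀ (e : G) (T : Subgroup G), cj e (normalizer (T : Set G)) = normalizer (cj e T : Set G) :=
    fun e T => Subgroup.map_equiv_normalizer_eq T (MulAut.conj e)
  have hMg : Cfsg.IsMaximalTwoLocal (cj g M) := by
    have hconj : ∀ (e : G) {K : Subgroup G}, Cfsg.IsTwoLocal K → Cfsg.IsTwoLocal (cj e K) := by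
      rintro e K ⟨R, hR, hRne, rfl⟩
      exact ⟨cj e R, hR.map _, fun h => hRne ((Subgroup.map_eq_bot_iff_of_injective R
        (MulAut.conj e).injective).mp h), hconjN e R⟩
    refine ⟨hconj g hM.1, fun N hN hle => ?_⟩
    have := hM.2 _ (hconj g⁻¹ hN) (by
      have := cj_mono (g := g⁻¹) hle
      rwa [cj_cj, inv_mul_cancel, cj_one] at this)
    rw [← this, cj_cj, mul_inv_cancel, cj_one]
  obtain ⟨S, hSM, htS⟩ := hsy M hM ht
  obtain ⟨S', hS'M, htS'⟩ := hsy _ hMg ht'
  have hne : (S : Subgroup G) ⊓ S' ≠ ⊥ := fun h => by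
    have : t = 1 := mem_bot.mp (h ▸ ⟨htS, htS'⟩)
    rw [this, orderOf_one] at hto; omega
  have heq : cj g M = M := by
    rw [← (huniq _ hMg S' hS'M).1, ← hinter _ S S' rfl hne, (huniq M hM S hSM).1]
  -- the Frattini argument
  have hgS : ((g • S : Sylow 2 G) : Subgroup G) ≤ M := by
    rw [Sylow.coe_subgroup_smul, ← heq]
    exact cj_mono hSM
  obtain ⟨m, hm⟩ := MulAction.exists_smul_eq M ((S.subtype hSM)) ((g • S).subtype hgS)
  have hm' : ((m : G) • S : Sylow 2 G) = g • S := by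
    rw [Sylow.smul_subtype] at hm
    exact Sylow.subtype_injective hm
  have hfix : (m : G)⁻¹ * g ∈ normalizer (S : Set G) := by
    refine Sylow.smul_eq_iff_mem_normalizer.mp ?_
    rw [mul_smul, ← hm', inv_smul_smul]
  have := (huniq M hM S hSM).2 (Thompson.normalizer_le_normalizer_jay 2 _ hfix)
  exact hg (by simpa using mul_mem m.2 this)

end Cfsg.Agent.H47.FF
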