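import Cfsg.Agent.H47.FourFreeClosure

/-!
Main normality theorem for four-free solvable groups of characteristic two.
-/

set_option autoImplicit false
set_option linter.style.haveILetI false
set_option linter.unusedSectionVars false
set_option maxHeartbeats 1000000

namespace Cfsg.Agent.H47.FF

open Subgroup
open Cfsg.Agent.Thompson (jay maxIn)

universe u

variable {M : Type u} [Group M] [Finite M]

/-- The key counting step: an offender in `J(T)` centralizes the normal closure. -/
theorem offender_centralizes [hsol : Group.IsSolvable M] (hfree3 : ¬ Cfsg.Involves (DihedralGroup 3) M)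
    (T : Sylow 2 M) {V : Subgroup M} [hVn : V.Normal] (hV : Cfsg.IsElementaryAbelian 2 V)
    (hVQ : V ≤ Cfsg.pCore 2 M)
    (hnofV : ∀ B ≤ Cfsg.pCore 2 M, (∀ x ∈ B, x * x ∈ centralizer (V : Set M)) →
      (∀ x ∈ B, ∀ y ∈ B, x * y * x⁻¹ * y⁻¹ ∈ centralizer (V : Set M)) →
      (centralizer (V : Set M)).relIndex B ^ 2 ≤ (centralizer (B : Set M)).relIndex V)
    (φ : M →* MulAut (V ⧸ (⁅V, Cfsg.pCore 2 M⁆).subgroupOf V))
    (hφ : ∀ g : M, φ g = 1 ↔ ∀ v ∈ V, g * v * g⁻¹ * v⁻¹ ∈ ⁅V, Cfsg.pCore 2 M⁆)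
    (hφfix : ∀ (g : M) (v : V), (g * v * g⁻¹ * (v : M)⁻¹ ∈ ⁅V, Cfsg.pCore 2 M⁆) →
      φ g (v : V ⧸ (⁅V, Cfsg.pCore 2 M⁆).subgroupOf V) = (v : V ⧸ (⁅V, Cfsg.pCore 2 M⁆).subgroupOf V))
    (hD : (Cfsg.pCore 2 φ.range).comap φ.rangeRestrict ⊓ (T : Subgroup M) ≤ Cfsg.pCore 2 M)
    {A : Subgroup M} (hA : A ∈ maxIn 2 (T : Subgroup M)) : A ≤ centralizer (V : Set M) := by
  haveI : Fact (Nat.Prime 2) := ⟨Nat.prime_two⟩
  set Q := Cfsg.pCore 2 M with hQ
  haveI hQn : Q.Normal := Cfsg.pCore_normal 2 M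
  have hQT : Q ≤ (T : Subgroup M) := Cores.pCore_le_sylow T
  set K := ⁅V, Q⁆ with hK
  haveI hKn : K.Normal := Subgroup.commutator_normal V Q
  have hKV : K ≤ V := commutator_le_left V Q
  have hAel : Cfsg.IsElementaryAbelian 2 A := hA.2.1
  have hAA := le_centralizer_self hAel.1
  have hVV := le_centralizer_self hV.1
  set CV := centralizer (V : Set M) with hCV
  haveI hCVn : CV.Normal := inferInstance
  set C := V ⊓ centralizer (A : Set M) with hC
  set E := A ⊓ Q with hE
  set cIdx := (centralizer (A : Set M)).relIndex V with hcIdx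
  have hCrel : C.relIndex V = cIdx := inf_relIndex_left _ _
  -- `V` together with the part of `A` centralizing it competes with `A`
  have hk0 : cIdx ≤ CV.relIndex A := by
    set A0 := A ⊓ CV with hA0
    have hA0V : A0 ≤ centralizer (V : Set M) := inf_le_right
    have hY : Cfsg.Agent.Thompson.IsAbExp 2 (V ⊔ A0) := by
      refine ⟨le_centralizer_iff_isMulCommutative.mp ?_, fun x hx => ?_⟩
      · rw [centralizer_sup]
        exact sup_le (le_inf hVV (le_centralizer_iff.mp hA0V))
          (le_inf hA0V ((inf_le_left.trans hAA).trans (centralizer_le inf_le_left)))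
      · have h : V ⊔ A0 = ⨆ i : Bool, cond i V A0 := by rw [iSup_bool_eq]; rfl
        rw [pow_two]
        refine mem_bot.mp (sq_mem_of_generators (A := fun i => cond i V A0) (N := ⊥) (fun i => by
          rw [normalizer_eq_top]; exact le_top) ?_ ?_ (h ▸ hx))
        · intro i j a ha b hb
          have hab : a * b = b * a := by
            cases i <;> cases j
            · exact comm_of_le_centralizer hAA ha.1 hb.1
            · exact comm_of_le_centralizer hA0V ha hb
            · exact (comm_of_le_centralizer hA0V hb ha).symm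
            · exact comm_of_le_centralizer hVV ha hb
          rw [hab, mul_inv_cancel_right, mul_inv_cancel]; exact one_mem _
        · intro i a ha
          cases i
          · rw [sq_eq_one hAel ha.1]; exact one_mem _
          · rw [sq_eq_one hV ha]; exact one_mem _
    have hle : V ⊔ A0 ≤ (T : Subgroup M) := sup_le (hVQ.trans hQT) (inf_le_left.trans hA.1)
    have hcard := hA.2.2 _ hle hY
    rw [← card_mul_relIndex' (le_sup_right : A0 ≤ V ⊔ A0),
      ← card_mul_relIndex' (inf_le_left : A0 ≤ A), relIndex_sup_eq ((le_centralizer_iff.mp hA0V).trans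
        (centralizer_le_normalizer _)), hA0, inf_relIndex_left, ← hA0] at hcard
    refine le_trans ?_ (Nat.le_of_mul_le_mul_left hcard Nat.card_pos)
    rw [← inf_relIndex_right A0]
    refine relIndex_le_of_le_left ?_ index_ne_zero_of_finite
    exact inf_le_left.trans ((inf_le_left : A0 ≤ A).trans hAA)
  -- the action on `V / K`
  set D := (Cfsg.pCore 2 φ.range).comap φ.rangeRestrict with hDdef
  haveI hDn : D.Normal := (Cfsg.pCore_normal 2 φ.range).comap _
  have hkerD : φ.ker ≤ D := by
    intro g hg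
    show φ.rangeRestrict g ∈ Cfsg.pCore 2 φ.range
    rw [show φ.rangeRestrict g = 1 from Subtype.ext hg]
    exact one_mem _
  have hQD : Q ≤ D := fun q hq => hkerD ((hφ q).mpr fun v hv => by
    rw [commutator_comm]; exact commutator_mem_commutator hq hv)
  have hCVD : CV ≤ D := fun g hg => hkerD ((hφ g).mpr fun v hv => by
    rw [comm_of_le_centralizer le_rfl hg hv, mul_inv_cancel_right, mul_inv_cancel]; exact one_mem _)
  have hDA : D ⊓ A = Q ⊓ A := le_antisymm (le_inf ((inf_le_inf_left _ hA.1).trans hD) inf_le_right)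
    (inf_le_inf_right _ hQD)
  have hDrel : D.relIndex A = Q.relIndex A := by
    rw [← inf_relIndex_right, hDA, inf_relIndex_right]
  letI : CommGroup (V ⧸ K.subgroupOf V) :=
    { (inferInstance : Group (V ⧸ K.subgroupOf V)) with
      mul_comm := fun a b => by
        induction a using QuotientGroup.induction_on with | _ a => ?_
        induction b using QuotientGroup.induction_on with | _ b => ?_
        rw [← QuotientGroup.mk_mul, ← QuotientGroup.mk_mul]
        exact congrArg _ (Subtype.ext (comm_of_le_centralizer hVV a.2 b.2)) }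
  have ha2 : Q.relIndex A ^ 2 ≤ (C ⊔ K).relIndex V := by
    obtain ⟨D', hD'n, hkerD', hD'2, hD'b⟩ := SB.sq_bound (V := V ⧸ K.subgroupOf V) hfree3 (fun q => by
      induction q using QuotientGroup.induction_on with | _ a => ?_
      rw [← QuotientGroup.mk_mul, show a * a = 1 from Subtype.ext (sq_eq_one hV a.2), QuotientGroup.mk_one]) φ A hAel
    have hD'D : D' ≤ D := by
      rw [hDdef, ← map_le_iff_le_comap]
      haveI : (D'.map φ.rangeRestrict).Normal := hD'n.map _ φ.rangeRestrict_surjective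
      refine Cores.le_pCore ?_
      rintro ⟨_, g, hg, rfl⟩
      obtain ⟨k, hk⟩ := hD'2 g hg
      refine ⟨k, Subtype.ext ?_⟩
      show φ.rangeRestrict g ^ 2 ^ k = 1
      rw [← map_pow]
      exact Subtype.ext hk
    rw [← hDrel]
    refine (Nat.pow_le_pow_left (relIndex_le_of_le_left hD'D index_ne_zero_of_finite) 2).trans
      (hD'b.trans ?_)
    rw [← index_comap_of_surjective _ (QuotientGroup.mk'_surjective (K.subgroupOf V)), ← relIndex_top_right]
    refine le_trans ?_ (le_of_eq (show ((C ⊔ K).subgroupOf V).relIndex ⊤ = (C ⊔ K).relIndex V by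
      rw [relIndex_top_right]; rfl))
    refine relIndex_le_of_le_left ?_ index_ne_zero_of_finite
    intro v hv b hb
    refine hφfix b v ?_
    have hle : C ⊔ K ≤ commStab K b := sup_le
      (fun c hc => ⟨by rw [normalizer_eq_top]; exact mem_top _, by
        rw [comm_of_le_centralizer (inf_le_right : C ≤ centralizer (A : Set M)) hc hb,
          mul_inv_cancel_right, mul_inv_cancel]
        exact one_mem _⟩)
      (fun c hc => ⟨by rw [normalizer_eq_top]; exact mem_top _, by
        rw [show c * b * c⁻¹ * b⁻¹ = c * (b * c⁻¹ * b⁻¹) by group]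
        exact mul_mem hc (hKn.conj_mem _ (inv_mem hc) b)⟩)
    exact inv_comm_mem (hle hv).2
  have hEQ : E ≤ Q := inf_le_right
  have ha1 : CV.relIndex E ^ 2 ≤ (centralizer (E : Set M)).relIndex V := by
    refine hnofV E hEQ (fun x hx => by rw [sq_eq_one hAel hx.1]; exact one_mem _) (fun x hx y hy => ?_)
    rw [comm_of_le_centralizer hAA hx.1 hy.1, mul_inv_cancel_right, mul_inv_cancel]
    exact one_mem _
  have hCE : (centralizer (E : Set M)).relIndex V ≤ cIdx :=
    relIndex_le_of_le_left (centralizer_le (inf_le_left : E ≤ A)) index_ne_zero_of_finite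
  have hCA : CV ⊓ A = CV ⊓ E := le_antisymm
    (le_inf inf_le_left (le_inf inf_le_right ((inf_le_inf hCVD hA.1).trans hD)))
    (inf_le_inf_left _ inf_le_left)
  have hk0' : CV.relIndex A = CV.relIndex E * Q.relIndex A := by
    rw [← inf_relIndex_right CV A, hCA, ← relIndex_mul_relIndex (CV ⊓ E) E A inf_le_right inf_le_left,
      inf_relIndex_right, hE, inf_relIndex_left]
  have hCK : C ⊔ K ≤ V := sup_le inf_le_left hKV
  have hCCK : C.relIndex (C ⊔ K) * (C ⊔ K).relIndex V = cIdx := by
    rw [relIndex_mul_relIndex _ _ _ le_sup_left hCK, hCrel]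
  set k := CV.relIndex E with hk
  set k2 := Q.relIndex A with hk2
  have hCKpos : 0 < C.relIndex (C ⊔ K) := Nat.pos_of_ne_zero index_ne_zero_of_finite
  have hCKle : (C ⊔ K).relIndex V ≤ cIdx := by rw [← hCCK]; exact Nat.le_mul_of_pos_left _ hCKpos
  have hkk : k * k ≤ k * k2 := by
    rw [← pow_two]; exact ha1.trans (hCE.trans (hk0.trans hk0'.le))
  have hkk2 : k2 * k2 ≤ k * k2 := by
    rw [← pow_two]; exact ha2.trans (hCKle.trans (hk0.trans hk0'.le))
  have hkpos : 0 < k := Nat.pos_of_ne_zero index_ne_zero_of_finite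
  have hk2pos : 0 < k2 := Nat.pos_of_ne_zero index_ne_zero_of_finite
  have hkeq : k2 = k := le_antisymm (Nat.le_of_mul_le_mul_right hkk2 hk2pos)
    (Nat.le_of_mul_le_mul_left hkk hkpos)
  have hcI : cIdx = k * k := le_antisymm (hk0.trans (by rw [hk0', hkeq]))
    (by rw [← pow_two]; exact ha1.trans hCE)
  have hCKeq : (C ⊔ K).relIndex V = k * k := le_antisymm (hCKle.trans hcI.le)
    (by rw [← hkeq, ← pow_two]; exact ha2)
  have hKC : K ≤ C := by
    have h1 : C.relIndex (C ⊔ K) = 1 := by
      rw [hcI, hCKeq] at hCCK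
      exact Nat.eq_of_mul_eq_mul_right (Nat.mul_pos hkpos hkpos) (by rw [hCCK, one_mul])
    exact le_sup_right.trans (relIndex_eq_one.mp h1)
  have hVCE : V ⊓ centralizer (E : Set M) ≤ C := by
    have h1 : C ≤ V ⊓ centralizer (E : Set M) := inf_le_inf_left _ (centralizer_le (inf_le_left : E ≤ A))
    have h2 := relIndex_mul_relIndex C _ V h1 inf_le_left
    rw [hCrel, inf_relIndex_left, le_antisymm hCE (by rw [hcI, ← pow_two]; exact ha1)] at h2
    refine relIndex_eq_one.mp ?_
    exact Nat.eq_of_mul_eq_mul_right (Nat.pos_of_ne_zero index_ne_zero_of_finite)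
      (h2.trans (one_mul _).symm)
  -- the pair
  set Dq := Cfsg.pCore 2 φ.range with hDq
  haveI : Dq.Normal := Cfsg.pCore_normal 2 φ.range
  haveI : Group.IsSolvable φ.range := solvable_of_surjective φ.rangeRestrict_surjective
  set π := (QuotientGroup.mk' Dq).comp φ.rangeRestrict with hπ
  have hπsurj : Function.Surjective π :=
    (QuotientGroup.mk'_surjective _).comp φ.rangeRestrict_surjective
  have hπker : π.ker = D := by
    rw [hπ, ← MonoidHom.comap_ker, QuotientGroup.ker_mk']
  have hO : Cfsg.pCore 2 (φ.range ⧸ Dq) = ⊥ := Cores.pCore_quotient_pCore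
  obtain ⟨h, hhL, hpair⟩ := Pair.exists_pair π hπsurj hAel (Cfsg.fittingSubgroup (φ.range ⧸ Dq))
    (SB.odd_card_fitting hO) (inf_centralizer_fitting hO π hAel)
  set L := Pair.pairSub A h with hL
  have hAL : A ≤ L := le_sup_left
  set F0 := C ⊓ cj h C with hF0
  have hF0C : F0 ≤ C := inf_le_left
  have hLF0 : L ≤ centralizer (F0 : Set M) := sup_le
    (le_centralizer_iff.mp (hF0C.trans inf_le_right))
    (le_centralizer_iff.mp ((inf_le_right : F0 ≤ cj h C).trans ((cj_mono inf_le_right).trans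
      (cj_centralizer h A).le)))
  have hEK : E ≤ centralizer (K : Set M) :=
    (le_centralizer_iff.mp (hKC.trans inf_le_right)).trans' inf_le_left
  haveI hCKn : (centralizer (K : Set M)).Normal := inferInstance
  set N1 := ⨆ l : L, cj (l : M) E with hN1
  have hEN1 : E ≤ N1 := (cj_one E).ge.trans (le_iSup (fun l : L => cj (l : M) E) 1)
  have hEhN1 : cj h E ≤ N1 := le_iSup (fun l : L => cj (l : M) E) ⟨h, hhL⟩
  have hN1Q : N1 ≤ Q := iSup_le fun l => (cj_mono hEQ).trans (cj_of_normal _ Q).le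
  have hN1K : N1 ≤ centralizer (K : Set M) := iSup_le fun l => (cj_mono hEK).trans (cj_of_normal _ _).le
  have hLN1 : L ≤ normalizer (N1 : Set M) := fun l hl => mem_normalizer_of_conj_le fun x hx => by
    have : cj l N1 ≤ N1 := by
      rw [hN1, cj, Subgroup.map_iSup]
      exact iSup_le fun l' => (cj_cj l (l' : M) E).le.trans (le_iSup (fun l : L => cj (l : M) E) (⟨l, hl⟩ * l'))
    exact this ⟨x, hx, rfl⟩
  set C1 := N1 ⊓ CV with hC1
  have hnorm : ∀ W : Subgroup M, W ≤ normalizer (N1 : Set M) → W ≤ normalizer (C1 : Set M) :=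
    fun W hW w hw => mem_normalizer_of_conj_le fun x hx =>
      ⟨(mem_normalizer_iff.mp (hW hw) x).mp hx.1, hCVn.conj_mem x hx.2 w⟩
  have hkap : ∀ x ∈ Q, ∀ v ∈ V, x * v * x⁻¹ * v⁻¹ ∈ K := fun x hx v hv => by
    rw [hK, commutator_comm]; exact commutator_mem_commutator hx hv
  obtain ⟨hsq, hcm⟩ := series_sq_comm hV hKV (R := N1) hN1K fun x hx v hv => hkap x (hN1Q hx) v hv
  -- the size of `N1`
  have hF0N1 : N1 ≤ centralizer (F0 : Set M) := iSup_le fun l =>
    le_centralizer_iff.mp (fun x hx => by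
      refine (cj_centralizer (l : M) E).le (mem_cj.mpr ?_)
      have h1 : (l : M) * x = x * l := comm_of_le_centralizer hLF0 l.2 hx
      rw [mul_assoc, ← h1, inv_mul_cancel_left]
      exact centralizer_le (inf_le_left : E ≤ A) (hF0C hx).2)
  have hn1 : CV.relIndex N1 ≤ k * k := by
    have h1 := hnofV N1 hN1Q hsq hcm
    have h2 : (centralizer (N1 : Set M)).relIndex V ≤ cIdx * cIdx := by
      refine (relIndex_le_of_le_left (le_centralizer_iff.mp hF0N1) index_ne_zero_of_finite).trans
        (relIndex_inf_le.trans (Nat.mul_le_mul hCrel.le (le_of_eq ?_)))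
      conv_lhs => rw [← cj_of_normal h V]
      rw [relIndex_cj, hCrel]
    rw [hcI, ← pow_two (k * k)] at h2
    exact (Nat.pow_le_pow_iff_left two_ne_zero).mp (h1.trans h2)
  set Y := E ⊔ C1 with hY
  have hEC1 : E ≤ normalizer (C1 : Set M) := hnorm E (hEN1.trans le_normalizer)
  have hYrel : k * Y.relIndex N1 ≤ k * k := by
    refine le_trans (le_of_eq ?_) hn1
    have h1 := relIndex_mul_relIndex C1 Y N1 le_sup_right (sup_le hEN1 inf_le_left)
    rw [hY, relIndex_sup_eq hEC1, ← hY, ← inf_relIndex_right C1 E, hC1,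
      show N1 ⊓ CV ⊓ E = CV ⊓ E by rw [inf_comm N1, inf_assoc, inf_eq_right.mpr hEN1],
      inf_relIndex_right, inf_relIndex_left, ← hk] at h1
    exact h1
  have hbound := pair_bound hfree3 π (Cfsg.fittingSubgroup (φ.range ⧸ Dq)) (SB.odd_card_fitting hO)
    hAel hAL hpair hLN1 (hnorm L hLN1) (hnorm N1 le_normalizer)
    (fun x hx => ⟨mul_mem hx hx, hsq x hx⟩)
    (fun x hx y hy => ⟨show _ ∈ N1 from mul_mem (mul_mem (mul_mem hx hy) (inv_mem hx)) (inv_mem hy),
      hcm x hx y hy⟩)
    (sup_le hEN1 inf_le_left : Y ≤ N1)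
    (fun b hb y hy => by
      have hle : Y ≤ commStab C1 b := sup_le
        (fun e he => ⟨hEC1 he, by
          rw [comm_of_le_centralizer hAA he.1 hb, mul_inv_cancel_right, mul_inv_cancel]
          exact one_mem _⟩)
        (fun c hc => ⟨le_normalizer hc, by
          rw [show c * b * c⁻¹ * b⁻¹ = c * (b * c⁻¹ * b⁻¹) by group]
          exact mul_mem hc ((mem_normalizer_iff.mp (hnorm L hLN1 (hAL hb)) _).mp (inv_mem hc))⟩)
      exact inv_comm_mem (hle hy).2)
    (fun l hl hlo hlN1 => by
      have hlV : l ∈ CV := mem_centralizer_iff.mpr fun v hv => by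
        set w := l * v * l⁻¹ * v⁻¹ with hw
        have hwV : w ∈ V := mul_mem (hVn.conj_mem v hv l) (inv_mem hv)
        have hfixed : N1 ≤ centralizer ({w} : Set M) := fun n hn => by
          set κ := n * v * n⁻¹ * v⁻¹ with hκ
          have hκK : κ ∈ K := hkap n (hN1Q hn) v hv
          obtain ⟨c, hc, hcn⟩ : ∃ c ∈ C1, l * n * l⁻¹ = c * n :=
            ⟨l * n * l⁻¹ * n⁻¹, hlN1 n hn, by group⟩
          have hlκ : l * κ * l⁻¹ = κ := by
            have hκF0 : κ ∈ F0 := by
              refine ⟨hKC hκK, mem_cj.mpr (hKC ?_)⟩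
              have := hKn.conj_mem κ hκK h⁻¹
              rwa [inv_inv] at this
            rw [comm_of_le_centralizer hLF0 hl hκF0, mul_inv_cancel_right]
          have e1 : c * (n * (w * v) * n⁻¹) * c⁻¹ = κ * (w * v) := by
            calc c * (n * (w * v) * n⁻¹) * c⁻¹ = (c * n) * (l * v * l⁻¹) * (c * n)⁻¹ := by rw [hw]; group
              _ = (l * n * l⁻¹) * (l * v * l⁻¹) * (l * n * l⁻¹)⁻¹ := by rw [hcn]
              _ = (l * κ * l⁻¹) * (l * v * l⁻¹) := by rw [hκ]; group
              _ = κ * (w * v) := by rw [hlκ, hw]; group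
          have hwvV : n * (w * v) * n⁻¹ ∈ V := hVn.conj_mem _ (mul_mem hwV hv) n
          rw [comm_of_le_centralizer (le_refl _) hc.2 hwvV, mul_inv_cancel_right] at e1
          have e2 : n * w * n⁻¹ * κ = w * κ := by
            rw [← comm_of_le_centralizer hVV (hKV hκK) hwV]
            refine mul_right_cancel (b := v) ?_
            have e3 : n * w * n⁻¹ * κ * v = n * (w * v) * n⁻¹ := by rw [hκ]; group
            exact e3.trans (e1.trans (mul_assoc _ _ _).symm)
          exact mem_centralizer_singleton_iff.mpr (mul_inv_eq_iff_eq_mul.mp (mul_right_cancel e2))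
        have hwc : ∀ W : Subgroup M, W ≤ N1 → w ∈ centralizer (W : Set M) := fun W hW =>
          mem_centralizer_iff.mpr fun e he => mem_centralizer_singleton_iff.mp (hfixed (hW he))
        have hwF0 : w ∈ F0 := by
          refine ⟨hVCE ⟨hwV, hwc E hEN1⟩, cj_mono hVCE (mem_cj.mpr ⟨?_, ?_⟩)⟩
          · have := hVn.conj_mem w hwV h⁻¹
            rwa [inv_inv] at this
          · exact mem_cj.mp ((cj_centralizer h E).ge (hwc _ hEhN1))
        have hw1 : w = 1 := eq_one_of_step (P := V) (q := v) (x := w)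
          (IsPGroup.to_le Cores.pCore_isPGroup hVQ) hlo hwV (by rw [hw]; group)
          (by rw [comm_of_le_centralizer hLF0 hl hwF0, mul_inv_cancel_right])
        rw [hw, mul_inv_eq_one, mul_inv_eq_iff_eq_mul] at hw1
        exact hw1.symm
      exact (MonoidHom.mem_ker).mp (hπker.ge (hCVD hlV)))
  rw [hπker, hDrel, hkeq, pow_two] at hbound
  have hY2 : Y.relIndex N1 ≤ k := Nat.le_of_mul_le_mul_left hYrel hkpos
  have hk1 : k = 1 := by
    have := Nat.le_of_mul_le_mul_left ((hbound.trans hY2).trans (mul_one k).ge) hkpos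
    omega
  exact relIndex_eq_one.mp (by rw [hk0', hkeq, hk1])

theorem normal_of_nof_aux : ∀ n : ℕ, ∀ (M : Type u) [Group M] [Finite M], Nat.card M = n →
    Group.IsSolvable M → centralizer (Cfsg.pCore 2 M : Set M) ≤ Cfsg.pCore 2 M →
    ¬ Cfsg.Involves (Equiv.Perm (Fin 4)) M → ∀ (T : Sylow 2 M) (U : Subgroup M),
    U ≤ (T : Subgroup M) → Cfsg.IsElementaryAbelian 2 U → (T : Subgroup M) ≤ normalizer (U : Set M) →
    normalizer (jay 2 (T : Subgroup M) : Set M) ≤ normalizer (U : Set M) → Nof U (T : Subgroup M) →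
    U.Normal := by
  intro n
  induction n using Nat.strong_induction_on with
  | _ n ih =>
  intro M _ _ hcard hsol hconstr hfree T U hUT hU hTN hJN hnof
  haveI := hsol
  haveI : Fact (Nat.Prime 2) := ⟨Nat.prime_two⟩
  have hfree3 := free_self hfree hconstr
  set Q := Cfsg.pCore 2 M with hQ
  haveI hQn : Q.Normal := Cfsg.pCore_normal 2 M
  have hQT : Q ≤ (T : Subgroup M) := Cores.pCore_le_sylow T
  have hIH : ∀ M1 : Subgroup M, (T : Subgroup M) ≤ M1 → M1 ≠ ⊤ → M1 ≤ normalizer (U : Set M) := by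
    intro M1 hT1 hne
    have hlt : Nat.card M1 < n := hcard ▸ lt_of_le_of_ne (card_le_card_group M1)
      fun h => hne (eq_top_of_card_eq M1 h)
    refine (normal_subgroupOf_iff_le_normalizer (hUT.trans hT1)).mp ?_
    refine ih _ hlt M1 rfl inferInstance ?_ (fun h => hfree (involves_subgroup M1 h)) (T.subtype hT1)
      (U.subgroupOf M1) ?_ ⟨?_, ?_⟩ ?_ ?_ ?_
    · have h1 : Q.subgroupOf M1 ≤ Cfsg.pCore 2 M1 := Cores.subgroupOf_pCore_le M1
      refine (centralizer_le h1).trans ((le_of_eq (centralizer_subgroupOf (hQT.trans hT1))).trans ?_)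
      exact (comap_mono hconstr).trans h1
    · rw [Sylow.coe_subtype]; exact comap_mono hUT
    · exact le_centralizer_iff_isMulCommutative.mp fun a ha => mem_centralizer_iff.mpr fun b hb =>
        Subtype.ext (comm_of_le_centralizer (le_centralizer_self hU.1) (mem_subgroupOf.mp hb) (mem_subgroupOf.mp ha))
    · exact fun a ha => Subtype.ext (hU.2 _ ha)
    · rw [Sylow.coe_subtype]
      exact fun a ha => mem_normalizer_of_conj_le fun x hx =>
        (mem_normalizer_iff.mp (hTN (mem_subgroupOf.mp ha)) _).mp hx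
    · intro a ha
      have hj : (jay 2 ((T : Subgroup M).subgroupOf M1)).map M1.subtype = jay 2 (T : Subgroup M) := by
        rw [← Thompson.jay_map _ M1.subtype_injective, subgroupOf_map_subtype, inf_eq_left.mpr hT1]
      rw [Sylow.coe_subtype] at ha
      have h1 : (a : M) ∈ normalizer (jay 2 (T : Subgroup M) : Set M) := by
        rw [← hj]
        refine mem_normalizer_of_conj_le ?_
        rintro _ ⟨x, hx, rfl⟩
        exact ⟨a * x * a⁻¹, (mem_normalizer_iff.mp ha x).mp hx, rfl⟩
      exact mem_normalizer_of_conj_le fun x hx => (mem_normalizer_iff.mp (hJN h1) _).mp hx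
    · intro B hB hsq hc
      rw [Sylow.coe_subtype] at hB
      rw [centralizer_subgroupOf (hUT.trans hT1)] at hsq hc ⊢
      have hBT : B.map M1.subtype ≤ (T : Subgroup M) := by
        rintro _ ⟨x, hx, rfl⟩; exact mem_subgroupOf.mp (hB hx)
      have h1 := hnof (B.map M1.subtype) hBT
        (by rintro _ ⟨x, hx, rfl⟩; exact hsq x hx)
        (by rintro _ ⟨x, hx, rfl⟩ _ ⟨y, hy, rfl⟩; exact hc x hx y hy)
      have hB' : B = (B.map M1.subtype).subgroupOf M1 :=
        (comap_map_eq_self_of_injective M1.subtype_injective B).symm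
      rw [hB', centralizer_subgroupOf (hBT.trans hT1), relIndex_subgroupOf (hBT.trans hT1),
        relIndex_subgroupOf (hUT.trans hT1)]
      exact h1
  have hUQ : U ≤ Q := le_pCore_of_nof hfree3 hconstr hQT hU hTN hnof
  have hcomm : ∀ g g' : M, cj g U ≤ centralizer (cj g' U : Set M) := fun g g' => by
    have h := cj_mono (g := g') (conj_le_centralizer hQT hU hUQ hnof (g'⁻¹ * g))
    rwa [cj_centralizer, cj_cj, mul_inv_cancel_left] at h
  set V := ⨆ g, cj g U with hVdef
  have hUV : U ≤ V := (cj_one U).ge.trans (le_iSup (fun g => cj g U) 1)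
  haveI hVn : V.Normal := normal_of_normalizer_top fun g _ => mem_normalizer_of_conj_le fun x hx => by
    have : cj g V ≤ V := by
      rw [hVdef, cj, Subgroup.map_iSup]
      exact iSup_le fun g' => (cj_cj g g' U).le.trans (le_iSup (fun g => cj g U) (g * g'))
    exact this ⟨x, hx, rfl⟩
  have hVV : V ≤ centralizer (V : Set M) :=
    iSup_le fun a => le_centralizer_iff.mp (iSup_le fun b => hcomm b a)
  have hV : Cfsg.IsElementaryAbelian 2 V := isElementaryAbelian_of hVV fun x hx => by
    refine mem_bot.mp (sq_mem_of_generators (A := fun g => cj g U) (N := ⊥)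
      (fun i => by rw [normalizer_eq_top]; exact le_top) ?_ ?_ hx)
    · intro i j a ha b hb
      rw [comm_of_le_centralizer (hcomm i j) ha hb, mul_inv_cancel_right, mul_inv_cancel]
      exact one_mem _
    · rintro i _ ⟨a, ha, rfl⟩
      show MulAut.conj i a * MulAut.conj i a ∈ ⊥
      rw [← map_mul, sq_eq_one hU ha, map_one]; exact one_mem _
  have hVQ : V ≤ Q := iSup_le fun g => (cj_mono hUQ).trans (cj_of_normal g Q).le
  have hnofV := nof_iSup hQT hnof hcomm
  rw [← hVdef] at hnofV
  set CV := centralizer (V : Set M) with hCV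
  haveI hCVn : CV.Normal := inferInstance
  have hCVN : CV ≤ normalizer (U : Set M) := (centralizer_le hUV).trans (centralizer_le_normalizer _)
  -- the case where `J(T)` centralizes `V`
  by_cases hJ : jay 2 (T : Subgroup M) ≤ CV
  · have hj := Thompson.jay_eq_of_le (le_inf Thompson.jay_le hJ) (inf_le_left : (T : Subgroup M) ⊓ CV ≤ T)
    refine normal_of_normalizer_top ?_
    rw [← Thompson.frattini_inf T CV]
    refine sup_le ((Thompson.normalizer_le_normalizer_jay 2 _).trans ?_) hCVN
    rw [hj]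
    exact hJN
  -- the action on `V / [V, Q]`
  set K := ⁅V, Q⁆ with hK
  haveI hKn : K.Normal := Subgroup.commutator_normal V Q
  haveI : (K.subgroupOf V).Normal := hKn.subgroupOf V
  have hVN : (⊤ : Subgroup M) ≤ normalizer (V : Set M) := by rw [normalizer_eq_top]
  have hKN : (⊤ : Subgroup M) ≤ normalizer (K : Set M) := by rw [normalizer_eq_top]
  set φ := (sectionHom (⊤ : Subgroup M) V K hVN hKN).comp topEquiv.symm.toMonoidHom with hφdef
  have hφ : ∀ g : M, φ g = 1 ↔ ∀ v ∈ V, g * v * g⁻¹ * v⁻¹ ∈ K := fun g =>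
    section_eq_one_iff (hLX := hVN) (hLN := hKN) (topEquiv.symm g)
  set D := (Cfsg.pCore 2 φ.range).comap φ.rangeRestrict with hD
  haveI hDn : D.Normal := (Cfsg.pCore_normal 2 φ.range).comap _
  by_cases hDTQ : D ⊓ (T : Subgroup M) ≤ Q
  · refine absurd (sSup_le fun A hA => ?_) hJ
    exact offender_centralizes hfree3 T hV hVQ hnofV φ hφ
      (fun g v h => (section_fix_iff (hLX := hVN) (hLN := hKN) (topEquiv.symm g) v).mpr h) hDTQ hA
  -- otherwise the image is a 2-group
  set T0 := (T : Subgroup M) ⊓ D with hT0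
  have hT0top : normalizer (T0 : Set M) ≠ ⊤ := fun h => hDTQ (by
    haveI : T0.Normal := normalizer_eq_top_iff.mp h
    rw [inf_comm]
    exact Cores.le_pCore (IsPGroup.to_le T.isPGroup' inf_le_left))
  have hTT0 : (T : Subgroup M) ≤ normalizer (T0 : Set M) := fun t ht =>
    mem_normalizer_of_conj_le fun x hx =>
      ⟨show _ ∈ (T : Subgroup M) from mul_mem (mul_mem ht hx.1) (inv_mem ht), hDn.conj_mem x hx.2 t⟩
  have hN0 := hIH _ hTT0 hT0top
  by_cases hDT : D ⊔ (T : Subgroup M) = ⊤
  swap
  · refine normal_of_normalizer_top ?_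
    rw [← Thompson.frattini_inf T D]
    exact sup_le hN0 (le_sup_left.trans (hIH _ le_sup_right hDT))
  have hrange : IsPGroup 2 φ.range := by
    haveI : (Cfsg.pCore 2 φ.range).Normal := Cfsg.pCore_normal 2 φ.range
    have h1 : (⊤ : Subgroup φ.range) ≤ Cfsg.pCore 2 φ.range ⊔ (T : Subgroup M).map φ.rangeRestrict := by
      rw [← map_top_of_surjective _ φ.rangeRestrict_surjective, ← hDT, Subgroup.map_sup]
      exact sup_le_sup_right (map_comap_le _ _) _
    have h2 : IsPGroup 2 ↥((T : Subgroup M).map φ.rangeRestrict ⊔ Cfsg.pCore 2 φ.range) :=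
      (T.isPGroup'.map _).to_sup_of_normal_right Cores.pCore_isPGroup
    rw [sup_comm] at h1
    exact IsPGroup.of_equiv (IsPGroup.to_le h2 h1) topEquiv
  have hgen : φ.ker ⊔ (T : Subgroup M) = ⊤ := by
    have hS := (T.mapSurjective φ.rangeRestrict_surjective)
    have h1 : ((T.mapSurjective φ.rangeRestrict_surjective : Sylow 2 φ.range) : Subgroup φ.range) = ⊤ :=
      ((T.mapSurjective φ.rangeRestrict_surjective).is_maximal' (hrange.to_subgroup ⊤) le_top).symm
    rw [Sylow.coe_mapSurjective] at h1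
    rw [← φ.ker_rangeRestrict, sup_comm, ← comap_map_eq, h1, comap_top]
  have hW : (⊤ : Subgroup M) ≤ normalizer ((U ⊔ K : Subgroup M) : Set M) := by
    rw [← hgen]
    refine sup_le (fun g hg => mem_normalizer_of_conj_le fun x hx => ?_)
      (fun t ht => mem_normalizer_of_conj_le fun x hx => ?_)
    · rw [show g * x * g⁻¹ = (g * x * g⁻¹ * x⁻¹) * x by group]
      exact mul_mem (mem_sup_right ((hφ g).mp hg x (sup_le hUV (commutator_le_left V Q) hx))) hx
    · have hle : cj t (U ⊔ K) ≤ U ⊔ K := by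
        rw [cj, Subgroup.map_sup]
        exact sup_le_sup (Coprime.map_conj_eq (hTN ht)).le (cj_of_normal t K).le
      exact hle ⟨x, hx, rfl⟩
  haveI : (U ⊔ K).Normal := normal_of_normalizer_top hW
  have hVUK : V ≤ U ⊔ K :=
    iSup_le fun g => (cj_mono (le_sup_left : U ≤ U ⊔ K)).trans (cj_of_normal g (U ⊔ K)).le
  obtain ⟨S, ⟨hSn, hSV, hS⟩, hmin⟩ := Set.exists_min_image
    {S : Subgroup M | S.Normal ∧ S ≤ V ∧ V ≤ U ⊔ S} (fun S => Nat.card S) (Set.toFinite _)
    ⟨V, hVn, le_rfl, le_sup_right⟩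
  rcases eq_or_ne S ⊥ with rfl | hSne
  · rw [sup_bot_eq] at hS
    exact (le_antisymm hUV hS) ▸ hVn
  haveI := hSn
  have hlt : ⁅S, Q⁆ < S := Coprime.commutator_lt_of_isPGroup
    (IsPGroup.to_le Cores.pCore_isPGroup (hSV.trans hVQ)) Cores.pCore_isPGroup
    (by rw [normalizer_eq_top]; exact le_top) hSne
  have hQN : Q ≤ normalizer ((U ⊔ ⁅S, Q⁆ : Subgroup M) : Set M) := fun q hq =>
    mem_normalizer_of_conj_le fun x hx => by
      have hle : cj q (U ⊔ ⁅S, Q⁆) ≤ U ⊔ ⁅S, Q⁆ := by
        rw [cj, Subgroup.map_sup]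
        exact sup_le_sup (Coprime.map_conj_eq (hTN (hQT hq))).le (cj_of_normal q _).le
      exact hle ⟨x, hx, rfl⟩
  have hK' : K ≤ U ⊔ ⁅S, Q⁆ := by
    rw [hK, commutator_le]
    intro v hv q hq
    rw [commutatorElement_def]
    have hle : U ⊔ S ≤ commStab (U ⊔ ⁅S, Q⁆) q := by
      refine sup_le (fun a ha => ⟨le_normalizer (mem_sup_left ha), mem_sup_left ?_⟩) (fun s hs => ⟨?_, ?_⟩)
      · rw [show a * q * a⁻¹ * q⁻¹ = a * (q * a⁻¹ * q⁻¹) by group]
        exact mul_mem ha ((mem_normalizer_iff.mp (hTN (hQT hq)) _).mp (inv_mem ha))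
      · exact hQN (hVQ (hSV hs))
      · exact mem_sup_right (commutator_mem_commutator hs hq)
    exact (hle (hS hv)).2
  exact absurd (hmin ⁅S, Q⁆ ⟨Subgroup.commutator_normal S Q, hlt.le.trans hSV,
    hVUK.trans (sup_le le_sup_left hK')⟩) (not_le.mpr (Set.Finite.card_lt_card (Set.toFinite _) hlt))

/-- Main normality theorem. -/
theorem normal_of_nof {M : Type u} [Group M] [Finite M] [Group.IsSolvable M]
    (hconstr : centralizer (Cfsg.pCore 2 M : Set M) ≤ Cfsg.pCore 2 M)
    (hfree : ¬ Cfsg.Involves (Equiv.Perm (Fin 4)) M) (T : Sylow 2 M) {U : Subgroup M}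
    (hUT : U ≤ (T : Subgroup M)) (hU : Cfsg.IsElementaryAbelian 2 U)
    (hTN : (T : Subgroup M) ≤ normalizer (U : Set M))
    (hJN : normalizer (jay 2 (T : Subgroup M) : Set M) ≤ normalizer (U : Set M))
    (hnof : Nof U (T : Subgroup M)) : U.Normal :=
  normal_of_nof_aux _ M rfl inferInstance hconstr hfree T U hUT hU hTN hJN hnof

end Cfsg.Agent.H47.FF
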