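import Cfsg.Agent.Components.Layer
import Cfsg.Agent.Coprime.Basic

/-!
Projections of the layer onto a component with trivial centre.
-/

set_option autoImplicit false
set_option linter.style.haveILetI false
set_option linter.unusedSectionVars false

namespace Cfsg.Agent.H47

open Subgroup

variable {G : Type*} [Group G]

open Classical in
/-- The `L`-coordinate of an element of `L C(L)`. -/
noncomputable def proj (L : Subgroup G) (x : G) : G :=
  if h : ∃ a ∈ L, a⁻¹ * x ∈ centralizer (L : Set G) then h.choose else 1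

variable {L : Subgroup G}

theorem proj_mem (L : Subgroup G) (x : G) : proj L x ∈ L := by
  unfold proj
  split_ifs with h
  · exact h.choose_spec.1
  · exact one_mem L

theorem proj_spec {x : G} (hx : x ∈ L ⊔ centralizer (L : Set G)) :
    (proj L x)⁻¹ * x ∈ centralizer (L : Set G) := by
  obtain ⟨a, ha, c, hc, rfl⟩ :=
    (Coprime.mem_sup_iff (centralizer_le_normalizer _)).mp hx
  have h : ∃ b ∈ L, b⁻¹ * (a * c) ∈ centralizer (L : Set G) := ⟨a, ha, by simpa using hc⟩
  rw [proj, dif_pos h]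
  exact h.choose_spec.2

theorem proj_unique (hd : L ⊓ centralizer (L : Set G) = ⊥) {x a : G} (ha : a ∈ L)
    (h : a⁻¹ * x ∈ centralizer (L : Set G)) : proj L x = a := by
  have hx : x ∈ L ⊔ centralizer (L : Set G) := by
    rw [show x = a * (a⁻¹ * x) by group]
    exact mul_mem (mem_sup_left ha) (mem_sup_right h)
  have h1 : (proj L x)⁻¹ * a ∈ L ⊓ centralizer (L : Set G) := by
    refine ⟨L.mul_mem (L.inv_mem (proj_mem L x)) ha, ?_⟩
    rw [show (proj L x)⁻¹ * a = ((proj L x)⁻¹ * x) * (a⁻¹ * x)⁻¹ by group]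
    exact (centralizer (L : Set G)).mul_mem (proj_spec hx) ((centralizer (L : Set G)).inv_mem h)
  rw [hd, mem_bot, inv_mul_eq_one] at h1
  exact h1

theorem proj_of_mem (hd : L ⊓ centralizer (L : Set G) = ⊥) {x : G} (hx : x ∈ L) : proj L x = x :=
  proj_unique hd hx (by simp)

theorem proj_of_centralizes (hd : L ⊓ centralizer (L : Set G) = ⊥) {x : G}
    (hx : x ∈ centralizer (L : Set G)) : proj L x = 1 :=
  proj_unique hd (one_mem L) (by simpa using hx)

theorem proj_mul (hd : L ⊓ centralizer (L : Set G) = ⊥) {x y : G}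
    (hx : x ∈ L ⊔ centralizer (L : Set G)) (hy : y ∈ L ⊔ centralizer (L : Set G)) :
    proj L (x * y) = proj L x * proj L y := by
  refine proj_unique hd (mul_mem (proj_mem L x) (proj_mem L y)) ?_
  have h1 : Commute (proj L y)⁻¹ ((proj L x)⁻¹ * x) :=
    mem_centralizer_iff.mp (proj_spec hx) _ (inv_mem (proj_mem L y))
  rw [show (proj L x * proj L y)⁻¹ * (x * y) =
    ((proj L y)⁻¹ * ((proj L x)⁻¹ * x)) * y by group, h1.eq, mul_assoc]
  exact (centralizer (L : Set G)).mul_mem (proj_spec hx) (proj_spec hy)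

theorem proj_inv (hd : L ⊓ centralizer (L : Set G) = ⊥) {x : G}
    (hx : x ∈ L ⊔ centralizer (L : Set G)) : proj L x⁻¹ = (proj L x)⁻¹ := by
  have h := proj_mul hd hx (inv_mem hx)
  rw [mul_inv_cancel, proj_of_centralizes hd (one_mem _)] at h
  exact eq_inv_of_mul_eq_one_right h.symm

theorem proj_conj (g : G) (hd : L.map (MulAut.conj g).toMonoidHom ⊓
      centralizer ((L.map (MulAut.conj g).toMonoidHom : Subgroup G) : Set G) = ⊥)
    {x : G} (hx : x ∈ L ⊔ centralizer (L : Set G)) :
    proj (L.map (MulAut.conj g).toMonoidHom) (g * x * g⁻¹) = g * proj L x * g⁻¹ := by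
  refine proj_unique hd ⟨proj L x, proj_mem L x, rfl⟩ ?_
  rw [show (g * proj L x * g⁻¹)⁻¹ * (g * x * g⁻¹) = g * ((proj L x)⁻¹ * x) * g⁻¹ by group]
  refine mem_centralizer_iff.mpr ?_
  rintro _ ⟨l, hl, rfl⟩
  show g * l * g⁻¹ * (g * ((proj L x)⁻¹ * x) * g⁻¹) = g * ((proj L x)⁻¹ * x) * g⁻¹ * (g * l * g⁻¹)
  calc g * l * g⁻¹ * (g * ((proj L x)⁻¹ * x) * g⁻¹) = g * (l * ((proj L x)⁻¹ * x)) * g⁻¹ := by group
    _ = g * (((proj L x)⁻¹ * x) * l) * g⁻¹ := by rw [mem_centralizer_iff.mp (proj_spec hx) l hl]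
    _ = g * ((proj L x)⁻¹ * x) * g⁻¹ * (g * l * g⁻¹) := by group

theorem layer_le_sup_centralizer {L : Subgroup G} (hL : Cfsg.IsComponent L) :
    Cfsg.layer G ≤ L ⊔ centralizer (L : Set G) :=
  Components.layer_le_iff.mpr fun K hK => by
    by_cases h : K = L
    · exact h ▸ le_sup_left
    · exact le_sup_of_le_right (commutator_eq_bot_iff_le_centralizer.mp
        (Components.components_commute hK hL h))

/-- A centre-free component meets its centralizer trivially. -/
theorem inf_centralizer_eq_bot {L : Subgroup G} (hZ : Subgroup.center L = ⊥) :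
    L ⊓ centralizer (L : Set G) = ⊥ := by
  rw [eq_bot_iff]
  intro x hx
  have : (⟨x, hx.1⟩ : L) ∈ Subgroup.center L := Subgroup.mem_center_iff.mpr fun y =>
    Subtype.ext (mem_centralizer_iff.mp hx.2 y y.2)
  rw [hZ, mem_bot] at this
  exact mem_bot.mpr (congrArg Subtype.val this)

/-- An element of a centre-free layer is determined by its coordinates. -/
theorem eq_one_of_proj [Finite G] (hF : Cfsg.fittingSubgroup G ⊓ Cfsg.layer G = ⊥) {x : G}
    (hx : x ∈ Cfsg.layer G) (h : ∀ L : Subgroup G, Cfsg.IsComponent L → proj L x = 1) : x = 1 := by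
  have h2 : Cfsg.layer G ≤ centralizer {x} := Components.layer_le_iff.mpr fun L hL l hl =>
    mem_centralizer_singleton_iff.mpr (by
      have h3 := proj_spec (layer_le_sup_centralizer hL hx)
      rw [h L hL, inv_one, one_mul] at h3
      exact mem_centralizer_iff.mp h3 l hl)
  have h4 : x ∈ (Subgroup.center (Cfsg.layer G)).map (Cfsg.layer G).subtype :=
    (Components.mem_center_map_iff _ x).mpr ⟨hx, fun y hy => mem_centralizer_singleton_iff.mp (h2 hy)⟩
  rw [Components.center_layer_eq_fitting_inf, hF] at h4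
  exact mem_bot.mp h4

end Cfsg.Agent.H47
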