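import Cfsg.Prelude.Def_MonsterType
import Cfsg.Agent.H47.LayerProj
import Cfsg.Agent.H92.LargeSimple
import Cfsg.Agent.Components.PLocal
import Cfsg.Agent.Fusion.PComplement
import Cfsg.Agent.Cores.FixingSylow
import Cfsg.Agent.FusionSys.Group

/-!
Structure of a group with a large extraspecial 2-subgroup.
-/

set_option autoImplicit false
set_option linter.style.haveILetI false
set_option linter.unusedSectionVars false

namespace Cfsg.Agent.H47.LargeXS

open Subgroup
open scoped commutatorElement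

/-- A simple group with an involution generating a self-centralizing subgroup is abelian. -/
theorem isMulCommutative_of_self_centralizing {L : Type*} [Group L] [Finite L] [IsSimpleGroup L]
    {a : L} (ha : orderOf a = 2) (hc : ∀ x : L, Commute x a → x = 1 ∨ x = a) : IsMulCommutative L := by
  haveI : Fact (Nat.Prime 2) := ⟨Nat.prime_two⟩
  have ha1 : a ≠ 1 := fun h => by simp [h] at ha
  have ha2 : IsPGroup 2 (zpowers a) := IsPGroup.of_card (n := 1) (by rw [Nat.card_zpowers, ha, pow_one])
  obtain ⟨S, hS⟩ := ha2.exists_le_sylow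
  have haS : a ∈ (S : Subgroup L) := hS (mem_zpowers a)
  haveI : Nontrivial (S : Subgroup L) := ⟨⟨⟨a, haS⟩, 1, fun h => ha1 (congrArg Subtype.val h)⟩⟩
  haveI : Nontrivial (Subgroup.center (S : Subgroup L)) := S.isPGroup'.center_nontrivial
  obtain ⟨⟨u, hu⟩, hu1⟩ := exists_ne (1 : Subgroup.center (S : Subgroup L))
  have hua : (u : L) = a := by
    rcases hc u (congrArg Subtype.val (Subgroup.mem_center_iff.mp hu ⟨a, haS⟩)).symm with h | h
    · exact absurd (Subtype.ext (Subtype.ext h)) hu1
    · exact h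
  have hSa : ∀ s ∈ (S : Subgroup L), s = 1 ∨ s = a := fun s hs => hc s (by
    rw [← hua]
    exact congrArg Subtype.val (Subgroup.mem_center_iff.mp hu ⟨s, hs⟩))
  have hN : normalizer ((S : Subgroup L) : Set L) ≤ centralizer ((S : Subgroup L) : Set L) := by
    intro g hg
    refine mem_centralizer_iff.mpr fun s hs => ?_
    rcases hSa s hs with rfl | rfl
    · simp
    rcases hSa _ ((mem_normalizer_iff.mp hg s).mp haS) with h | h
    · exact absurd (conj_eq_one_iff.mp h) ha1
    · exact (mul_inv_eq_iff_eq_mul.mp h).symm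
  obtain ⟨P, N, hNn, hNc⟩ := Fusion.hasNormalPComplement_of_normalizer_le_centralizer S hN
  rcases hNn.eq_bot_or_eq_top with h | h
  · -- the whole group is a 2-group
    have hP : (P : Subgroup L) = ⊤ := by
      have := hNc.sup_eq_top
      rwa [h, bot_sup_eq] at this
    have hL : IsPGroup 2 L := fun x => by
      obtain ⟨k, hk⟩ := P.isPGroup' ⟨x, hP ▸ mem_top x⟩
      exact ⟨k, congrArg Subtype.val hk⟩
    haveI : Nontrivial L := ⟨⟨a, 1, ha1⟩⟩
    haveI := hL.center_nontrivial
    refine ⟨⟨fun x y => Subgroup.mem_center_iff.mp ?_ x⟩⟩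
    rw [((Subgroup.center L).normal_of_characteristic.eq_bot_or_eq_top).resolve_left
      ((nontrivial_iff_ne_bot _).mp inferInstance)]
    exact mem_top y
  · exfalso
    have h1 := hNc.disjoint
    rw [h, top_disjoint] at h1
    obtain ⟨g, hg⟩ := MulAction.exists_smul_eq L S P
    have h2 : Nat.card (S : Subgroup L) = Nat.card (P : Subgroup L) := Nat.card_congr (S.equiv P).toEquiv
    rw [h1, card_bot] at h2
    exact ha1 (mem_bot.mp (Subgroup.eq_bot_of_card_eq _ h2 ▸ haS))

variable {G : Type*} [Group G] [Finite G] {Q : Subgroup G} {z : G}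

/-- The standing facts. -/
theorem basic (hQ : Cfsg.IsLargeExtraspecial Q)
    (hz : (Subgroup.center Q).map Q.subtype = zpowers z) :
    orderOf z = 2 ∧ z ∈ Q ∧ centralizer (Q : Set G) = zpowers z ∧
      centralizer ({z} : Set G) ≤ normalizer (Q : Set G) ∧ IsPGroup 2 Q ∧
      (∀ x ∈ zpowers z, x = 1 ∨ x = z) ∧
      (∀ a ∈ Q, ∀ b ∈ Q, ⁅a, b⁆ ∈ zpowers z) := by
  have hz2 : orderOf z = 2 := by rw [← Nat.card_zpowers, ← hz, H92.card_center_map hQ.1]
  refine ⟨hz2, map_subtype_le (Subgroup.center Q) (hz ▸ mem_zpowers z), hQ.2.1.trans hz,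
    le_trans ?_ hQ.2.2.1, hQ.1.1.1, fun x hx => ?_, fun a ha b hb => ?_⟩
  · rw [hz, zpowers_eq_closure, centralizer_closure]
  · by_cases h : x = 1
    · exact Or.inl h
    · exact Or.inr (H92.eq_of_mem_of_card_two (by rw [Nat.card_zpowers, hz2]) hx h (mem_zpowers z)
        fun e => by simp [e] at hz2)
  · rw [← hz, ← hQ.1.1.2.2]
    exact ⟨⁅(⟨a, ha⟩ : Q), ⟨b, hb⟩⁆, commutator_mem_commutator (mem_top _) (mem_top _),
      map_commutatorElement Q.subtype _ _⟩

/-- No component lies in the centralizer of `z`. -/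
theorem not_component_le_centralizer (hQ : Cfsg.IsLargeExtraspecial Q)
    (hz : (Subgroup.center Q).map Q.subtype = zpowers z) {L : Subgroup G} (hL : Cfsg.IsComponent L)
    (h : L ≤ centralizer ({z} : Set G)) : False := by
  haveI : Fact (Nat.Prime 2) := ⟨Nat.prime_two⟩
  obtain ⟨-, -, hC, hN, hQp, -, -⟩ := basic hQ hz
  haveI := hQp.isNilpotent
  have h1 := Components.component_commutator_solvable hL (A := Q) inferInstance (h.trans hN)
  rw [commutator_eq_bot_iff_le_centralizer, hC] at h1
  exact Components.qsSub_not_le_of_isSolvable hL.2 inferInstance h1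

theorem oddCore_eq_bot (hQ : Cfsg.IsLargeExtraspecial Q) : Cfsg.pPrimeCore 2 G = ⊥ := by
  haveI : Fact (Nat.Prime 2) := ⟨Nat.prime_two⟩
  exact hQ.2.2.2 _ (Nat.coprime_two_right.mp (Cores.coprime_card_pPrimeCore (p := 2) (G := G)))
    (Components.le_normalizer_of_normal _)

/-- The layer is a minimal normal subgroup: it is generated by the conjugates of `z`. -/
theorem layer_le_normalClosure (hQ : Cfsg.IsLargeExtraspecial Q)
    (hz : (Subgroup.center Q).map Q.subtype = zpowers z) :
    Cfsg.layer G ≤ normalClosure ({z} : Set G) :=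
  Components.layer_le_iff.mpr fun L hL => by
    refine (Components.component_le_or_commutator_eq_bot_normal hL
      (normalClosure ({z} : Set G))).resolve_right fun h => ?_
    refine not_component_le_centralizer hQ hz hL
      ((commutator_eq_bot_iff_le_centralizer.mp h).trans ?_)
    exact centralizer_le (Set.singleton_subset_iff.mpr (subset_normalClosure (Set.mem_singleton z)))

theorem main (hQ : Cfsg.IsLargeExtraspecial Q)
    (hz : (Subgroup.center Q).map Q.subtype = zpowers z) {M : Subgroup G}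
    (hM : M = normalClosure ({z} : Set G)) :
    Q.Normal ∨ (IsMulCommutative ↥M ∧ Cfsg.generalizedFittingSubgroup G = Cfsg.pCore 2 G) ∨
      (M = Cfsg.generalizedFittingSubgroup G ∧ IsSimpleGroup ↥M ∧ ¬ IsMulCommutative ↥M) ∨
      (M = Cfsg.generalizedFittingSubgroup G ∧ ∃ (L : Subgroup G) (u : G), u ∈ Q ∧
        IsSimpleGroup ↥L ∧ ¬ IsMulCommutative ↥L ∧ L ⊓ (L).map (MulAut.conj u).toMonoidHom = ⊥ ∧
        (∀ x ∈ L, ∀ y ∈ (L).map (MulAut.conj u).toMonoidHom, x * y = y * x) ∧
        L ⊔ (L).map (MulAut.conj u).toMonoidHom = M ∧ ∃ z₁ ∈ L, z = z₁ * (u * z₁ * u⁻¹) ∧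
        (∃ R : Sylow 2 ↥L, (R : Subgroup ↥L) = (centralizer ({z₁} : Set G)).subgroupOf L ∧
          (frattini ↥(R : Subgroup ↥L)).map ((L.subtype).comp (R : Subgroup ↥L).subtype) ≤
            zpowers z₁) ∧
        Q ≠ (Cfsg.pCore 2 ↥(centralizer ({z} : Set G))).map
          (centralizer ({z} : Set G)).subtype) := by
  haveI : Fact (Nat.Prime 2) := ⟨Nat.prime_two⟩
  obtain ⟨hz2, hzQ, hC, hN, hQp, hZ, hcom⟩ := basic hQ hz
  have hz1 : z ≠ 1 := fun h => by simp [h] at hz2
  have hzZ : z ∈ (Subgroup.center Q).map Q.subtype := hz ▸ mem_zpowers z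
  have hO := oddCore_eq_bot hQ
  set E := Cfsg.layer G with hE
  haveI hEn := Components.layer_normal (G := G)
  by_cases hEb : E = ⊥
  · have hF : Cfsg.generalizedFittingSubgroup G = Cfsg.pCore 2 G := by
      rw [Cfsg.generalizedFittingSubgroup, ← hE, hEb, bot_sup_eq]
      exact le_antisymm (Components.fitting_le_pCore hO) (Components.pCore_le_fitting 2)
    refine Or.inr (Or.inl ⟨?_, hF⟩)
    haveI : Nontrivial (Cfsg.pCore 2 G) := by
      rw [nontrivial_iff_ne_bot]
      intro hb
      have h1 := Components.centralizer_genFitting_le (G := G)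
      rw [hF, hb, coe_bot, centralizer_eq_top_iff_subset.mpr (by simp), top_le_iff] at h1
      exact hz1 (mem_bot.mp (h1 ▸ mem_top z))
    haveI : Nontrivial (Subgroup.center (Cfsg.pCore 2 G)) :=
      (Cores.pCore_isPGroup (p := 2) (G := G)).center_nontrivial
    set V := (Subgroup.center (Cfsg.pCore 2 G)).map (Cfsg.pCore 2 G).subtype
    haveI : V.Normal := inferInstance
    have hV : V ≠ ⊥ := by
      rw [Ne, map_eq_bot_iff_of_injective _ (Cfsg.pCore 2 G).subtype_injective]
      exact (nontrivial_iff_ne_bot _).mp inferInstance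
    have hMV : M ≤ V := hM ▸ normalClosure_le_normal
      (Set.singleton_subset_iff.mpr (H92.center_mem_normal hQ hzZ hz1 hV))
    refine ⟨⟨fun x y => Subtype.ext ?_⟩⟩
    obtain ⟨a, ha, hxa⟩ := hMV x.2
    obtain ⟨b, hb, hyb⟩ := hMV y.2
    show (x : G) * y = y * x
    rw [← hxa, ← hyb]
    exact congrArg Subtype.val (Subgroup.mem_center_iff.mp hb a)
  -- now the layer is nontrivial
  have hzE : z ∈ E := H92.center_mem_normal hQ hzZ hz1 hEb
  have hcore : Cfsg.pCore 2 G = ⊥ := by
    by_contra hne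
    have hzO : z ∈ Cfsg.pCore 2 G := H92.center_mem_normal hQ hzZ hz1 hne
    obtain ⟨L, hL⟩ : ∃ L : Subgroup G, Cfsg.IsComponent L := by
      by_contra h
      exact hEb (Components.layer_eq_bot_iff.mpr fun L hL => h ⟨L, hL⟩)
    haveI := (Cores.pCore_isPGroup (p := 2) (G := G)).isNilpotent
    have h1 := commutator_eq_bot_iff_le_centralizer.mp (Components.component_commutator_solvable hL
      (A := Cfsg.pCore 2 G) inferInstance (Components.le_normalizer_of_normal _))
    exact not_component_le_centralizer hQ hz hL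
      (h1.trans (centralizer_le (Set.singleton_subset_iff.mpr hzO)))
  have hfit : Cfsg.fittingSubgroup G = ⊥ := le_bot_iff.mp (hcore ▸ Components.fitting_le_pCore hO)
  have hFE : Cfsg.generalizedFittingSubgroup G = E := by
    rw [Cfsg.generalizedFittingSubgroup, hfit, sup_bot_eq]
  have hFI : Cfsg.fittingSubgroup G ⊓ E = ⊥ := by rw [hfit, bot_inf_eq]
  have hME : M = E := le_antisymm (hM ▸ normalClosure_le_normal (Set.singleton_subset_iff.mpr hzE))
    (hM ▸ layer_le_normalClosure hQ hz)
  have hsimp : ∀ L : Subgroup G, Cfsg.IsComponent L →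
      Subgroup.center L = ⊥ ∧ IsSimpleGroup L ∧ ¬ IsMulCommutative L := by
    intro L hL
    have hcb : Subgroup.center L = ⊥ := by
      rw [← map_eq_bot_iff_of_injective _ L.subtype_injective, eq_bot_iff]
      refine le_trans ?_ (le_of_eq (hFI ▸ Components.center_layer_eq_fitting_inf (G := G)))
      rw [Components.center_layer]
      exact le_iSup (fun K : {K : Subgroup G // Cfsg.IsComponent K} =>
        (Subgroup.center (K : Subgroup G)).map (K : Subgroup G).subtype) ⟨L, hL⟩
    haveI := hL.2.2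
    haveI := Components.qs_nontrivial hL.2
    have e : (L ⧸ Subgroup.center L) ≃* L :=
      (QuotientGroup.quotientMulEquivOfEq hcb).trans QuotientGroup.quotientBot
    refine ⟨hcb, e.isSimpleGroup_congr.mp inferInstance, fun hab => Components.qs_center_ne_top hL.2
      (top_le_iff.mp fun x _ => Subgroup.mem_center_iff.mpr fun y => ?_)⟩
    exact hab.is_comm.comm y x
  obtain ⟨L, hL⟩ : ∃ L : Subgroup G, Cfsg.IsComponent L := by
    by_contra h
    exact hEb (Components.layer_eq_bot_iff.mpr fun L hL => h ⟨L, hL⟩)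
  by_cases huniq : ∀ K : Subgroup G, Cfsg.IsComponent K → K = L
  · have hEL : E = L := le_antisymm (Components.layer_le_iff.mpr fun K hK => (huniq K hK).le)
      (Components.component_le_layer hL)
    refine Or.inr (Or.inr (Or.inl ⟨hME.trans hFE.symm, ?_⟩))
    rw [hME, hEL]
    exact (hsimp L hL).2
  refine Or.inr (Or.inr (Or.inr ⟨hME.trans hFE.symm, ?_⟩))
  -- coordinates
  have hd : ∀ K : Subgroup G, Cfsg.IsComponent K → K ⊓ centralizer (K : Set G) = ⊥ :=
    fun K hK => inf_centralizer_eq_bot (hsimp K hK).1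
  have hle : ∀ K : Subgroup G, Cfsg.IsComponent K → E ≤ K ⊔ centralizer (K : Set G) :=
    fun K hK => layer_le_sup_centralizer hK
  have hzc : ∀ q : G, q ∈ Q → q * z * q⁻¹ = z := fun q hq => by
    rw [(mem_centralizer_iff.mp ((hC ▸ mem_zpowers z : z ∈ centralizer (Q : Set G))) q hq),
      mul_inv_cancel_right]
  have hconj : ∀ K : Subgroup G, Cfsg.IsComponent K → ∀ g : G, ∀ x ∈ E,
      proj (K.map (MulAut.conj g).toMonoidHom) (g * x * g⁻¹) = g * proj K x * g⁻¹ :=
    fun K hK g x hx => proj_conj g (hd _ (Components.component_conj hK g)) (hle K hK hx)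
  have hother : ∀ K L : Subgroup G, Cfsg.IsComponent K → Cfsg.IsComponent L → K ≠ L →
      ∀ x ∈ L, proj K x = 1 := fun K L hK hL hne x hx =>
    proj_of_centralizes (hd K hK) (commutator_eq_bot_iff_le_centralizer.mp
      (Components.components_commute hL hK hne.symm) hx)
  have hzne : ∀ K : Subgroup G, Cfsg.IsComponent K → proj K z ≠ 1 := fun K hK h => by
    have h1 := proj_spec (hle K hK hzE)
    rw [h, inv_one, one_mul] at h1
    exact not_component_le_centralizer hQ hz hK fun k hk =>
      mem_centralizer_singleton_iff.mpr (mem_centralizer_iff.mp h1 k hk)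
  have hz1mem : ∀ K : Subgroup G, Cfsg.IsComponent K →
      (K ⊓ centralizer ({proj K z} : Set G)) ≤ normalizer (Q : Set G) := by
    intro K hK c hc
    refine hN (mem_centralizer_singleton_iff.mpr ?_)
    have h1 : Commute c ((proj K z)⁻¹ * z) :=
      mem_centralizer_iff.mp (proj_spec (hle K hK hzE)) c hc.1
    have h2 : Commute c (proj K z) := mem_centralizer_singleton_iff.mp hc.2
    have := (h2.mul_right h1).eq
    rwa [mul_inv_cancel_left] at this
  -- some element of `Q` moves `L`
  obtain ⟨K₀, hK₀, hne₀⟩ : ∃ K : Subgroup G, Cfsg.IsComponent K ∧ K ≠ L := by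
    by_contra h
    exact huniq fun K hK => by
      by_contra hne
      exact h ⟨K, hK, hne⟩
  set z₁ := proj L z with hz₁
  have hz₁L : z₁ ∈ L := proj_mem L z
  have hz₁C : z₁ ∈ L ⊓ centralizer ({z₁} : Set G) := ⟨hz₁L, mem_centralizer_singleton_iff.mpr rfl⟩
  have hz₁N : z₁ ∈ normalizer (Q : Set G) := hz1mem L hL hz₁C
  obtain ⟨u, hu, huL⟩ : ∃ u ∈ Q, L.map (MulAut.conj u).toMonoidHom ≠ L := by
    by_contra h
    push Not at h
    have h1 : z₁ ∈ centralizer (Q : Set G) := mem_centralizer_iff.mpr fun q hq => by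
      have h2 := hconj L hL q z hzE
      rw [h q hq, hzc q hq] at h2
      exact mul_inv_eq_iff_eq_mul.mp h2.symm
    rw [hC] at h1
    rcases hZ z₁ h1 with h2 | h2
    · exact hzne L hL h2
    · exact hzne K₀ hK₀ (hother K₀ L hK₀ hL hne₀ z (h2 ▸ hz₁L))
  set L' := L.map (MulAut.conj u).toMonoidHom with hL'
  have hL'c : Cfsg.IsComponent L' := Components.component_conj hL u
  set z₂ := u * z₁ * u⁻¹ with hz₂
  have hz₂p : proj L' z = z₂ := by
    have h := hconj L hL u z hzE
    rwa [hzc u hu] at h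
  have hz₂L : z₂ ∈ L' := ⟨z₁, hz₁L, rfl⟩
  have hswap : ∀ q ∈ Q, ∀ c ∈ L ⊓ centralizer ({z₁} : Set G), c⁻¹ * (q * c * q⁻¹) ∈ Q := by
    intro q hq c hc
    have h1 : c⁻¹ * q * c ∈ Q := ((mem_normalizer_iff''.mp (hz1mem L hL hc)) q).mp hq
    have := Q.mul_mem h1 (Q.inv_mem hq)
    simpa [mul_assoc] using this
  have hzsq : z * z = 1 := by rw [← pow_two, ← hz2, pow_orderOf_eq_one]
  have hz₁sq : z₁ * z₁ = 1 := by
    rw [hz₁, ← proj_mul (hd L hL) (hle L hL hzE) (hle L hL hzE), hzsq,
      proj_of_centralizes (hd L hL) (one_mem _)]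
  -- only two components
  have htwo : ∀ K : Subgroup G, Cfsg.IsComponent K → K = L ∨ K = L' := by
    by_contra hcon
    push Not at hcon
    obtain ⟨K, hK, hKL, hKL'⟩ := hcon
    -- a component of the orbit of `L` different from `L`, `L'`
    by_cases horb : ∃ r ∈ Q, L.map (MulAut.conj r).toMonoidHom ≠ L ∧
        L.map (MulAut.conj r).toMonoidHom ≠ L'
    · obtain ⟨r, hr, hrL, hrL'⟩ := horb
      have hr' : Cfsg.IsComponent (L.map (MulAut.conj r).toMonoidHom) := Components.component_conj hL r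
      have hc : ∀ c : L, Commute c ⟨z₁, hz₁L⟩ → c = 1 ∨ c = ⟨z₁, hz₁L⟩ := by
        intro c hc
        have hcC : (c : G) ∈ L ⊓ centralizer ({z₁} : Set G) :=
          ⟨c.2, mem_centralizer_singleton_iff.mpr (congrArg Subtype.val hc.eq)⟩
        set d := (c : G)⁻¹ * (r * c * r⁻¹) with hdd
        have hdQ : d ∈ Q := hswap r hr c hcC
        have hcE : (c : G) ∈ E := Components.component_le_layer hL c.2
        have hrE : r * c * r⁻¹ ∈ E := hEn.conj_mem _ hcE r
        have hdE : d ∈ E := E.mul_mem (E.inv_mem hcE) hrE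
        have hw : ⁅u⁻¹, d⁆ ∈ zpowers z := hcom _ (Q.inv_mem hu) _ hdQ
        have hcr : proj L (r * c * r⁻¹) = 1 := hother L _ hL hr' hrL.symm _ (show r * c * r⁻¹ ∈ _ from ⟨c, c.2, rfl⟩)
        have hdL : proj L d = (c : G)⁻¹ := by
          rw [hdd, proj_mul (hd L hL) (hle L hL (E.inv_mem hcE)) (hle L hL hrE), hcr, mul_one,
            proj_inv (hd L hL) (hle L hL hcE), proj_of_mem (hd L hL) c.2]
        have hdL' : proj L' d = 1 := by
          rw [hdd, proj_mul (hd L' hL'c) (hle L' hL'c (E.inv_mem hcE)) (hle L' hL'c hrE),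
            proj_inv (hd L' hL'c) (hle L' hL'c hcE), hother L' L hL'c hL huL _ c.2,
            hother L' _ hL'c hr' hrL'.symm _ (show r * c * r⁻¹ ∈ _ from ⟨c, c.2, rfl⟩), inv_one, one_mul]
        have hud : u⁻¹ * d * u ∈ E := by simpa using hEn.conj_mem _ hdE u⁻¹
        have hLud : proj L (u⁻¹ * d * u) = 1 := by
          have h := hconj L hL u (u⁻¹ * d * u) hud
          rw [show u * (u⁻¹ * d * u) * u⁻¹ = d by group, hdL'] at h
          exact conj_eq_one_iff.mp h.symm
        have hw1 : proj L ⁅u⁻¹, d⁆ = c := by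
          rw [commutatorElement_def, inv_inv, proj_mul (hd L hL) (hle L hL hud) (hle L hL (E.inv_mem hdE)),
            hLud, one_mul, proj_inv (hd L hL) (hle L hL hdE), hdL, inv_inv]
        rcases hZ _ hw with h | h
        · refine Or.inl (Subtype.ext ?_)
          rw [← hw1, h, proj_of_centralizes (hd L hL) (one_mem _)]
          rfl
        · exact Or.inr (Subtype.ext (by rw [← hw1, h]))
      haveI := (hsimp L hL).2.1
      refine (hsimp L hL).2.2 (isMulCommutative_of_self_centralizing ?_ hc)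
      refine orderOf_eq_prime (Subtype.ext (by rw [pow_two]; exact hz₁sq)) fun h => hzne L hL ?_
      exact congrArg Subtype.val h
    · push Not at horb
      have horb' : ∀ r ∈ Q, K ≠ L.map (MulAut.conj r).toMonoidHom := fun r hr h => by
        by_cases h1 : L.map (MulAut.conj r).toMonoidHom = L
        · exact hKL (h.trans h1)
        · exact hKL' (h.trans (horb r hr h1))
      set y := z₁⁻¹ * z₂ with hy
      have hyQ : y ∈ Q := hswap u hu z₁ hz₁C
      have hyE : y ∈ E := E.mul_mem (E.inv_mem (Components.component_le_layer hL hz₁L))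
        (Components.component_le_layer hL'c hz₂L)
      have hyK : ∀ r ∈ Q, proj K (r * y * r⁻¹) = 1 := by
        intro r hr
        have e : r * y * r⁻¹ = (r * z₁ * r⁻¹)⁻¹ * (r * u * z₁ * (r * u)⁻¹) := by rw [hy, hz₂]; group
        have m1 : r * z₁ * r⁻¹ ∈ L.map (MulAut.conj r).toMonoidHom := ⟨z₁, hz₁L, rfl⟩
        have m2 : r * u * z₁ * (r * u)⁻¹ ∈ L.map (MulAut.conj (r * u)).toMonoidHom := ⟨z₁, hz₁L, rfl⟩
        have e1 := Components.component_le_layer (Components.component_conj hL r) m1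
        have e2 := Components.component_le_layer (Components.component_conj hL (r * u)) m2
        rw [e, proj_mul (hd K hK) (hle K hK (E.inv_mem e1)) (hle K hK e2), proj_inv (hd K hK) (hle K hK e1),
          hother K _ hK (Components.component_conj hL r) (horb' r hr) _ m1,
          hother K _ hK (Components.component_conj hL (r * u)) (horb' _ (Q.mul_mem hr hu)) _ m2,
          inv_one, one_mul]
      have hyC : y ∈ centralizer (Q : Set G) := by
        refine mem_centralizer_iff.mpr fun r hr => ?_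
        have hw := hcom r hr y hyQ
        rcases hZ _ hw with h | h
        · exact commutatorElement_eq_one_iff_mul_comm.mp h
        exfalso
        apply hzne K hK
        have h1 := hyK 1 Q.one_mem
        rw [one_mul, inv_one, mul_one] at h1
        rw [← h, commutatorElement_def, proj_mul (hd K hK) (hle K hK (hEn.conj_mem _ hyE r))
          (hle K hK (E.inv_mem hyE)), hyK r hr, proj_inv (hd K hK) (hle K hK hyE), h1, inv_one, one_mul]
      rw [hC] at hyC
      rcases hZ y hyC with h | h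
      · rw [hy, inv_mul_eq_one] at h
        exact hzne L hL (by rw [← hz₁, ← proj_of_mem (hd L hL) hz₁L, h, hother L L' hL hL'c huL.symm _ hz₂L])
      · refine hzne K hK ?_
        have h1 := hyK 1 Q.one_mem
        rwa [one_mul, inv_one, mul_one, h] at h1
  have hcomm : ∀ x ∈ L, ∀ y ∈ L', x * y = y * x := fun x hx y hy =>
    Components.commute_of_commutator_eq_bot (Components.components_commute hL hL'c huL.symm) hx hy
  have hinf : L ⊓ L' = ⊥ := by
    rw [eq_bot_iff]
    intro x hx
    rw [← hd L hL]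
    exact ⟨hx.1, mem_centralizer_iff.mpr fun y hy => hcomm y hy x hx.2⟩
  have hsup : L ⊔ L' = M := by
    rw [hME]
    refine le_antisymm (sup_le (Components.component_le_layer hL) (Components.component_le_layer hL'c))
      (Components.layer_le_iff.mpr fun K hK => ?_)
    rcases htwo K hK with h | h
    · exact h ▸ le_sup_left
    · exact h ▸ le_sup_right
  have hz₁E := Components.component_le_layer hL hz₁L
  have hz₂E := Components.component_le_layer hL'c hz₂L
  have hzprod : z = z₁ * z₂ := by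
    refine (mul_inv_eq_one.mp (eq_one_of_proj hFI (E.mul_mem hzE (E.inv_mem (E.mul_mem hz₁E hz₂E))) ?_))
    intro K hK
    rw [proj_mul (hd K hK) (hle K hK hzE) (hle K hK (E.inv_mem (E.mul_mem hz₁E hz₂E))),
      proj_inv (hd K hK) (hle K hK (E.mul_mem hz₁E hz₂E)), proj_mul (hd K hK) (hle K hK hz₁E) (hle K hK hz₂E)]
    rcases htwo K hK with rfl | rfl
    · rw [proj_of_mem (hd K hK) hz₁L, hother K L' hK hL'c huL.symm _ hz₂L, mul_one, ← hz₁, mul_inv_cancel]
    · rw [hother L' L hK hL huL _ hz₁L, proj_of_mem (hd L' hK) hz₂L, one_mul, hz₂p, mul_inv_cancel]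
  -- the centralizer of `z₁` in `L`
  set C := (centralizer ({z₁} : Set G)).subgroupOf L with hCdef
  have hdmem : ∀ c : G, c ∈ L ⊓ centralizer ({z₁} : Set G) → ∀ k : ℕ,
      (c⁻¹ * (u * c * u⁻¹)) ^ k = (c ^ k)⁻¹ * (u * c ^ k * u⁻¹) := fun c hc k => by
    rw [(show Commute c⁻¹ (u * c * u⁻¹) from hcomm _ (inv_mem hc.1) _ ⟨c, hc.1, rfl⟩).mul_pow,
      inv_pow, conj_pow]
  have hprojd : ∀ c : G, c ∈ L → proj L (c⁻¹ * (u * c * u⁻¹)) = c⁻¹ := fun c hc => by
    have hcE := Components.component_le_layer hL hc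
    have hcE' := Components.component_le_layer hL'c (⟨c, hc, rfl⟩ : u * c * u⁻¹ ∈ L')
    rw [proj_mul (hd L hL) (hle L hL (E.inv_mem hcE)) (hle L hL hcE'),
      hother L L' hL hL'c huL.symm _ (show u * c * u⁻¹ ∈ L' from ⟨c, hc, rfl⟩), proj_inv (hd L hL) (hle L hL hcE),
      proj_of_mem (hd L hL) hc, mul_one]
  have hCp : IsPGroup 2 C := by
    intro c
    have hc : ((c : L) : G) ∈ L ⊓ centralizer ({z₁} : Set G) := ⟨c.1.2, c.2⟩
    obtain ⟨k, hk⟩ := hQp ⟨_, hswap u hu _ hc⟩
    refine ⟨k, Subtype.ext (Subtype.ext ?_)⟩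
    have h1 : ((((c : L) : G) ^ 2 ^ k)⁻¹ * (u * ((c : L) : G) ^ 2 ^ k * u⁻¹)) = 1 := by
      rw [← hdmem _ hc]
      exact congrArg Subtype.val hk
    have h2 := hprojd _ (pow_mem hc.1 (2 ^ k))
    rw [h1, proj_of_centralizes (hd L hL) (one_mem _)] at h2
    simpa using inv_eq_one.mp h2.symm
  have hCsq : ∀ c : C, ((c : L) : G) ^ 2 ∈ zpowers z₁ := by
    intro c
    have hc : ((c : L) : G) ∈ L ⊓ centralizer ({z₁} : Set G) := ⟨c.1.2, c.2⟩
    have h1 : (((c : L) : G) ^ 2)⁻¹ * (u * ((c : L) : G) ^ 2 * u⁻¹) ∈ zpowers z := by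
      rw [← hdmem _ hc, ← hz, ← hQ.1.1.2.1]
      exact ⟨⟨_, hswap u hu _ hc⟩ ^ 2, PGroups.pow_mem_frattini hQp _, rfl⟩
    have h2 := hprojd _ (pow_mem hc.1 2)
    rcases hZ _ h1 with h | h
    · rw [h, proj_of_centralizes (hd L hL) (one_mem _)] at h2
      rw [inv_eq_one.mp h2.symm]
      exact one_mem _
    · rw [h, ← hz₁] at h2
      rw [← inv_inv (((c : L) : G) ^ 2), ← h2]
      exact inv_mem (mem_zpowers z₁)
  have hCidx : ¬ 2 ∣ C.index := by
    obtain ⟨T, hT⟩ := hQp.exists_le_sylow
    have hzT : (T : Subgroup G) ≤ centralizer ({z} : Set G) := by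
      haveI : Nontrivial (T : Subgroup G) :=
        ⟨⟨⟨z, hT hzQ⟩, 1, fun h => hz1 (congrArg Subtype.val h)⟩⟩
      haveI : Nontrivial (Subgroup.center (T : Subgroup G)) := T.isPGroup'.center_nontrivial
      obtain ⟨⟨w, hw⟩, hw1⟩ := exists_ne (1 : Subgroup.center (T : Subgroup G))
      have hwC : (w : G) ∈ centralizer (Q : Set G) := mem_centralizer_iff.mpr fun q hq =>
        congrArg Subtype.val (Subgroup.mem_center_iff.mp hw ⟨q, hT hq⟩)
      rw [hC] at hwC
      rcases hZ _ hwC with h | h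
      · exact absurd (Subtype.ext (Subtype.ext h)) hw1
      intro t ht
      rw [← h]
      exact mem_centralizer_singleton_iff.mpr
        (congrArg Subtype.val (Subgroup.mem_center_iff.mp hw ⟨t, ht⟩))
    have h1 : ¬ 2 ∣ (T : Subgroup G).relIndex E :=
      FusionSys.not_dvd_relIndex_of_normal _ _ T.not_dvd_index
    have h2 : ¬ 2 ∣ (T : Subgroup G).relIndex L :=
      Cores.not_dvd_relIndex_of_normal T.isPGroup' h1 (Components.component_le_layer hL)
        (Components.layer_le_normalizer_component hL)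
    have hle' : (T : Subgroup G).subgroupOf L ≤ C := fun x hx => by
      refine mem_centralizer_singleton_iff.mpr ?_
      have h3 : Commute (x : G) z := mem_centralizer_singleton_iff.mp (hzT hx)
      have hxE := Components.component_le_layer hL x.2
      have h4 := congrArg (proj L) h3.eq
      rwa [proj_mul (hd L hL) (hle L hL hxE) (hle L hL hzE),
        proj_mul (hd L hL) (hle L hL hzE) (hle L hL hxE), proj_of_mem (hd L hL) x.2] at h4
    exact fun hd' => h2 (hd'.trans (index_dvd_of_le hle'))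
  let R : Sylow 2 L := hCp.toSylow hCidx
  refine ⟨L, u, hu, (hsimp L hL).2.1, (hsimp L hL).2.2, hinf, hcomm, hsup, z₁, hz₁L, hzprod,
    ⟨R, rfl, ?_⟩, fun hQeq => ?_⟩
  · show (frattini ↥C).map (L.subtype.comp C.subtype) ≤ zpowers z₁
    set N := (zpowers z₁).comap (L.subtype.comp C.subtype) with hN'
    have hsq : ∀ x : C, x ^ 2 ∈ N := fun x => by
      show (L.subtype.comp C.subtype) (x ^ 2) ∈ zpowers z₁
      rw [map_pow]
      exact hCsq x
    have hNc : ∀ x y : C, y * x * y⁻¹ * x⁻¹ ∈ N := by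
      intro x y
      rw [show y * x * y⁻¹ * x⁻¹ = y ^ 2 * (y⁻¹ * x) ^ 2 * (x⁻¹) ^ 2 by rw [pow_two, pow_two, pow_two]; group]
      exact mul_mem (mul_mem (hsq _) (hsq _)) (hsq _)
    haveI : N.Normal := ⟨fun n hn g => by
      have h := mul_mem (hNc n g) hn
      rwa [inv_mul_cancel_right] at h⟩
    rw [map_le_iff_le_comap]
    refine PGroups.frattini_le_of_commutator_le (p := 2) N ?_ hsq
    rw [commutator_eq_closure, closure_le]
    rintro _ ⟨a, b, rfl⟩
    exact hNc b a
  · -- `O₂(C(z))` contains the centralizer of `z` in the layer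
    set H := centralizer ({z} : Set G) with hH
    have hEC : ∀ x ∈ E, x ∈ H → ∀ K : Subgroup G, Cfsg.IsComponent K → Commute (proj K x) (proj K z) := by
      intro x hx hxz K hK
      have h3 := congrArg (proj K) (mem_centralizer_singleton_iff.mp hxz : x * z = z * x)
      rwa [proj_mul (hd K hK) (hle K hK hx) (hle K hK hzE),
        proj_mul (hd K hK) (hle K hK hzE) (hle K hK hx)] at h3
    have hp2 : IsPGroup 2 (E.subgroupOf H) := by
      intro x
      have hxE : ((x : H) : G) ∈ E := x.2
      obtain ⟨a, ha, b, hb, hab⟩ : ∃ a ∈ L, ∃ b ∈ L', a * b = ((x : H) : G) := by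
        have hn : L' ≤ normalizer (L : Set G) := fun y hy => centralizer_le_normalizer _
          (mem_centralizer_iff.mpr fun w hw => hcomm w hw y hy)
        exact (Coprime.mem_sup_iff hn).mp (hsup.symm ▸ hME.symm ▸ hxE)
      obtain ⟨b₀, hb₀, rfl⟩ := hb
      have haE := Components.component_le_layer hL ha
      have hbm : u * b₀ * u⁻¹ ∈ L' := ⟨b₀, hb₀, rfl⟩
      have hbE := Components.component_le_layer hL'c hbm
      have hpa : proj L ((x : H) : G) = a := by
        rw [← hab]
        show proj L (a * (u * b₀ * u⁻¹)) = a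
        rw [proj_mul (hd L hL) (hle L hL haE) (hle L hL hbE), proj_of_mem (hd L hL) ha,
          hother L L' hL hL'c huL.symm _ hbm, mul_one]
      have hpb : proj L' ((x : H) : G) = u * b₀ * u⁻¹ := by
        rw [← hab]
        show proj L' (a * (u * b₀ * u⁻¹)) = u * b₀ * u⁻¹
        rw [proj_mul (hd L' hL'c) (hle L' hL'c haE) (hle L' hL'c hbE), proj_of_mem (hd L' hL'c) hbm,
          hother L' L hL'c hL huL _ ha, one_mul]
      have hac : (⟨a, ha⟩ : L) ∈ C := mem_centralizer_singleton_iff.mpr (by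
        have h := hEC _ hxE (x : H).2 L hL
        rw [hpa] at h
        exact h.eq)
      have hbc : (⟨b₀, hb₀⟩ : L) ∈ C := mem_centralizer_singleton_iff.mpr (by
        have h := hEC _ hxE (x : H).2 L' hL'c
        rw [hpb, hz₂p] at h
        have h' := congrArg (fun t => u⁻¹ * t * u) h.eq
        simpa [hz₂, mul_assoc] using h')
      obtain ⟨i, hi⟩ := hCp ⟨_, hac⟩
      obtain ⟨j, hj⟩ := hCp ⟨_, hbc⟩
      have hi' : a ^ 2 ^ i = 1 := congrArg (fun t : C => ((t : L) : G)) hi
      have hj' : b₀ ^ 2 ^ j = 1 := congrArg (fun t : C => ((t : L) : G)) hj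
      refine ⟨i + j, Subtype.ext (Subtype.ext ?_)⟩
      show ((x : H) : G) ^ 2 ^ (i + j) = 1
      rw [← hab]
      show (a * (u * b₀ * u⁻¹)) ^ 2 ^ (i + j) = 1
      rw [(show Commute a (u * b₀ * u⁻¹) from hcomm a ha _ hbm).mul_pow, conj_pow, pow_add,
        pow_mul, hi', one_pow, one_mul, mul_comm, pow_mul, hj', one_pow, mul_one, mul_inv_cancel]
    haveI : (E.subgroupOf H).Normal := hEn.comap H.subtype
    have hle' : ∀ c : L, c ∈ C → (c : G) ∈ Q := fun c hc => by
      have hcH : (c : G) ∈ H := by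
        refine mem_centralizer_singleton_iff.mpr ?_
        have h1 : Commute (c : G) z₁ := mem_centralizer_singleton_iff.mp hc
        have h2 : Commute (c : G) z₂ := hcomm _ c.2 _ hz₂L
        rw [hzprod]
        exact (h1.mul_right h2).eq
      rw [hQeq]
      exact ⟨⟨c, hcH⟩, Cores.le_pCore hp2 (show (⟨c, hcH⟩ : H) ∈ E.subgroupOf H from
        Components.component_le_layer hL c.2), rfl⟩
    haveI := (hsimp L hL).2.1
    refine (hsimp L hL).2.2 (isMulCommutative_of_self_centralizing (a := (⟨z₁, hz₁L⟩ : L))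
      (orderOf_eq_prime (Subtype.ext (by rw [pow_two]; exact hz₁sq))
        fun h => hzne L hL (congrArg Subtype.val h)) fun c hc => ?_)
    have hcC : c ∈ C := mem_centralizer_singleton_iff.mpr (congrArg Subtype.val hc.eq)
    have hcQ := hle' c hcC
    rcases hZ _ (hcom u hu _ hcQ) with h | h
    · refine Or.inl (Subtype.ext ?_)
      have h1 : u * (c : G) * u⁻¹ = c := mul_inv_eq_iff_eq_mul.mpr
        (commutatorElement_eq_one_iff_mul_comm.mp h)
      exact mem_bot.mp (hinf ▸ (⟨c.2, c, c.2, h1⟩ : (c : G) ∈ L ⊓ L'))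
    · refine Or.inr (Subtype.ext ?_)
      have hcE := Components.component_le_layer hL c.2
      have h1 := congrArg (proj L) h
      rw [commutatorElement_def, proj_mul (hd L hL) (hle L hL (hEn.conj_mem _ hcE u)) (hle L hL (E.inv_mem hcE)),
        hother L L' hL hL'c huL.symm _ (show u * c * u⁻¹ ∈ L' from ⟨c, c.2, rfl⟩), one_mul, proj_inv (hd L hL) (hle L hL hcE),
        proj_of_mem (hd L hL) c.2, ← hz₁] at h1
      show (c : G) = z₁
      rw [← inv_inj, h1]
      exact (inv_eq_of_mul_eq_one_right hz₁sq).symm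

end Cfsg.Agent.H47.LargeXS
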