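import Cfsg.Agent.H47.ComponentPump
import Cfsg.Agent.H47.PTerminal.Pump
import Cfsg.Agent.H47.SymplecticType

/-!
A component of maximal order, and then maximal centralizer rank, of the centralizer of an involution
stays a component in the centralizers of the involutions centralizing it (B-property).
-/

set_option autoImplicit false
set_option linter.style.haveILetI false
set_option linter.unusedSectionVars false

namespace Cfsg.Agent.H47.CPump

open Subgroup
open scoped commutatorElement

universe u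

variable {G : Type u} [Group G] [Finite G]

/-- With the B-property and `O(G) = 1`, the 2-layer of the centralizer of an involution is its layer. -/
theorem pLayer_le_layer (hO : Cfsg.oddCore G = ⊥) (hB : Cfsg.HasBProperty G) {b : G}
    (hb : orderOf b = 2) :
    Cfsg.pLayer 2 ↥(centralizer ({b} : Set G)) ≤ Cfsg.layer ↥(centralizer ({b} : Set G)) := by
  have h := hB b hb
  rw [hO, le_bot_iff, map_eq_bot_iff_of_injective _ (subtype_injective _)] at h
  refine sSup_le fun P hP => Components.component_le_layer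
    ⟨hP.1, (Components.quasisimple_iff_commutator_core (show Cfsg.IsPComponent 2 P from hP)).mpr ?_⟩
  exact le_bot_iff.mp ((commutator_mono (Components.pComponent_le_pLayer hP) le_rfl).trans h.le)

/-- An elementary subgroup bounds the rank. -/
theorem card_le_of_pRankLE {H E : Subgroup G} {k : ℕ} (hH : Cfsg.PRankLE 2 k H) (hEH : E ≤ H)
    (hE : Cfsg.IsElementaryAbelian 2 E) : Nat.card E ≤ 2 ^ k := by
  have h := hH (E.subgroupOf H)
    ⟨⟨fun x y => Subtype.ext (Subtype.ext
      (commute_of_elementaryAbelian hE (mem_subgroupOf.mp x.2) (mem_subgroupOf.mp y.2)).eq)⟩⟩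
    (fun x hx => Subtype.ext (by simpa using hE.2 _ (mem_subgroupOf.mp hx)))
  rwa [Nat.card_congr (subgroupOfEquivOfLe hEH).toEquiv] at h

theorem commute_of_elementaryAbelian' {H : Type*} [Group H] {E : Subgroup H}
    (hE : Cfsg.IsElementaryAbelian 2 E) {x y : H} (hx : x ∈ E) (hy : y ∈ E) : Commute x y :=
  congrArg Subtype.val (hE.1.is_comm.comm (⟨x, hx⟩ : E) ⟨y, hy⟩)

theorem elementary_map {H : Type*} [Group H] {E : Subgroup H} (hE : Cfsg.IsElementaryAbelian 2 E)
    (f : H →* G) : Cfsg.IsElementaryAbelian 2 (E.map f) := by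
  haveI := hE.1
  refine ⟨⟨⟨?_⟩⟩, ?_⟩
  · rintro ⟨_, x, hx, rfl⟩ ⟨_, y, hy, rfl⟩
    refine Subtype.ext ?_
    show f x * f y = f y * f x
    rw [← map_mul, ← map_mul, (commute_of_elementaryAbelian' hE hx hy).eq]
  · rintro _ ⟨x, hx, rfl⟩
    rw [← map_pow, hE.2 x hx, map_one]

/-- A group with a four subgroup, out of a non-rank-one hypothesis. -/
theorem exists_four {K : Subgroup G} (hK : ¬ Cfsg.PRankLE 2 1 K) :
    ∃ V ≤ K, Cfsg.IsElementaryAbelian 2 V ∧ Nat.card V = 4 := by
  haveI : Fact (Nat.Prime 2) := ⟨Nat.prime_two⟩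
  unfold Cfsg.PRankLE at hK
  push Not at hK
  obtain ⟨A, hA1, hA2, hA3⟩ := hK
  have hA : Cfsg.IsElementaryAbelian 2 A := ⟨hA1, hA2⟩
  obtain ⟨j, hj⟩ := IsPGroup.iff_card.mp (isPGroup_of_elementaryAbelian hA)
  have h2j : 2 ≤ j := by
    by_contra h
    have := Nat.pow_le_pow_right two_pos (show j ≤ 1 by omega)
    omega
  obtain ⟨V', hV'⟩ := Sylow.exists_subgroup_card_pow_prime 2 (G := A) (n := 2)
    (hj ▸ pow_dvd_pow 2 h2j)
  refine ⟨(V'.map A.subtype).map K.subtype, map_subtype_le _,
    elementary_map (elementaryAbelian_of_le hA (map_subtype_le _)) _, ?_⟩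
  rw [card_map_of_injective K.subtype_injective, card_map_of_injective A.subtype_injective, hV']
  norm_num

/-- Two commuting elementary subgroups of trivial intersection. -/
theorem elementary_sup {E F : Subgroup G} (hE : Cfsg.IsElementaryAbelian 2 E)
    (hF : Cfsg.IsElementaryAbelian 2 F) (hc : F ≤ centralizer (E : Set G)) (hd : E ⊓ F = ⊥) :
    Cfsg.IsElementaryAbelian 2 (E ⊔ F) ∧ Nat.card ↥(E ⊔ F) = Nat.card E * Nat.card F := by
  have hn : F ≤ normalizer (E : Set G) := hc.trans (centralizer_le_normalizer _)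
  refine ⟨⟨⟨⟨?_⟩⟩, ?_⟩, Coprime.card_sup hn hd⟩
  · rintro ⟨x, hx⟩ ⟨y, hy⟩
    obtain ⟨e, he, f, hf, rfl⟩ := (Coprime.mem_sup_iff hn).mp hx
    obtain ⟨e', he', f', hf', rfl⟩ := (Coprime.mem_sup_iff hn).mp hy
    refine Subtype.ext ?_
    have h1 : Commute e e' := commute_of_elementaryAbelian hE he he'
    have h2 : Commute f f' := commute_of_elementaryAbelian hF hf hf'
    have h3 : Commute e f' := mem_centralizer_iff.mp (hc hf') e he
    have h4 : Commute e' f := mem_centralizer_iff.mp (hc hf) e' he'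
    exact ((h1.mul_right h3).mul_left (h4.symm.mul_right h2)).eq
  · intro x hx
    obtain ⟨e, he, f, hf, rfl⟩ := (Coprime.mem_sup_iff hn).mp hx
    rw [(show Commute e f from mem_centralizer_iff.mp (hc hf) e he).mul_pow, hE.2 e he, hF.2 f hf,
      one_mul]

/-- S1305. -/
theorem s1305 (hO : Cfsg.oddCore G = ⊥) (hB : Cfsg.HasBProperty G) {a : G} (ha : orderOf a = 2)
    {K : Subgroup G} (hKa : K ≤ centralizer ({a} : Set G))
    (hK : Cfsg.IsComponent (K.subgroupOf (centralizer ({a} : Set G))))
    (hmax : ∀ y : G, orderOf y = 2 → ∀ K' : Subgroup G, K' ≤ centralizer ({y} : Set G) →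
      Cfsg.IsComponent (K'.subgroupOf (centralizer ({y} : Set G))) →
      Nat.card ↥K' ≤ Nat.card ↥K ∧ (Nat.card ↥K' = Nat.card ↥K → ∀ k : ℕ,
        Cfsg.PRankLE 2 k ↥(centralizer ({a} : Set G) ⊓ centralizer (K : Set G)) →
          Cfsg.PRankLE 2 k ↥(centralizer ({y} : Set G) ⊓ centralizer (K' : Set G))))
    (hrk : ¬ Cfsg.PRankLE 2 1 ↥K) {B : Subgroup G}
    (hBle : B ≤ centralizer ({a} : Set G) ⊓ centralizer (K : Set G))
    (hBel : Cfsg.IsElementaryAbelian 2 B)
    (hBmax : ∀ B' : Subgroup G, B' ≤ centralizer ({a} : Set G) ⊓ centralizer (K : Set G) →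
      Cfsg.IsElementaryAbelian 2 B' → Nat.card ↥B' ≤ Nat.card ↥B)
    {b : G} (hb : b ∈ B) (hb1 : b ≠ 1) :
    K ≤ centralizer ({b} : Set G) ∧
      Cfsg.IsComponent (K.subgroupOf (centralizer ({b} : Set G))) := by
  haveI : Fact (Nat.Prime 2) := ⟨Nat.prime_two⟩
  have hBc : ∀ x ∈ B, Commute x a ∧ ∀ k ∈ K, Commute k x := fun x hx =>
    ⟨mem_centralizer_singleton_iff.mp (hBle hx).1, mem_centralizer_iff.mp (hBle hx).2⟩
  have ha2 : a ^ 2 = 1 := by rw [← ha]; exact pow_orderOf_eq_one a
  have hb2 : orderOf b = 2 := orderOf_eq_of_elementaryAbelian hBel hb hb1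
  have haB : a ∈ B := by
    have h := hBmax (B ⊔ zpowers a) (sup_le hBle (zpowers_le.mpr
      ⟨mem_centralizer_singleton_iff.mpr rfl, mem_centralizer_iff.mpr fun k hk =>
        mem_centralizer_singleton_iff.mp (hKa hk)⟩))
      (Sympl.elementary_sup_zpowers hBel ha2 fun e he => (hBc e he).1)
    exact (eq_of_le_of_card_ge le_sup_left h).ge (mem_sup_right (mem_zpowers a))
  set Y := centralizer ({b} : Set G) with hY
  have hKY : K ≤ Y := fun k hk => mem_centralizer_singleton_iff.mpr ((hBc b hb).2 k hk).eq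
  refine ⟨hKY, ?_⟩
  have haY : a ∈ Y := mem_centralizer_singleton_iff.mpr (hBc b hb).1.eq.symm
  set a' : Y := ⟨a, haY⟩
  have ha' : orderOf a' = 2 := by rw [← Subgroup.orderOf_coe a']; exact ha
  set C' := centralizer ({a'} : Set Y) with hC'
  set L := K.subgroupOf Y with hL
  have hLC : L ≤ C' := fun x hx => mem_centralizer_singleton_iff.mpr
    (Subtype.ext (mem_centralizer_singleton_iff.mp (hKa hx)))
  have hKqs : Cfsg.IsQuasisimple K := by
    haveI := Components.qs_nontrivial hK.2
    haveI : Nontrivial K := (subgroupOfEquivOfLe hKa).injective.nontrivial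
    exact Components.qs_of_surjective hK.2 (subgroupOfEquivOfLe hKa).toMonoidHom
      (subgroupOfEquivOfLe hKa).surjective
  let f : C' →* centralizer ({a} : Set G) :=
    (Y.subtype.comp C'.subtype).codRestrict _ fun x => mem_centralizer_singleton_iff.mpr
      (congrArg Subtype.val (mem_centralizer_singleton_iff.mp x.2))
  have hLc : Cfsg.IsComponent (L.subgroupOf C') :=
    ⟨(show L.subgroupOf C' = (K.subgroupOf (centralizer ({a} : Set G))).comap f from rfl) ▸
      hK.1.comap f, qs_congr_subgroupOf hLC (qs_congr_subgroupOf hKY hKqs)⟩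
  have hcardL : Nat.card L = Nat.card K := Nat.card_congr (subgroupOfEquivOfLe hKY).toEquiv
  have hLE : L ≤ Cfsg.layer Y := by
    have hp : Cfsg.IsPComponent 2 (L.subgroupOf C') := by
      refine Components.isPComponent_of_component hLc fun hle => ?_
      obtain ⟨V, hVK, hV, hV4⟩ := exists_four hrk
      have h1 : (2 : ℕ) ∣ Nat.card (L.subgroupOf C') := by
        rw [Nat.card_congr (subgroupOfEquivOfLe hLC).toEquiv, hcardL]
        exact (by rw [hV4]; norm_num : (2 : ℕ) ∣ Nat.card V).trans (card_dvd_of_le hVK)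
      exact Cores.not_dvd_card_pPrimeCore (p := 2) (G := C') (h1.trans (card_dvd_of_le hle))
    have key : ∀ C : Subgroup Y, centralizer (zpowers a' : Set Y) = C →
        (Cfsg.pLayer 2 C).map C.subtype ≤ Cfsg.pLayer 2 Y := by
      rintro _ rfl
      exact Cores.lBalance_two (IsPGroup.of_card (n := 1) (by rw [Nat.card_zpowers, ha', pow_one]))
    refine le_trans (fun x hx => ?_) ((key C' (by rw [zpowers_eq_closure, centralizer_closure])).trans
      (pLayer_le_layer hO hB hb2))
    exact ⟨⟨x, hLC hx⟩, Components.pComponent_le_pLayer hp hx, rfl⟩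
  obtain ⟨D, hD, hcase⟩ := exists_pumpup_diag ha' hLC hLc hLE
  set DG := D.map Y.subtype with hDG
  have hDGY : DG ≤ Y := map_subtype_le D
  have hDc : Cfsg.IsComponent (DG.subgroupOf Y) := by
    rw [hDG, subgroupOf, comap_map_eq_self_of_injective Y.subtype_injective]
    exact hD
  have hcardD : Nat.card DG = Nat.card D := card_map_of_injective Y.subtype_injective
  obtain ⟨hDle, hDrk⟩ := hmax b hb2 DG hDGY hDc
  rcases hcase with h | ⟨h, -⟩ | ⟨haD, ⟨ho, hdiag⟩, -⟩
  · exact h ▸ hD
  · exfalso
    have h1 : Nat.card L < Nat.card D := by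
      by_contra hge
      exact h.ne (eq_of_le_of_card_ge h.le (not_lt.mp hge))
    omega
  exfalso
  have hle1 : Nat.card (diag ho) ≤ Nat.card D :=
    Nat.card_le_card_of_surjective _ (diagHom ho).rangeRestrict_surjective
  have heqc : Nat.card (diag ho) = Nat.card D := by rw [← hdiag] at hle1 ⊢; omega
  have hinj : Function.Injective (diagHom ho) := by
    have hbij : Function.Bijective (diagHom ho).rangeRestrict :=
      (diagHom ho).rangeRestrict_surjective.bijective_of_nat_card_le heqc.ge
    exact fun x y hxy => hbij.1 (Subtype.ext hxy)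
  obtain ⟨k, hk⟩ := IsPGroup.iff_card.mp (isPGroup_of_elementaryAbelian hBel)
  have hrank := hDrk (by rw [hcardD, ← heqc, ← hdiag, hcardL]) k fun A hA1 hA2 => by
    have h := hBmax (A.map (Subgroup.subtype _)) (map_subtype_le A) (elementary_map ⟨hA1, hA2⟩ _)
    rwa [card_map_of_injective (subtype_injective _), hk] at h
  have ha'2 : a' ^ 2 = 1 := Subtype.ext ha2
  -- `B` is generated by `a` and `B0 = B ∩ C(D)`
  set B0 := B ⊓ centralizer (DG : Set G) with hB0
  have hsplit : ∀ x ∈ B, x ∈ B0 ∨ a * x ∈ B0 := by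
    intro x hx
    have hxY : x ∈ Y := mem_centralizer_singleton_iff.mpr (commute_of_elementaryAbelian hBel hx hb).eq
    have hc : (⟨x, hxY⟩ : Y) ∈ centralizer (diag ho : Set Y) := by
      rw [← hdiag]
      exact mem_centralizer_iff.mpr fun l hl => Subtype.ext ((hBc x hx).2 _ hl).eq
    obtain ⟨i, hi, hm⟩ := exists_pow_mul_mem_centralizer ha'2 hD ho
      (show Commute (⟨x, hxY⟩ : Y) a' from Subtype.ext (hBc x hx).1.eq) hc
    have hmem : ∀ z : Y, z ∈ centralizer (D : Set Y) → (z : G) ∈ centralizer (DG : Set G) :=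
      fun z hz => mem_centralizer_iff.mpr (by
        rintro _ ⟨d, hd, rfl⟩
        exact congrArg Subtype.val (mem_centralizer_iff.mp hz d hd))
    interval_cases i
    · exact Or.inl ⟨hx, by simpa using hmem _ hm⟩
    · refine Or.inr ⟨mul_mem haB hx, ?_⟩
      have hai : a⁻¹ = a := inv_eq_of_mul_eq_one_right (by rw [← pow_two]; exact ha2)
      have := hmem _ hm
      simpa [a', hai] using this
  have hai : a⁻¹ = a := inv_eq_of_mul_eq_one_right (by rw [← pow_two]; exact ha2)
  have hBle2 : Nat.card B ≤ Nat.card B0 * 2 := by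
    have hn : zpowers a ≤ normalizer (B0 : Set G) := zpowers_le.mpr
      (centralizer_le_normalizer _ (mem_centralizer_iff.mpr fun y hy =>
        (hBc y hy.1).1.eq))
    have hle : B ≤ B0 ⊔ zpowers a := fun x hx => (hsplit x hx).elim (fun h => mem_sup_left h) fun h => by
      rw [show x = a * (a * x) by rw [← mul_assoc, ← pow_two, ha2, one_mul]]
      exact mul_mem (mem_sup_right (mem_zpowers a)) (mem_sup_left h)
    have hd : B0 ⊓ zpowers a = ⊥ := by
      rw [eq_bot_iff]
      rintro x ⟨hx0, hxa⟩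
      obtain ⟨m, rfl⟩ := hxa
      simp only at hx0 ⊢
      rw [zpow_eq_zpow_emod' m ha2] at hx0 ⊢
      rcases Int.emod_two_eq_zero_or_one m with h0 | h0
      · simp only [Nat.cast_ofNat, h0, zpow_zero]; exact one_mem _
      · exfalso
        simp only [Nat.cast_ofNat, h0, zpow_one] at hx0
        refine haD (centralizer_le_normalizer _ (mem_centralizer_iff.mpr fun d hd => ?_))
        exact Subtype.ext (mem_centralizer_iff.mp hx0.2 _ ⟨d, hd, rfl⟩)
    have := card_le_of_le hle
    rwa [Coprime.card_sup hn hd, Nat.card_zpowers, ha] at this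
  -- a four group in the conjugate of `D`
  obtain ⟨V, hVK, hV, hV4⟩ := exists_four hrk
  have hbij : Function.Bijective (diagHom ho).rangeRestrict :=
    ⟨fun x y hxy => hinj (congrArg Subtype.val hxy), (diagHom ho).rangeRestrict_surjective⟩
  let φ : D →* G := (Y.subtype.comp ((MulAut.conj a').toMonoidHom.comp D.subtype))
  have hφ : Function.Injective φ := fun x y hxy =>
    Subtype.ext ((MulAut.conj a').injective (Subtype.ext hxy))
  have hφd : Function.Injective (Y.subtype.comp (diagHom ho)) :=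
    Y.subtype_injective.comp hinj
  set W0 := V.comap (Y.subtype.comp (diagHom ho)) with hW0
  have hW0map : W0.map (Y.subtype.comp (diagHom ho)) = V := by
    refine map_comap_eq_self ?_
    intro v hv
    have hvd : (⟨v, hKY (hVK hv)⟩ : Y) ∈ diag ho := hdiag ▸ (hVK hv : _)
    obtain ⟨d, hd⟩ := hvd
    exact ⟨d, congrArg Subtype.val hd⟩
  have hW0 : Cfsg.IsElementaryAbelian 2 W0 := by
    haveI := hV.1
    refine ⟨⟨⟨fun x y => Subtype.ext (hφd ?_)⟩⟩, fun x hx => hφd ?_⟩
    · simp only [coe_mul, map_mul]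
      exact (commute_of_elementaryAbelian hV x.2 y.2).eq
    · rw [map_pow, map_one]
      exact hV.2 _ hx
  set V' := W0.map φ with hV'
  have hV'4 : Nat.card V' = 4 := by
    rw [hV', card_map_of_injective hφ, ← card_map_of_injective hφd, hW0map, hV4]
  have hV'e : Cfsg.IsElementaryAbelian 2 V' := elementary_map hW0 φ
  have hB0e : Cfsg.IsElementaryAbelian 2 B0 := elementaryAbelian_of_le hBel inf_le_left
  have hV'c : V' ≤ centralizer (B0 : Set G) := by
    rintro _ ⟨d, -, rfl⟩
    refine mem_centralizer_iff.mpr fun x hx => ?_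
    have h1 : Commute x a := (hBc x hx.1).1
    have h2 : Commute x ((d : Y) : G) := (mem_centralizer_iff.mp hx.2 _ ⟨d, d.2, rfl⟩).symm
    exact ((h1.mul_right h2).mul_right h1.inv_right).eq
  have hV'D : V' ≤ centralizer (DG : Set G) := by
    rintro _ ⟨d, -, rfl⟩
    refine mem_centralizer_iff.mpr ?_
    rintro _ ⟨e, he, rfl⟩
    exact congrArg Subtype.val (Components.commute_of_commutator_eq_bot
      (Components.components_commute hD (Components.component_conj hD a') fun he' =>
        haD (Components.mem_normalizer_of_map_conj_eq he'.symm)) he ⟨d, d.2, rfl⟩)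
  have hd' : B0 ⊓ V' = ⊥ := by
    rw [eq_bot_iff]
    rintro x ⟨hx, d, hdW, hdx⟩
    rw [Subgroup.mem_bot]
    have hxa : Commute x a := (hBc x hx.1).1
    have hd2 : d ^ 2 = 1 := hW0.2 d hdW
    have hxd : x = a * ((d : Y) : G) * a⁻¹ := hdx.symm
    have h3 : ((d : Y) : G) = x := by
      rw [show ((d : Y) : G) = a⁻¹ * x * a by rw [hxd]; group, mul_assoc, hxa.eq, inv_mul_cancel_left]
    have h4 : Commute (d : Y) a' := Subtype.ext (by
      show ((d : Y) : G) * a = a * ((d : Y) : G)
      rw [h3]; exact hxa.eq)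
    have h5 : diagHom ho d = 1 := by
      rw [diagHom_apply, diagProd, ha'2, inv_one, mul_one, h4.mul_pow, ha'2, mul_one]
      exact congrArg Subtype.val hd2
    rw [← map_one (diagHom ho)] at h5
    rw [hinj h5] at hdx
    rw [← hdx, map_one]
  obtain ⟨hse, hsc⟩ := elementary_sup hB0e hV'e hV'c hd'
  have hsle : B0 ⊔ V' ≤ centralizer ({b} : Set G) ⊓ centralizer (DG : Set G) := by
    refine sup_le (le_inf (fun x hx => mem_centralizer_singleton_iff.mpr
      (commute_of_elementaryAbelian hBel hx.1 hb).eq) inf_le_right) (le_inf ?_ hV'D)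
    rintro _ ⟨d, -, rfl⟩
    exact (MulAut.conj a' (d : Y)).2
  have h := card_le_of_pRankLE hrank hsle hse
  rw [hsc, hV'4, ← hk] at h
  have : 0 < Nat.card B0 := Nat.card_pos
  omega

end Cfsg.Agent.H47.CPump
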