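import Cfsg.Agent.H47.Transvection

/-!
An abelian 2-subgroup of a solvable group with trivial 2-core is no larger than the index of its fixed points
on a faithful module over the field with two elements; in case of equality it is generated by transvections.
-/

set_option autoImplicit false
set_option linter.style.haveILetI false
set_option linter.unusedSectionVars false
set_option maxHeartbeats 1000000

namespace Cfsg.Agent.H47.TV

open Subgroup
open SB (apply_mul inv_apply apply_inv fixed mem_fixed fixed_anti)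

universe u v

variable {G : Type u} [Group G] {V : Type v} [CommGroup V] (φ : G →* MulAut V)

/-- The elements fixing `D` pointwise. -/
def fixer (D : Subgroup V) : Subgroup G where
  carrier := {g | ∀ x ∈ D, φ g x = x}
  one_mem' := fun x _ => by rw [map_one]; rfl
  mul_mem' := fun {a b} ha hb x hx => by rw [apply_mul, hb x hx, ha x hx]
  inv_mem' := fun {a} ha x hx => by
    conv_lhs => rw [← ha x hx]
    rw [inv_apply]

variable {φ}

theorem mem_fixer {D : Subgroup V} {g : G} : g ∈ fixer φ D ↔ ∀ x ∈ D, φ g x = x := Iff.rfl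

theorem psi_ker (g : G) : (psi φ g).ker = fixed φ (zpowers g) := by
  ext x
  constructor
  · intro h b hb
    have hg : g ∈ fixer φ (zpowers x) := by
      rintro _ ⟨m, rfl⟩
      show φ g (x ^ m) = x ^ m
      rw [map_zpow, mul_inv_eq_one.mp (MonoidHom.mem_ker.mp h)]
    exact (zpowers_le.mpr hg hb : b ∈ fixer φ _) x (mem_zpowers x)
  · intro h
    exact MonoidHom.mem_ker.mpr (mul_inv_eq_one.mpr (h g (mem_zpowers g)))

theorem card_dsp (g : G) : Nat.card (dsp φ g) = (fixed φ (zpowers g)).index := by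
  rw [← psi_ker, index_ker]
  rfl

theorem psi_psi (hV : ∀ x : V, x * x = 1) (g : G) (x : V) :
    psi φ g (psi φ g x) = psi φ (g * g) x := by
  show φ g (φ g x * x⁻¹) * (φ g x * x⁻¹)⁻¹ = φ (g * g) x * x⁻¹
  have hi : ∀ y : V, y⁻¹ = y := fun y => inv_eq_of_mul_eq_one_right (hV y)
  simp only [hi, map_mul (φ g), ← apply_mul]
  rw [mul_assoc (φ (g * g) x), ← mul_assoc (φ g x) (φ g x), hV, one_mul]

theorem psi_comm {a b : G} (h : a * b = b * a) (x : V) :
    psi φ a (psi φ b x) = psi φ b (psi φ a x) := by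
  show φ a (φ b x * x⁻¹) * (φ b x * x⁻¹)⁻¹ = φ b (φ a x * x⁻¹) * (φ a x * x⁻¹)⁻¹
  simp only [map_mul (φ a), map_mul (φ b), map_inv (φ a), map_inv (φ b), mul_inv, inv_inv,
    ← apply_mul, h]
  simp only [mul_comm, mul_left_comm, mul_assoc]

/-- Commuting elements of 2-power order displace no nontrivial invariant subgroup onto itself. -/
theorem eq_bot_of_le_sup (hV : ∀ x : V, x * x = 1) {B : Subgroup G} (hB : IsPGroup 2 B)
    (hc : ∀ a ∈ B, ∀ b ∈ B, a * b = b * a) {M : Subgroup V} (hM : ∀ b ∈ B, ∀ x ∈ M, φ b x ∈ M)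
    (s : Finset G) (hs : ∀ b ∈ s, b ∈ B) (h : M ≤ s.sup fun b => M.map (psi φ b)) : M = ⊥ := by
  classical
  induction s using Finset.induction_on with
  | empty => simpa using h
  | @insert a s ha ih =>
    have hsB : ∀ b ∈ s, b ∈ B := fun b hb => hs b (Finset.mem_insert_of_mem hb)
    have haB : a ∈ B := hs a (Finset.mem_insert_self a s)
    rw [Finset.sup_insert] at h
    refine ih hsB ?_
    set X := s.sup fun b => M.map (psi φ b) with hX
    have hXle : ∀ c ∈ B, X.map (psi φ c) ≤ X := by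
      intro c hcB
      rw [map_le_iff_le_comap, hX]
      refine Finset.sup_le fun b hb => ?_
      rintro _ ⟨m, hm, rfl⟩
      refine mem_comap.mpr (Finset.le_sup (f := fun b => M.map (psi φ b)) hb ?_)
      exact ⟨psi φ c m, mul_mem (hM c hcB m hm) (inv_mem hm), psi_comm (hc b (hsB b hb) c hcB) m⟩
    have key : ∀ k : ℕ, M ≤ M.map (psi φ (a ^ 2 ^ k)) ⊔ X := by
      intro k
      induction k with
      | zero => rwa [pow_zero, pow_one]
      | succ k ih' =>
        refine ih'.trans (sup_le ?_ le_sup_right)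
        refine (map_mono ih').trans ?_
        rw [Subgroup.map_sup, map_map]
        refine sup_le_sup (le_of_eq ?_) (hXle _ (pow_mem haB _))
        congr 1
        ext x
        rw [MonoidHom.comp_apply, psi_psi hV, pow_succ, pow_mul, pow_two]
    obtain ⟨k, hk⟩ := hB ⟨a, haB⟩
    have hk' : a ^ 2 ^ k = 1 := congrArg Subtype.val hk
    refine (key k).trans (sup_le ?_ le_rfl)
    rintro _ ⟨x, -, rfl⟩
    show φ (a ^ 2 ^ k) x * x⁻¹ ∈ X
    rw [hk', map_one]
    simp

theorem IsTV.ne_one {t : G} (ht : IsTV φ t) : t ≠ 1 := by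
  rintro rfl
  have : dsp φ (1 : G) = ⊥ := by
    rw [eq_bot_iff]
    rintro _ ⟨x, rfl⟩
    exact mem_bot.mpr (by show φ 1 x * x⁻¹ = 1; rw [map_one]; simp)
  have h2 := ht.2
  rw [this, card_bot] at h2
  omega

/-- A transvection inverting a rotation moves its four-group. -/
theorem IsTV.moves (hV : ∀ x : V, x * x = 1) {t f : G} (hf : IsRot φ f)
    (hinv : t * f * t⁻¹ = f⁻¹) : ¬ ∀ x ∈ dsp φ f, φ t x = x := by
  intro h
  obtain ⟨x, hx, hx1⟩ : ∃ x ∈ dsp φ f, x ≠ 1 := by
    by_contra hcon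
    push Not at hcon
    have : dsp φ f = ⊥ := eq_bot_iff.mpr fun y hy => mem_bot.mpr (hcon y hy)
    have h2 := hf.2.2
    rw [this, card_bot] at h2
    omega
  have h1 : t * f = f⁻¹ * t := mul_inv_eq_iff_eq_mul.mp hinv
  have h2 : φ f x = φ f⁻¹ x := by
    rw [← h _ (IsRot.apply_mem hx), ← apply_mul, h1, apply_mul, h x hx]
  have h3 : f⁻¹ = f * f := inv_eq_of_mul_eq_one_right (by
    rw [← hf.2.1, pow_succ, pow_two, mul_assoc])
  rw [h3, apply_mul] at h2
  exact hx1 (hf.fpf hV hx ((φ f).injective h2).symm)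

variable [Finite G] [Finite V]

theorem two_le_relIndex {C W : Subgroup V} (h : ¬ W ≤ C) : 2 ≤ C.relIndex W := by
  have h0 : C.relIndex W ≠ 0 := index_ne_zero_of_finite (H := C.subgroupOf W)
  have h1 : C.relIndex W ≠ 1 := fun h1 => h (relIndex_eq_one.mp h1)
  omega

theorem card_eq_mul_relIndex {A B : Subgroup G} (h : A ≤ B) :
    Nat.card B = Nat.card A * A.relIndex B := by
  rw [← relIndex_bot_left B, ← relIndex_bot_left A, relIndex_mul_relIndex _ _ _ bot_le h]

variable [hsol : Group.IsSolvable G]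

/-- The step for a subgroup containing a transvection. -/
theorem step_tv (hinj : Function.Injective φ) (hV : ∀ x : V, x * x = 1) (hO : Cfsg.pCore 2 G = ⊥)
    {B : Subgroup G} (hc : ∀ a ∈ B, ∀ b ∈ B, a * b = b * a) {t : G} (htB : t ∈ B) (ht : IsTV φ t)
    (ih : ∀ A < B, Nat.card A ≤ (fixed φ A).index ∧
      (Nat.card A = (fixed φ A).index → A ≤ closure {s | s ∈ A ∧ IsTV φ s})) :
    Nat.card B ≤ (fixed φ B).index ∧
      (Nat.card B = (fixed φ B).index → B ≤ closure {s | s ∈ B ∧ IsTV φ s}) := by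
  obtain ⟨f, hf, hinv, htf⟩ := ht.exists_rot hinj hV hO
  obtain ⟨⟨a, ha⟩, hane, -⟩ := (Nat.card_eq_two_iff' (1 : dsp φ t)).mp ht.2
  have ha1 : a ≠ 1 := fun h => hane (Subtype.ext h)
  have hbU : ∀ b ∈ B, ∀ x ∈ dsp φ f, φ b x ∈ dsp φ f := by
    intro b hb x hx
    have hbf := hf.conj (g := b)
    by_cases heq : dsp φ (b * f * b⁻¹) = dsp φ f
    · rw [← heq, dsp_conj]; exact ⟨x, hx, rfl⟩
    exfalso
    have hd := (hbf.dichotomy hV hf heq).1
    have hbt : b * t * b⁻¹ = t := by rw [hc b hb t htB, mul_inv_cancel_right]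
    have h1 : φ b a ∈ dsp φ t := by
      rw [← hbt, dsp_conj]; exact ⟨a, ha, rfl⟩
    have h2 : φ b a ∈ dsp φ (b * f * b⁻¹) ⊓ dsp φ f :=
      mem_inf.mpr ⟨by rw [dsp_conj]; exact ⟨a, htf ha, rfl⟩, htf h1⟩
    rw [hd, mem_bot] at h2
    exact ha1 ((φ b).map_eq_one_iff.mp h2)
  have hba : ∀ b ∈ B, φ b a = a := by
    intro b hb
    have hbt : b * t * b⁻¹ = t := by rw [hc b hb t htB, mul_inv_cancel_right]
    have h1 : φ b a ∈ dsp φ t := by
      rw [← hbt, dsp_conj]; exact ⟨a, ha, rfl⟩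
    obtain ⟨z, -, huniq⟩ := (Nat.card_eq_two_iff' (1 : dsp φ t)).mp ht.2
    have e1 := huniq ⟨a, ha⟩ hane
    have e2 := huniq ⟨φ b a, h1⟩ fun h => ha1 ((φ b).map_eq_one_iff.mp (congrArg Subtype.val h))
    exact congrArg Subtype.val (e2.trans e1.symm)
  have hfa := IsRot.apply_mem (φ := φ) (f := f) (htf ha)
  set B2 := B ⊓ fixer φ (dsp φ f) with hB2
  have htB2 : t ∉ B2 := fun h => IsTV.moves hV hf hinv h.2
  have hlt : B2 < B := lt_of_le_of_ne inf_le_left fun h => htB2 (h.symm ▸ htB)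
  obtain ⟨ih1, ih2⟩ := ih B2 hlt
  have hfa1 : φ f a ≠ 1 := fun h => ha1 ((φ f).map_eq_one_iff.mp h)
  have hfaa : φ f a ≠ a := fun h => ha1 (hf.fpf hV (htf ha) h)
  -- each element outside agrees with `t`
  have hout : ∀ b ∈ B, φ b (φ f a) = φ f a → b ∈ B2 := by
    intro b hb h
    refine mem_inf.mpr ⟨hb, fun x hx => ?_⟩
    rcases eq_or_ne x 1 with rfl | hx1
    · rw [map_one]
    rcases hf.cases hV (htf ha) ha1 hx hx1 with rfl | rfl | rfl
    · exact hba b hb
    · exact h
    · have hy := IsRot.apply_mem (φ := φ) (f := f) hfa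
      rcases hf.cases hV (htf ha) ha1 (hbU b hb _ hy)
        (fun e => hfa1 ((φ f).map_eq_one_iff.mp ((φ b).map_eq_one_iff.mp e))) with e | e | e
      · exact absurd (((φ b).injective (e.trans (hba b hb).symm))) fun e' => hfaa
          ((congrArg (φ f) e').symm.trans (apply_three hf.2.1 a))
      · exact absurd ((φ b).injective (e.trans h.symm)) fun e' => hfaa ((φ f).injective e')
      · exact e
  have hswap : ∀ b ∈ B, b ∉ B2 → φ b (φ f a) = φ f (φ f a) := by
    intro b hb hb2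
    rcases hf.cases hV (htf ha) ha1 (hbU b hb _ hfa)
      (fun e => hfa1 ((φ b).map_eq_one_iff.mp e)) with e | e | e
    · exact absurd ((φ b).injective (e.trans (hba b hb).symm)) hfaa
    · exact absurd (hout b hb e) hb2
    · exact e
  have hdec : ∀ b ∈ B, b ∈ B2 ∨ t * b ∈ B2 := by
    intro b hb
    by_cases hb2 : b ∈ B2
    · exact .inl hb2
    refine .inr (hout _ (mul_mem htB hb) ?_)
    rw [apply_mul, hswap b hb hb2, ← hswap t htB htB2, ← apply_mul, ht.1, map_one]
    rfl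
  have hsup : B = B2 ⊔ zpowers t := by
    refine le_antisymm (fun b hb => ?_) (sup_le inf_le_left (zpowers_le.mpr htB))
    rcases hdec b hb with h | h
    · exact mem_sup_left h
    · rw [show b = t * (t * b) by rw [← mul_assoc, ht.1, one_mul]]
      exact mul_mem (mem_sup_right (mem_zpowers t)) (mem_sup_left h)
  have hrel : B2.relIndex B ≤ 2 := by
    show (B2.subgroupOf B).index ≤ 2
    rw [index_eq_card]
    refine (Nat.card_le_card_of_surjective
      (fun e : Bool => (((if e then (⟨t, htB⟩ : B) else 1) : B) : B ⧸ B2.subgroupOf B)) ?_).trans (by simp)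
    intro z
    induction z using QuotientGroup.induction_on with | _ b => ?_
    rcases hdec b b.2 with h | h
    · exact ⟨false, by rw [QuotientGroup.eq]; simpa [mem_subgroupOf] using h⟩
    · refine ⟨true, ?_⟩
      rw [QuotientGroup.eq, mem_subgroupOf]
      show t⁻¹ * (b : G) ∈ B2
      rwa [inv_eq_of_mul_eq_one_right ht.1]
  have hidx : 2 * (fixed φ B2).index ≤ (fixed φ B).index := by
    rw [← relIndex_mul_index (fixed_anti (φ := φ) hlt.le)]
    refine Nat.mul_le_mul_right _ (two_le_relIndex fun h => ?_)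
    exact IsTV.moves hV hf hinv fun x hx => h (fun b hb => hb.2 x hx) t htB
  have hcard := card_eq_mul_relIndex hlt.le
  have hle : Nat.card B ≤ 2 * Nat.card B2 := by
    rw [hcard, mul_comm]; exact Nat.mul_le_mul_right _ hrel
  refine ⟨by omega, fun he => ?_⟩
  have h2 := ih2 (by omega)
  calc B = B2 ⊔ zpowers t := hsup
    _ ≤ closure {s | s ∈ B ∧ IsTV φ s} := sup_le
        (h2.trans (closure_mono fun s hs => ⟨hs.1.1, hs.2⟩))
        (zpowers_le.mpr (subset_closure ⟨htB, ht⟩))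

/-- **Abelian offenders.** -/
theorem card_le_index (hinj : Function.Injective φ) (hV : ∀ x : V, x * x = 1)
    (hO : Cfsg.pCore 2 G = ⊥) (B : Subgroup G) (hB : IsPGroup 2 B)
    (hc : ∀ a ∈ B, ∀ b ∈ B, a * b = b * a) :
    Nat.card B ≤ (fixed φ B).index ∧
      (Nat.card B = (fixed φ B).index → B ≤ closure {t | t ∈ B ∧ IsTV φ t}) := by
  haveI : Fact (Nat.Prime 2) := ⟨Nat.prime_two⟩
  induction B using WellFoundedLT.induction with
  | ind B ih =>
  have ih' : ∀ A < B, Nat.card A ≤ (fixed φ A).index ∧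
      (Nat.card A = (fixed φ A).index → A ≤ closure {t | t ∈ A ∧ IsTV φ t}) := fun A hA =>
    ih A hA (hB.to_le hA.le) fun a ha b hb => hc a (hA.le ha) b (hA.le hb)
  by_cases htv : ∃ t ∈ B, IsTV φ t
  · obtain ⟨t, htB, ht⟩ := htv
    exact step_tv hinj hV hO hc htB ht ih'
  push Not at htv
  rcases eq_or_ne B ⊥ with rfl | hne
  · exact ⟨by rw [card_bot]; exact Nat.one_le_iff_ne_zero.mpr index_ne_zero_of_finite, fun _ => bot_le⟩
  have hsmall : ∀ A < B, Nat.card A = (fixed φ A).index → A = ⊥ := fun A hA he =>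
    eq_bot_iff.mpr (((ih' A hA).2 he).trans ((closure_le _).mpr fun s hs =>
      absurd hs.2 (htv s (hA.le hs.1))))
  suffices h : Nat.card B ≤ (fixed φ B).index ∧ Nat.card B ≠ (fixed φ B).index from
    ⟨h.1, fun he => absurd he h.2⟩
  by_cases hel : ∀ b ∈ B, b ^ 2 = 1
  · -- the elementary case
    have hBe : Cfsg.IsElementaryAbelian 2 B :=
      ⟨⟨⟨fun a b => Subtype.ext (hc a a.2 b b.2)⟩⟩, hel⟩
    set F := Cfsg.fittingSubgroup G with hFdef
    have hFodd : Odd (Nat.card F) := SB.odd_card_fitting hO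
    have hBn : B ≤ normalizer (F : Set G) := by rw [normalizer_eq_top]; exact le_top
    obtain ⟨B₀, hB₀, hrel, hnle⟩ : ∃ B₀ ≤ B, B₀.relIndex B ≤ 2 ∧
        ¬ F ⊓ centralizer (B₀ : Set G) ≤ centralizer (B : Set G) := by
      by_contra hcon
      push Not at hcon
      have h1 : F ≤ centralizer (B : Set G) := H40.le_of_hyperplanes hBe
        (fun h => (Nat.not_even_iff_odd.mpr hFodd) (even_iff_two_dvd.mpr h)) hBn hcon
      have h2 : B ≤ F := (le_centralizer_iff.mp h1).trans Cores.centralizer_fittingSubgroup_le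
      refine hne (eq_bot_iff.mpr fun x hxB => mem_bot.mpr ?_)
      exact orderOf_eq_one_iff.mp (Nat.eq_one_of_dvd_coprimes (Nat.coprime_two_left.mpr hFodd)
        (orderOf_dvd_of_pow_eq_one (hel x hxB))
        (orderOf_mk x (h2 hxB) ▸ orderOf_dvd_natCard (⟨x, h2 hxB⟩ : F)))
    obtain ⟨f₀, hf₀, hf₀B⟩ := SetLike.not_le_iff_exists.mp hnle
    obtain ⟨b, hbB, hbf⟩ : ∃ b ∈ B, b * f₀ ≠ f₀ * b := by
      by_contra hcon
      push Not at hcon
      exact hf₀B (mem_centralizer_iff.mpr hcon)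
    set f₁ := f₀⁻¹ * (b * f₀ * b⁻¹) with hf₁
    have hf₁1 : f₁ ≠ 1 := fun h => hbf (by
      rw [hf₁, inv_mul_eq_one] at h
      exact mul_inv_eq_iff_eq_mul.mp h.symm)
    have hf₁F : f₁ ∈ F := mul_mem (inv_mem hf₀.1) (Normal.conj_mem inferInstance f₀ hf₀.1 b)
    have hbB₀ : b ∉ B₀ := fun h => hbf (mem_centralizer_iff.mp hf₀.2 b h)
    have hlt : B₀ < B := lt_of_le_of_ne hB₀ fun h => hbB₀ (h.symm ▸ hbB)
    have hmove : ¬ fixed φ B₀ ≤ fixed φ B := by
      intro hle
      apply hf₁1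
      refine hinj (MulEquiv.ext fun x => ?_)
      rw [map_one]
      have hcf : ∀ c ∈ B₀, c * f₀ = f₀ * c := fun c hc0 => mem_centralizer_iff.mp hf₀.2 c hc0
      refine SB.fix_of_fix_fixed φ hV (hB.to_le hB₀) (n := Nat.card F) hFodd
        (congrArg Subtype.val (pow_card_eq_one' (x := (⟨f₁, hf₁F⟩ : F)))) ?_ ?_ x
      · intro c hc0
        have h1 : Commute c f₀ := hcf c hc0
        have h2 : Commute c b := hc c (hB₀ hc0) b hbB
        exact (h1.inv_right.mul_right ((h2.mul_right h1).mul_right h2.inv_right)).eq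
      · intro y hy
        have hyb : φ b⁻¹ y = y := hle hy b⁻¹ (inv_mem hbB)
        have hy' : φ f₀ y ∈ fixed φ B₀ := fun c hc0 => by
          rw [← apply_mul, hcf c hc0, apply_mul, hy c hc0]
        show φ (f₀⁻¹ * (b * f₀ * b⁻¹)) y = y
        rw [apply_mul, apply_mul, apply_mul, hyb, hle hy' b hbB, inv_apply]
    have hidx : 2 * (fixed φ B₀).index ≤ (fixed φ B).index := by
      rw [← relIndex_mul_index (fixed_anti (φ := φ) hB₀)]
      exact Nat.mul_le_mul_right _ (two_le_relIndex hmove)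
    have hcard := card_eq_mul_relIndex hB₀
    have hle : Nat.card B ≤ 2 * Nat.card B₀ := by
      rw [hcard, mul_comm]; exact Nat.mul_le_mul_right _ hrel
    have hih := (ih' B₀ hlt).1
    refine ⟨by omega, fun he => ?_⟩
    have hB₀bot := hsmall B₀ hlt (by omega)
    have hB₀c : Nat.card B₀ = 1 := by rw [hB₀bot, card_bot]
    have hb1 : b ≠ 1 := fun h => hbB₀ (h ▸ one_mem _)
    have hz : zpowers b = B := by
      refine eq_of_le_of_card_ge (zpowers_le.mpr hbB) ?_
      rw [Nat.card_zpowers, orderOf_eq_prime (hel b hbB) hb1]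
      omega
    refine htv b hbB ⟨by rw [← pow_two]; exact hel b hbB, ?_⟩
    rw [card_dsp, hz, ← he]
    rw [← hz, Nat.card_zpowers, orderOf_eq_prime (hel b hbB) hb1]
  -- some vector displaced non-quadratically
  obtain ⟨v, hv⟩ : ∃ v, ∃ x ∈ B, ∃ c ∈ B, φ x (φ c v * v⁻¹) ≠ φ c v * v⁻¹ := by
    by_contra hcon
    push Not at hcon
    refine hel fun b hb => hinj (MulEquiv.ext fun v => ?_)
    have h := hcon v b hb b hb
    rw [map_one, pow_two, apply_mul]
    show φ b (φ b v) = v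
    rw [map_mul, map_inv, mul_inv_eq_iff_eq_mul] at h
    rw [h, mul_comm (φ b v), mul_assoc, hV, mul_one]
    exact inv_eq_of_mul_eq_one_right (hV v)
  set d : G → V := fun b => φ b v * v⁻¹ with hd
  have hdmul : ∀ x y, d (x * y) = φ x (d y) * d x := fun x y => by
    show φ (x * y) v * v⁻¹ = φ x (φ y v * v⁻¹) * (φ x v * v⁻¹)
    rw [map_mul (φ x), map_inv (φ x), apply_mul, mul_assoc, inv_mul_cancel_left]
  set C := fixed φ B with hC
  set E := closure (d '' (B : Set G)) with hE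
  set B' := B ⊓ fixer φ E with hB'
  have hmemB' : ∀ x ∈ B, d x ∈ C → x ∈ B' := by
    intro x hx hdx
    refine mem_inf.mpr ⟨hx, fun y hy => ?_⟩
    have hEle : E ≤ (psi φ x).ker := (closure_le _).mpr (by
      rintro _ ⟨c, hcB, rfl⟩
      refine MonoidHom.mem_ker.mpr (mul_inv_eq_one.mpr ?_)
      have := hdmul x c
      rw [hc x hx c hcB, hdmul, hdx c hcB, mul_comm (d x)] at this
      exact (mul_right_cancel this).symm)
    exact mul_inv_eq_one.mp (MonoidHom.mem_ker.mp (hEle hy))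
  obtain ⟨x₀, hx₀, c₀, hc₀, hne₀⟩ := hv
  have hlt : B' < B := lt_of_le_of_ne inf_le_left fun h =>
    hne₀ ((h.symm ▸ hx₀ : x₀ ∈ B').2 _ (subset_closure ⟨c₀, hc₀, rfl⟩))
  have hECle : E ⊔ C ≤ fixed φ B' :=
    sup_le (fun e he b hb => hb.2 e he) (fixed_anti hlt.le)
  have hrel : B'.relIndex B ≤ C.relIndex (E ⊔ C) := by
    show (B'.subgroupOf B).index ≤ (C.subgroupOf (E ⊔ C)).index
    rw [index_eq_card, index_eq_card]
    refine Nat.card_le_card_of_injective (fun z => ((⟨d (Quotient.out z : B),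
      mem_sup_left (subset_closure ⟨_, (Quotient.out z : B).2, rfl⟩)⟩ : (E ⊔ C : Subgroup V)) :
        (E ⊔ C : Subgroup V) ⧸ C.subgroupOf (E ⊔ C))) ?_
    intro z z' hzz
    set b : B := Quotient.out z with hb
    set b' : B := Quotient.out z' with hb'
    rw [QuotientGroup.eq, mem_subgroupOf] at hzz
    rw [← QuotientGroup.out_eq' z, ← QuotientGroup.out_eq' z', QuotientGroup.eq, mem_subgroupOf]
    show (b : G)⁻¹ * (b' : G) ∈ B'
    have hxB : (b : G)⁻¹ * (b' : G) ∈ B := mul_mem (inv_mem b.2) b'.2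
    refine hmemB' _ hxB ?_
    have h1 := hdmul b ((b : G)⁻¹ * b')
    rw [mul_inv_cancel_left] at h1
    have h2 : (d b)⁻¹ * d b' ∈ C := hzz
    rw [h1, mul_comm (φ (b : G) _), inv_mul_cancel_left] at h2
    have h3 := h2 (b : G)⁻¹ (inv_mem b.2)
    rw [inv_apply] at h3
    rwa [h3]
  have hidx : C.relIndex (E ⊔ C) * (fixed φ B').index ≤ C.index := by
    rw [← relIndex_mul_index (le_sup_right : C ≤ E ⊔ C)]
    exact Nat.mul_le_mul_left _ (Nat.le_of_dvd (Nat.pos_of_ne_zero index_ne_zero_of_finite)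
      (index_dvd_of_le hECle))
  have hih := (ih' B' hlt).1
  have hcard := card_eq_mul_relIndex hlt.le
  have hmain : Nat.card B ≤ C.relIndex (E ⊔ C) * (fixed φ B').index := by
    rw [hcard, mul_comm]; exact Nat.mul_le_mul hrel hih
  refine ⟨hmain.trans hidx, fun he => ?_⟩
  have heq1 : Nat.card B' = (fixed φ B').index := by
    refine le_antisymm hih (Nat.le_of_mul_le_mul_left ?_ (Nat.pos_of_ne_zero
      (index_ne_zero_of_finite (H := C.subgroupOf (E ⊔ C)))))
    calc C.relIndex (E ⊔ C) * (fixed φ B').index ≤ C.index := hidx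
      _ = Nat.card B := he.symm
      _ = B'.relIndex B * Nat.card B' := by rw [hcard, mul_comm]
      _ ≤ _ := Nat.mul_le_mul_right _ hrel
  have hbot := hsmall B' hlt heq1
  have hB'c : Nat.card B' = 1 := by rw [hbot, card_bot]
  have htop : E ⊔ C = ⊤ := by
    rw [← index_eq_one]
    have h1 := relIndex_mul_index (le_sup_right : C ≤ E ⊔ C)
    have h2 : C.index ≤ C.relIndex (E ⊔ C) := by
      rw [← he, hcard, hB'c, one_mul]; exact hrel
    have h3 : C.index ≠ 0 := index_ne_zero_of_finite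
    rw [← h1] at h2 h3
    have h4 : C.relIndex (E ⊔ C) * (E ⊔ C).index ≤ C.relIndex (E ⊔ C) * 1 := by rwa [mul_one]
    have h5 := Nat.le_of_mul_le_mul_left h4 (Nat.pos_of_ne_zero (left_ne_zero_of_mul h3))
    have h6 : (E ⊔ C).index ≠ 0 := right_ne_zero_of_mul h3
    omega
  have hEinv : ∀ b ∈ B, ∀ x ∈ E, φ b x ∈ E := by
    intro b hb
    have : E ≤ E.comap (φ b).toMonoidHom := (closure_le _).mpr (by
      rintro _ ⟨c, hcB, rfl⟩
      show φ b (d c) ∈ E
      rw [show φ b (d c) = d (b * c) * (d b)⁻¹ by rw [hdmul, mul_inv_cancel_right]]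
      exact mul_mem (subset_closure ⟨_, mul_mem hb hcB, rfl⟩) (inv_mem (subset_closure ⟨b, hb, rfl⟩)))
    exact fun x hx => this hx
  have hE1 : E = ⊥ := by
    refine eq_bot_of_le_sup hV hB hc hEinv (B : Set G).toFinite.toFinset (by simp) ((closure_le _).mpr ?_)
    rintro _ ⟨b, hb, rfl⟩
    obtain ⟨e, he', w, hw, hew⟩ := mem_sup.mp (htop ▸ mem_top v : v ∈ E ⊔ C)
    refine Finset.le_sup (f := fun b => E.map (psi φ b)) ((Set.Finite.mem_toFinset _).mpr hb)
      (⟨e, he', ?_⟩ : d b ∈ E.map (psi φ b))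
    show φ b e * e⁻¹ = φ b v * v⁻¹
    rw [← hew, map_mul, hw b hb, mul_inv, mul_mul_mul_comm, mul_inv_cancel, mul_one]
  refine hne₀ ?_
  have : φ c₀ v * v⁻¹ = 1 := mem_bot.mp (hE1 ▸ (subset_closure ⟨c₀, hc₀, rfl⟩ : d c₀ ∈ E))
  rw [this, map_one]

end Cfsg.Agent.H47.TV
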