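import Mathlib
import Cfsg.Prelude.Def_SylowChains
import Cfsg.Agent.H47.AlperinGoldschmidt
import Cfsg.Agent.H62.StronglyEmbedded
import Cfsg.Agent.S3058
import Cfsg.Agent.Fusion.PResidual

/-!
The strong form of the conjugation theorem of Alperin and Goldschmidt: the subgroups may be taken with
`N(H)/H` not chain-connected, and the elements in `O^p` of the smallest normal subgroup over `H`.
-/

set_option autoImplicit false
set_option linter.style.haveILetI false
set_option linter.unusedSectionVars false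

namespace Cfsg.Agent.H47.StrongAG

open Subgroup
open Cfsg.Agent.Fusion Cfsg.Agent.H47.AGold

section Generation

variable {X : Type*} [Group X] [Finite X] {p : ℕ} [Fact p.Prime]

/-- In a chain-connected group the normalizers of the nontrivial subgroups of a Sylow subgroup
generate. -/
theorem closure_normalizers_eq_top (hc : Cfsg.IsSylowChainConnected p X) (S : Sylow p X)
    (hS : (S : Subgroup X) ≠ ⊥) :
    closure {g : X | ∃ R : Subgroup X, R ≠ ⊥ ∧ R ≤ (S : Subgroup X) ∧ g ∈ normalizer (R : Set X)} = ⊤ := by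
  set W := closure {g : X | ∃ R : Subgroup X, R ≠ ⊥ ∧ R ≤ (S : Subgroup X) ∧ g ∈ normalizer (R : Set X)} with hW
  have hgen : ∀ R : Subgroup X, R ≠ ⊥ → R ≤ (S : Subgroup X) → normalizer (R : Set X) ≤ W :=
    fun R hR hRS g hg => subset_closure ⟨R, hR, hRS, hg⟩
  have key : ∀ d : ℕ, ∀ B : Sylow p X, Nat.card S - Nat.card ↥((S : Subgroup X) ⊓ (B : Subgroup X)) = d →
      (S : Subgroup X) ⊓ (B : Subgroup X) ≠ ⊥ → ∃ v ∈ W, v • S = B := by
    intro d
    induction d using Nat.strong_induction_on with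
    | _ d ih =>
    intro B hd hne
    by_cases hBS : B = S
    · exact ⟨1, one_mem _, by rw [one_smul, hBS]⟩
    obtain ⟨R, hRdef⟩ : ∃ R, R = (S : Subgroup X) ⊓ (B : Subgroup X) := ⟨_, rfl⟩
    rw [← hRdef] at hd hne
    have hRlS : R < (S : Subgroup X) := by
      refine lt_of_le_of_ne (hRdef.le.trans inf_le_left) fun e => hBS ?_
      exact (Sylow.ext (S.is_maximal' B.isPGroup' (e.ge.trans (hRdef.le.trans inf_le_right))))
    have hRlB : R < (B : Subgroup X) := by
      refine lt_of_le_of_ne (hRdef.le.trans inf_le_right) fun e => hBS ?_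
      exact (Sylow.ext (B.is_maximal' S.isPGroup' (e.ge.trans (hRdef.le.trans inf_le_left)))).symm
    set N := normalizer (R : Set X) with hN
    -- a Sylow subgroup of the normalizer over the part of `S`, and one over the part of `B`
    obtain ⟨U, hU⟩ := ((S.isPGroup'.to_le inf_le_left).comap_subtype (K := N) :
      IsPGroup p (((S : Subgroup X) ⊓ N).subgroupOf N)).exists_le_sylow
    obtain ⟨U', hU'⟩ := ((B.isPGroup'.to_le inf_le_left).comap_subtype (K := N) :
      IsPGroup p (((B : Subgroup X) ⊓ N).subgroupOf N)).exists_le_sylow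
    obtain ⟨n, hn⟩ := MulAction.exists_smul_eq N U U'
    obtain ⟨S₁, hS₁⟩ := (U.isPGroup'.map N.subtype).exists_le_sylow
    have h1 : (S : Subgroup X) ⊓ N ≤ (S₁ : Subgroup X) := fun x hx =>
      hS₁ ⟨⟨x, hx.2⟩, hU hx, rfl⟩
    have hlt1 : R < (S : Subgroup X) ⊓ (S₁ : Subgroup X) :=
      (ofSubgroupInfLt _ S.isPGroup' hRlS).trans_le (le_inf inf_le_left h1)
    have hcard : ∀ K : Subgroup X, R < K → Nat.card R < Nat.card K := fun K hK =>
      lt_of_le_of_ne (card_le_of_le hK.le) fun he => hK.ne (eq_of_le_of_card_ge hK.le he.ge)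
    have hle1 : Nat.card ↥((S : Subgroup X) ⊓ (S₁ : Subgroup X)) ≤ Nat.card S := card_le_of_le inf_le_left
    obtain ⟨v, hv, hvS⟩ := ih _ (by have := hcard _ hlt1; omega) S₁ rfl fun e => not_lt_bot (e ▸ hlt1)
    have h2 : (B : Subgroup X) ⊓ N ≤ (((n : X) • S₁ : Sylow p X) : Subgroup X) := by
      intro x hx
      have hxU : (⟨x, hx.2⟩ : N) ∈ (n • U : Sylow p N) := hn ▸ hU' hx
      rw [mem_sylow_smul] at hxU
      refine mem_sylow_smul.mpr ?_
      exact hS₁ ⟨_, hxU, rfl⟩
    set B' := ((n : X) * v)⁻¹ • B with hB'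
    have hnW : (n : X) ∈ W := hgen R hne (hRdef.le.trans inf_le_left) n.2
    have h3 : ((B : Subgroup X) ⊓ N).map (MulAut.conj ((n : X) * v)⁻¹).toMonoidHom ≤
        (S : Subgroup X) ⊓ (B' : Subgroup X) := by
      refine le_inf ?_ ((map_mono inf_le_left).trans (sylow_smul_coe _ B).ge)
      rintro _ ⟨x, hx, rfl⟩
      have h4 := h2 hx
      rw [← hvS, ← mul_smul] at h4
      have h6 : ((n : X) * v)⁻¹ * x * ((n : X) * v) ∈ (S : Subgroup X) := mem_sylow_smul.mp h4
      simpa [mul_assoc] using h6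
    have hlt2 : Nat.card R < Nat.card ↥((S : Subgroup X) ⊓ (B' : Subgroup X)) := by
      refine lt_of_lt_of_le (hcard _ (ofSubgroupInfLt _ B.isPGroup' hRlB)) ?_
      rw [← card_map_of_injective (K := (B : Subgroup X) ⊓ N) (f := (MulAut.conj ((n : X) * v)⁻¹).toMonoidHom)
        (MulAut.conj ((n : X) * v)⁻¹).injective]
      exact card_le_of_le h3
    have hle2 : Nat.card ↥((S : Subgroup X) ⊓ (B' : Subgroup X)) ≤ Nat.card S := card_le_of_le inf_le_left
    obtain ⟨w, hw, hwS⟩ := ih _ (by omega) B' rfl fun e => by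
      rw [e, card_bot] at hlt2
      exact absurd hlt2 (not_lt.mpr Nat.card_pos)
    exact ⟨(n : X) * v * w, mul_mem (mul_mem hnW hv) hw, by rw [mul_smul, hwS, hB', smul_inv_smul]⟩
  have hall : ∀ T : Sylow p X, ∃ w ∈ W, w • S = T := by
    intro T
    have hU := (H62.connected_iff_reach.mp hc) S T
    induction hU with
    | refl => exact ⟨1, one_mem _, one_smul _ _⟩
    | @tail A B _ hstep ih =>
      obtain ⟨w, hw, hwA⟩ := ih
      have hadj := H62.sylowAdj_smul hstep w⁻¹
      rw [← hwA, inv_smul_smul] at hadj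
      obtain ⟨v, hv, hvB⟩ := key _ (w⁻¹ • B) rfl hadj.2
      exact ⟨w * v, mul_mem hw hv, by rw [mul_smul, hvB, smul_inv_smul]⟩
  rw [eq_top_iff]
  intro g _
  obtain ⟨w, hw, hwS⟩ := hall (g • S)
  have h : w⁻¹ * g ∈ normalizer ((S : Subgroup X) : Set X) :=
    Sylow.smul_eq_iff_mem_normalizer.mp (by rw [mul_smul, ← hwS, inv_smul_smul])
  have := mul_mem hw (hgen _ hS le_rfl h)
  rwa [mul_inv_cancel_left] at this

/-- A group with the chain condition failing has a smallest normal subgroup of order divisible by `p`. -/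
theorem exists_least_normal (hc : ¬ Cfsg.IsSylowChainConnected p X) (hdiv : p ∣ Nat.card X) :
    ∃ M : Subgroup X, M.Normal ∧ p ∣ Nat.card M ∧
      ∀ K : Subgroup X, K.Normal → p ∣ Nat.card K → M ≤ K := by
  obtain ⟨M, hM⟩ := (Set.toFinite {M : Subgroup X | M.Normal ∧ p ∣ Nat.card M}).exists_minimal
    ⟨⊤, inferInstance, by rwa [card_top]⟩
  refine ⟨M, hM.prop.1, hM.prop.2, fun K hK hKp => ?_⟩
  haveI := hM.prop.1
  haveI := hK
  have h := hM.le_of_le (y := M ⊓ K) ⟨inferInstance, S3058.result p hc M K hM.prop.2 hKp⟩ inf_le_left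
  exact h.trans inf_le_right

theorem connected_congr {Y : Type*} [Group Y] [Finite Y] (e : X ≃* Y)
    (h : Cfsg.IsSylowChainConnected p Y) : Cfsg.IsSylowChainConnected p X := by
  by_contra hX
  obtain ⟨H, hH, hpH, hse⟩ := H62.exists_SE_of_not_connected hX
  refine H62.not_connected_of_SE (H := H.map e.toMonoidHom) (fun he => hH ?_) ?_ ?_ h
  · exact map_injective e.injective (he.trans (map_top_of_surjective _ e.surjective).symm)
  · rwa [card_map_of_injective e.injective]
  · intro g hg hd
    obtain ⟨g, rfl⟩ := e.surjective g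
    refine hse g (fun hgH => hg ⟨g, hgH, rfl⟩) ?_
    have he : H.map e.toMonoidHom ⊓ (H.map e.toMonoidHom).map (MulAut.conj (e g)).toMonoidHom =
        (H ⊓ H.map (MulAut.conj g).toMonoidHom).map e.toMonoidHom := by
      rw [map_inf_eq _ _ _ e.injective]
      congr 1
      rw [map_map, map_map]
      congr 1
      ext x
      simp [MulAut.conj_apply]
    rwa [he, card_map_of_injective e.injective] at hd

end Generation

variable {G : Type*} [Group G] {p : ℕ}

/-- `X` is the smallest subgroup over `H`, normal in `N(H)`, with `p` dividing the index of `H`. -/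
structure Residue (p : ℕ) (H X : Subgroup G) : Prop where
  ge : H ≤ X
  le_norm : X ≤ normalizer (H : Set G)
  normal : (X.subgroupOf (normalizer (H : Set G))).Normal
  dvd : p ∣ H.relIndex X
  least : ∀ Y : Subgroup G, H ≤ Y → Y ≤ normalizer (H : Set G) →
    (Y.subgroupOf (normalizer (H : Set G))).Normal → p ∣ H.relIndex Y → X ≤ Y

/-- The data attached to a single move of the strong form. -/
structure Move (P : Sylow p G) (H : Subgroup G) (x : G) : Prop where
  le : H ≤ (P : Subgroup G)
  sylow : ¬ p ∣ ((P : Subgroup G) ⊓ normalizer (H : Set G)).relIndex (normalizer (H : Set G))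
  cent : (P : Subgroup G) ⊓ centralizer (H : Set G) ≤ H
  core : (Cfsg.pPrimePCore p ↥(normalizer (H : Set G))).map (normalizer (H : Set G)).subtype =
    H ⊔ centralizer (H : Set G)
  disc : ¬ Cfsg.IsSylowChainConnected p
    (↥(normalizer (H : Set G)) ⧸ H.subgroupOf (normalizer (H : Set G)))
  res : ∃ X : Subgroup G, Residue p H X ∧ x ∈ (Cfsg.pResidual p ↥X).map X.subtype

/-- Chains of moves, followed by an element of the normalizer of `P`. -/
inductive SConn (P : Sylow p G) : Set G → G → Prop where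
  | fin (A : Set G) (c y : G) (hc : c ∈ centralizer A)
      (hy : y ∈ normalizer ((P : Subgroup G) : Set G)) : SConn P A (c * y)
  | step (A : Set G) (g x : G) (H : Subgroup G) (hH : Move P H x) (hA : A ⊆ (H : Set G))
      (h : SConn P ((fun a => x⁻¹ * a * x) '' A) g) : SConn P A (x * g)

variable {P : Sylow p G}

theorem SConn.mono {A B : Set G} {g : G} (h : SConn P A g) (hBA : B ⊆ A) : SConn P B g := by
  induction h generalizing B with
  | fin A c y hc hy => exact SConn.fin B c y (centralizer_le hBA hc) hy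
  | step A g x H hH hA _ ih =>
    exact SConn.step B g x H hH (hBA.trans hA) (ih (Set.image_mono hBA))

theorem SConn.cent_mul {A : Set G} {c g : G} (hc : c ∈ centralizer A) (h : SConn P A g) :
    SConn P A (c * g) := by
  induction h generalizing c with
  | fin A c' y hc' hy =>
    rw [← mul_assoc]
    exact SConn.fin A _ y (mul_mem hc hc') hy
  | step A g x H hH hA _ ih =>
    rw [show c * (x * g) = x * ((x⁻¹ * c * x) * g) by group]
    exact SConn.step A _ x H hH hA (ih (conj_mem_centralizer_image hc))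

theorem SConn.exists_fin {A : Set G} {g : G} (h : SConn P A g) :
    ∃ (n : ℕ) (H : Fin n → Subgroup G) (x : Fin n → G) (c y : G),
      c ∈ centralizer A ∧ y ∈ normalizer ((P : Subgroup G) : Set G) ∧
      g = c * (List.ofFn x).prod * y ∧
      ∀ i : Fin n, Move P (H i) (x i) ∧
        (fun a => (((List.ofFn x).take i.val).prod)⁻¹ * a * ((List.ofFn x).take i.val).prod) '' A ⊆
          ((H i : Subgroup G) : Set G) := by
  induction h with
  | fin A c y hc hy =>
    exact ⟨0, Fin.elim0, Fin.elim0, c, y, hc, hy, by simp, fun i => i.elim0⟩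
  | step A g x H hH hA _ ih =>
    obtain ⟨n, H', x', c, y, hc, hy, hg, h2⟩ := ih
    refine ⟨n + 1, Fin.cons H H', Fin.cons x x', x * c * x⁻¹, y, ?_, hy, ?_, ?_⟩
    · rw [Subgroup.mem_centralizer_iff]
      intro a ha
      have h3 := Subgroup.mem_centralizer_iff.mp hc (x⁻¹ * a * x) ⟨a, ha, rfl⟩
      calc a * (x * c * x⁻¹) = x * (x⁻¹ * a * x * c) * x⁻¹ := by group
        _ = x * (c * (x⁻¹ * a * x)) * x⁻¹ := by rw [h3]
        _ = _ := by group
    · rw [List.ofFn_succ]
      simp only [Fin.cons_zero, Fin.cons_succ, List.prod_cons]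
      rw [hg]
      group
    · refine Fin.cases ?_ ?_
      · simpa using ⟨hH, hA⟩
      · intro i
        refine ⟨by simpa using (h2 i).1, ?_⟩
        have := (h2 i).2
        rw [Set.image_image] at this
        simpa [List.ofFn_succ, mul_assoc] using this

variable [Finite G] [hp : Fact p.Prime]

theorem Residue.map {H X : Subgroup G} (h : Residue p H X) (φ : G ≃* G) :
    Residue p (H.map φ.toMonoidHom) (X.map φ.toMonoidHom) := by
  have hn : normalizer ((H.map φ.toMonoidHom : Subgroup G) : Set G) =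
      (normalizer (H : Set G)).map φ.toMonoidHom := (map_equiv_normalizer_eq H φ).symm
  have hconj : ∀ K : Subgroup G, (K.subgroupOf (normalizer (H : Set G))).Normal →
      ((K.map φ.toMonoidHom).subgroupOf ((normalizer (H : Set G)).map φ.toMonoidHom)).Normal := by
    refine fun K hK => ⟨?_⟩
    rintro ⟨_, a, ha, rfl⟩ ⟨b, hb, hba⟩ ⟨_, g, hg, rfl⟩
    obtain rfl : b = a := φ.injective hba
    exact ⟨g * b * g⁻¹, hK.conj_mem ⟨b, ha⟩ hb ⟨g, hg⟩,
      ((map_mul φ.toMonoidHom _ _).trans (by rw [map_mul, map_inv]; rfl))⟩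
  refine ⟨map_mono h.ge, ?_, ?_, ?_, fun Y hY hYN hYn hYd => ?_⟩
  · rw [hn]; exact map_mono h.le_norm
  · rw [hn]; exact hconj X h.normal
  · rw [relIndex_map_map_of_injective _ _ φ.injective]; exact h.dvd
  · have e : (Y.comap φ.toMonoidHom).map φ.toMonoidHom = Y :=
      map_comap_eq_self_of_surjective φ.surjective Y
    rw [← e] at hY hYd hYN hYn ⊢
    rw [relIndex_map_map_of_injective _ _ φ.injective] at hYd
    rw [hn] at hYN hYn
    refine map_mono (h.least _ ((map_le_map_iff_of_injective φ.injective).mp hY)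
      ((map_le_map_iff_of_injective φ.injective).mp hYN) ⟨fun a ha g => ?_⟩ hYd)
    have := hYn.conj_mem ⟨φ a, mem_map_of_mem _ a.2⟩ ⟨(a : G), ha, rfl⟩ ⟨φ g, mem_map_of_mem _ g.2⟩
    obtain ⟨b, hb, hba⟩ := this
    have hb' : b = (g : G) * a * (g : G)⁻¹ := φ.injective (hba.trans (by
      simp only [map_mul, map_inv]; rfl))
    show (g : G) * a * (g : G)⁻¹ ∈ Y.comap φ.toMonoidHom
    rw [← hb']
    exact hb

theorem Move.map {H : Subgroup G} {x : G} (h : Move P H x) (φ : G ≃* G)
    (hP : (P : Subgroup G).map φ.toMonoidHom = P) : Move P (H.map φ.toMonoidHom) (φ x) := by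
  set N := normalizer (H : Set G) with hN
  set N' := normalizer ((H.map φ.toMonoidHom : Subgroup G) : Set G) with hN'
  have hn : N' = N.map φ.toMonoidHom := (map_equiv_normalizer_eq H φ).symm
  let e : ↥N ≃* ↥N' := (φ.subgroupMap N).trans (MulEquiv.subgroupCongr hn.symm)
  have he : ∀ a : N, ((e a : N') : G) = φ (a : G) := fun a => rfl
  have hcent : centralizer ((H.map φ.toMonoidHom : Subgroup G) : Set G) =
      (centralizer (H : Set G)).map φ.toMonoidHom := by
    ext a
    obtain ⟨a, rfl⟩ := φ.surjective a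
    rw [show φ a ∈ (centralizer (H : Set G)).map φ.toMonoidHom ↔ a ∈ centralizer (H : Set G) from
      mem_map_iff_mem φ.injective]
    simp only [Subgroup.mem_centralizer_iff, Subgroup.coe_map, Set.forall_mem_image]
    exact forall₂_congr fun b _ => by
      rw [show φ.toMonoidHom b = φ b from rfl, ← map_mul, ← map_mul]
      exact φ.injective.eq_iff
  obtain ⟨X, hX, hxX⟩ := h.res
  refine ⟨hP ▸ map_mono h.le, ?_, ?_, ?_, fun hc => h.disc ?_, X.map φ.toMonoidHom, hX.map φ, ?_⟩
  · rw [← hN', hn]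
    nth_rewrite 1 [← hP]
    rw [← map_inf_eq _ _ _ φ.injective, relIndex_map_map_of_injective _ _ φ.injective]
    exact h.sylow
  · rw [hcent]
    nth_rewrite 1 [← hP]
    rw [← map_inf_eq _ _ _ φ.injective]
    exact map_mono h.cent
  · rw [hcent, ← Subgroup.map_sup, ← h.core, map_map]
    have he' : (Cfsg.pPrimePCore p ↥N).map e.toMonoidHom = Cfsg.pPrimePCore p ↥N' := by
      refine le_antisymm (Cores.pPrimePCore_map_le e.surjective) fun a ha => ?_
      have := Cores.pPrimePCore_map_le (p := p) (f := e.symm.toMonoidHom) e.symm.surjective ⟨a, ha, rfl⟩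
      exact ⟨_, this, e.apply_symm_apply a⟩
    rw [← hN', ← he', map_map]
    exact congrArg (fun f => (Cfsg.pPrimePCore p ↥N).map f) (MonoidHom.ext he)
  · haveI hi : Finite (↥N' ⧸ (H.map φ.toMonoidHom).subgroupOf N') := inferInstance
    refine connected_congr (QuotientGroup.congr _ _ e ?_) hc
    ext a
    obtain ⟨a, rfl⟩ := e.surjective a
    constructor
    · rintro ⟨b, hb, hba⟩
      obtain rfl := e.injective hba
      exact mem_map_of_mem φ.toMonoidHom hb
    · rintro ⟨b, hb, hba⟩
      refine ⟨a, ?_, rfl⟩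
      obtain rfl : b = (a : G) := φ.injective hba
      exact hb
  · obtain ⟨a, ha, rfl⟩ := hxX
    exact ⟨φ.subgroupMap X a, map_pResidual_le (φ.subgroupMap X).toMonoidHom ⟨a, ha, rfl⟩, rfl⟩

theorem SConn.norm_mul {A : Set G} {y g : G} (hy : y ∈ normalizer ((P : Subgroup G) : Set G))
    (h : SConn P ((fun a => y⁻¹ * a * y) '' A) g) : SConn P A (y * g) := by
  generalize hB : (fun a => y⁻¹ * a * y) '' A = B at h
  induction h generalizing A y with
  | fin B c y' hc hy' =>
    rw [show y * (c * y') = (y * c * y⁻¹) * (y * y') by group]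
    refine SConn.fin A _ _ (Subgroup.mem_centralizer_iff.mpr fun a ha => ?_) (mul_mem hy hy')
    have h3 := Subgroup.mem_centralizer_iff.mp hc _ (hB ▸ ⟨a, ha, rfl⟩ : y⁻¹ * a * y ∈ B)
    calc a * (y * c * y⁻¹) = y * (y⁻¹ * a * y * c) * y⁻¹ := by group
      _ = y * (c * (y⁻¹ * a * y)) * y⁻¹ := by rw [h3]
      _ = _ := by group
  | step B g x H hH hA _ ih =>
    have hP : (P : Subgroup G).map (MulAut.conj y).toMonoidHom = P := by
      have := congrArg (fun Q : Sylow p G => (Q : Subgroup G)) (Sylow.smul_eq_iff_mem_normalizer.mpr hy)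
      rwa [sylow_smul_coe] at this
    rw [show y * (x * g) = (y * x * y⁻¹) * (y * g) by group]
    refine SConn.step A _ _ _ (hH.map (MulAut.conj y) hP) (fun a ha => ?_) (ih hy ?_)
    · exact ⟨y⁻¹ * a * y, hA (hB ▸ ⟨a, ha, rfl⟩), by simp [MulAut.conj_apply, mul_assoc]⟩
    · rw [← hB, Set.image_image, Set.image_image]
      congr 1
      funext a
      simp [mul_assoc]

theorem SConn.trans {A : Set G} {g h : G} (h₁ : SConn P A g)
    (h₂ : SConn P ((fun a => g⁻¹ * a * g) '' A) h) : SConn P A (g * h) := by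
  induction h₁ with
  | fin A c y hc hy =>
    rw [mul_assoc]
    refine SConn.cent_mul hc (SConn.norm_mul hy (h₂.mono ?_))
    rintro _ ⟨a, ha, rfl⟩
    refine ⟨a, ha, ?_⟩
    show (c * y)⁻¹ * a * (c * y) = _
    rw [show (c * y)⁻¹ * a * (c * y) = y⁻¹ * (c⁻¹ * (a * c)) * y by group,
      Subgroup.mem_centralizer_iff.mp hc a ha, inv_mul_cancel_left]
  | step A g x H hH hA _ ih =>
    rw [mul_assoc]
    refine SConn.step A _ x H hH hA (ih ?_)
    rw [Set.image_image]
    have he : (fun a => g⁻¹ * (x⁻¹ * a * x) * g) = fun a => (x * g)⁻¹ * a * (x * g) := by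
      funext a; group
    rw [he]
    exact h₂

theorem SConn.one (P : Sylow p G) (A : Set G) : SConn P A 1 := by
  simpa using SConn.fin (P := P) A 1 1 (one_mem _) (one_mem _)

theorem conj_image_eq {D : Subgroup G} {x : G} (hx : x ∈ normalizer (D : Set G)) :
    (fun a => x⁻¹ * a * x) '' (D : Set G) = (D : Set G) := by
  refine Set.Subset.antisymm ?_ fun a ha => ⟨x * a * x⁻¹, (mem_normalizer_iff.mp hx a).mp ha, by group⟩
  rintro _ ⟨a, ha, rfl⟩
  exact (mem_normalizer_iff''.mp hx a).mp ha

theorem sconn_of_gconn {m : ℕ}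
    (IH : ∀ D : Subgroup G, GoodD P D → m ≤ Nat.card D → ∀ x ∈ normalizer (D : Set G),
      SConn P (D : Set G) x)
    {A : Set G} {g : G} (h : GConn P A g) (hm : m ≤ Nat.card A) : SConn P A g := by
  induction h with
  | cent A c hc => simpa using SConn.fin (P := P) A c 1 hc (one_mem _)
  | step A g x D hD hA hx _ ih =>
    have hcard : Nat.card ↑((fun a => x⁻¹ * a * x) '' A) = Nat.card A :=
      Nat.card_image_of_injective (fun a b hab => mul_left_cancel (mul_right_cancel hab)) A
    exact ((IH D hD (hm.trans (Nat.card_mono (Set.toFinite _) hA)) x hx).mono hA).trans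
      (ih (hcard.ge.trans' hm))

/-- Every element of the normalizer of a good subgroup is a chain of moves. -/
theorem sconn_of_mem_normalizer (d : ℕ) : ∀ D : Subgroup G, GoodD P D →
    Nat.card P - Nat.card D = d → ∀ x ∈ normalizer (D : Set G), SConn P (D : Set G) x := by
  induction d using Nat.strong_induction_on with
  | _ d ih =>
  intro D hD hd x hx
  rcases eq_or_lt_of_le hD.le with hDP | hDP
  · simpa using SConn.fin (P := P) (D : Set G) 1 x (one_mem _) (by rw [← hDP]; exact hx)
  set N := normalizer (D : Set G) with hN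
  have big : ∀ R : Subgroup G, D < R → R ≤ (P : Subgroup G) → ∀ y ∈ normalizer (R : Set G),
      SConn P (D : Set G) y := by
    intro R hR hRP y hy
    have hlt : Nat.card D < Nat.card R :=
      lt_of_le_of_ne (card_le_of_le hR.le) fun he => hR.ne (eq_of_le_of_card_ge hR.le he.ge)
    refine SConn.mono ?_ (SetLike.coe_subset_coe.mpr hR.le)
    refine sconn_of_gconn (m := Nat.card R) (fun D' hD' hm x' hx' => ?_)
      (AGold.gconn (P := P) (A := (R : Set G)) (g := y) hRP (by rw [conj_image_eq hy]; exact hRP)) le_rfl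
    have := card_le_of_le hD'.le
    exact ih _ (by omega) D' hD' rfl x' hx'
  set D' := D.subgroupOf N with hD'
  haveI hD'n : D'.Normal := Subgroup.normal_subgroupOf_of_le_normalizer le_rfl
  obtain ⟨S, hSdef⟩ : ∃ S : Sylow p ↥N, (S : Subgroup ↥N) = (P : Subgroup G).subgroupOf N :=
    ⟨(IsPGroup.comap_subtype (P.isPGroup') (K := N)).toSylow (fun hdiv => hD.sylow (by
      rwa [Subgroup.inf_relIndex_right])), rfl⟩
  have hD'S : D' ≤ (S : Subgroup ↥N) := by rw [hSdef]; exact fun a ha => hD.le ha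
  have hup : ∀ R' : Subgroup ↥N, D' < R' → R' ≤ (S : Subgroup ↥N) →
      D < R'.map N.subtype ∧ R'.map N.subtype ≤ (P : Subgroup G) := by
    intro R' h1 h2
    refine ⟨?_, ?_⟩
    · conv_lhs => rw [← map_subgroupOf_eq_of_le (le_normalizer : D ≤ N)]
      exact lt_of_le_of_ne (map_mono h1.le) fun he => h1.ne (map_injective N.subtype_injective he)
    · rintro _ ⟨r, hr, rfl⟩
      exact (hSdef ▸ h2 hr : r ∈ (P : Subgroup G).subgroupOf N)
  have bigN : ∀ R' : Subgroup ↥N, D' < R' → R' ≤ (S : Subgroup ↥N) → ∀ a : ↥N,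
      a ∈ normalizer (R' : Set ↥N) → SConn P (D : Set G) (a : G) := by
    intro R' h1 h2 a ha
    exact big _ (hup R' h1 h2).1 (hup R' h1 h2).2 _ (le_normalizer_map N.subtype ⟨a, ha, rfl⟩)
  have hlt : D' < (S : Subgroup ↥N) := by
    refine lt_of_le_of_ne hD'S fun he => ?_
    obtain ⟨a, haP, haN, haD⟩ : ∃ a, a ∈ (P : Subgroup G) ∧ a ∈ N ∧ a ∉ D := by
      obtain ⟨a, ha, ha'⟩ := SetLike.exists_of_lt (ofSubgroupInfLt _ P.isPGroup' hDP)
      exact ⟨a, ha.1, ha.2, ha'⟩
    exact haD (he ▸ (hSdef ▸ haP : (⟨a, haN⟩ : ↥N) ∈ (S : Subgroup ↥N)) : (⟨a, haN⟩ : ↥N) ∈ D')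
  -- elements of `N` which are chains of moves form a subgroup
  have hmul : ∀ a b : ↥N, SConn P (D : Set G) a → SConn P (D : Set G) b →
      SConn P (D : Set G) ((a * b : ↥N) : G) := fun a b ha hb =>
    ha.trans (by rw [conj_image_eq a.2]; exact hb)
  let K : Subgroup ↥N :=
    { carrier := {a | SConn P (D : Set G) (a : G)}
      one_mem' := SConn.one P _
      mul_mem' := fun {a b} => hmul a b
      inv_mem' := fun {a} ha => by
        obtain ⟨k, hk⟩ : a⁻¹ ∈ Submonoid.powers a := by
          rw [mem_powers_iff_mem_zpowers]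
          exact inv_mem (mem_zpowers a)
        show SConn P (D : Set G) ((a⁻¹ : ↥N) : G)
        rw [← hk]
        show SConn P (D : Set G) ((a ^ k : ↥N) : G)
        clear hk
        induction k with
        | zero => simpa using SConn.one P (D : Set G)
        | succ k ihk =>
          rw [pow_succ]
          exact hmul _ _ ihk ha }
  let π := QuotientGroup.mk' D'
  have hπ : Function.Surjective π := QuotientGroup.mk'_surjective _
  have hker : π.ker = D' := QuotientGroup.ker_mk' _
  by_cases hc : Cfsg.IsSylowChainConnected p (↥N ⧸ D')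
  · suffices K = ⊤ from (this ▸ mem_top (⟨x, hx⟩ : ↥N) : (⟨x, hx⟩ : ↥N) ∈ K)
    have hD'K : D' ≤ K := fun a ha =>
      bigN _ hlt le_rfl a (le_normalizer (hD'S ha))
    let Sb : Sylow p (↥N ⧸ D') := S.mapSurjective hπ
    have hSb : ∀ a : ↥N, π a ∈ (Sb : Subgroup (↥N ⧸ D')) → a ∈ (S : Subgroup ↥N) := by
      rintro a ⟨s, hs, hsa⟩
      have h1 : s⁻¹ * a ∈ D' := QuotientGroup.eq.mp hsa
      have := mul_mem hs (hD'S h1)
      rwa [mul_inv_cancel_left] at this
    have hSne : (Sb : Subgroup (↥N ⧸ D')) ≠ ⊥ := by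
      intro he
      obtain ⟨a, ha, haD⟩ := SetLike.exists_of_lt hlt
      have h1 : π a ∈ (Sb : Subgroup (↥N ⧸ D')) := ⟨a, ha, rfl⟩
      rw [he, mem_bot] at h1
      exact haD ((QuotientGroup.eq_one_iff a).mp h1)
    have h := closure_normalizers_eq_top hc Sb hSne
    have h2 : (⊤ : Subgroup (↥N ⧸ D')) ≤ K.map π := by
      rw [← h, closure_le]
      rintro g ⟨R, hR, hRS, hg⟩
      obtain ⟨a, rfl⟩ := hπ g
      refine ⟨a, bigN (R.comap π) ?_ (fun b hb => hSb b (hRS hb)) a ?_, rfl⟩
      · refine lt_of_le_of_ne (hker.symm.le.trans (ker_le_comap π R)) fun he => hR ?_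
        rw [← map_comap_eq_self_of_surjective hπ R, ← he, Subgroup.map_eq_bot_iff, hker]
      · exact mem_normalizer_iff.mpr fun b => by
          simp only [mem_comap, map_mul, map_inv]
          exact mem_normalizer_iff.mp hg (π b)
    rw [eq_top_iff]
    intro a _
    obtain ⟨b, hb, hba⟩ := h2 (mem_top (π a))
    have := mul_mem hb (hD'K (QuotientGroup.eq.mp hba : b⁻¹ * a ∈ D'))
    rwa [mul_inv_cancel_left] at this
  · have hdivN : p ∣ Nat.card (↥N ⧸ D') := by
      have h1 := hlt.not_ge
      rw [← relIndex_eq_one] at h1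
      rcases (S.isPGroup'.index (D'.subgroupOf S)) with ⟨k, hk⟩
      have hk0 : k ≠ 0 := fun h0 => h1 (by rw [relIndex, hk, h0, pow_zero])
      refine ((dvd_pow_self p hk0).trans (hk.symm.dvd)).trans ?_
      show D'.relIndex S ∣ D'.index
      exact ⟨(S : Subgroup ↥N).index, (relIndex_mul_index hD'S).symm⟩
    obtain ⟨M, hMn, hMp, hMl⟩ := exists_least_normal hc hdivN
    set X' := M.comap π with hX'
    haveI : X'.Normal := hMn.comap π
    have hDX : D' ≤ X' := hker.symm.le.trans (ker_le_comap π M)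
    have hrel : ∀ Y : Subgroup ↥N, D'.relIndex Y = Nat.card (Y.map π) := fun Y => by
      have h1 := relIndex_ker (f := π) Y
      rwa [hker] at h1
    have hres : Residue p D (X'.map N.subtype) := by
      refine ⟨fun a ha => ⟨⟨a, le_normalizer ha⟩, hDX ha, rfl⟩, map_subtype_le X', ?_, ?_,
        fun Y hY hYN hYn hYd => ?_⟩
      · rw [subgroupOf, comap_map_eq_self_of_injective N.subtype_injective]
        infer_instance
      · rw [← relIndex_subgroupOf (map_subtype_le X'), subgroupOf, subgroupOf,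
          comap_map_eq_self_of_injective N.subtype_injective, ← subgroupOf, ← hD', hrel,
          map_comap_eq_self_of_surjective hπ]
        exact hMp
      · rw [← relIndex_subgroupOf hYN, hrel] at hYd
        have hle : M ≤ (Y.subgroupOf N).map π := hMl _ (hYn.map π hπ) hYd
        rintro _ ⟨a, ha, rfl⟩
        obtain ⟨b, hb, hba⟩ := hle ha
        have := Y.mul_mem hb (hY (QuotientGroup.eq.mp hba : b⁻¹ * a ∈ D'))
        simpa using this
    have hmove : ∀ o : G, o ∈ (Cfsg.pResidual p ↥(X'.map N.subtype)).map (X'.map N.subtype).subtype →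
        Move P D o := by
      intro o ho
      have hdirect := hD.direct
      set O := (Cfsg.pPrimeCore p ↥N).map N.subtype with hOdef
      set M2 := (Cfsg.pPrimePCore p ↥N).map N.subtype with hM2def
      have hOC : O ≤ centralizer (D : Set G) := fun o ho => Subgroup.mem_centralizer_iff.mpr fun d hd =>
        (hdirect.2.2.1 o ho d hd).symm
      refine ⟨hD.le, hD.sylow, ?_, ?_, hc, _, hres, ho⟩
      · rintro a ⟨haP, haC⟩
        obtain ⟨a', ha', rfl⟩ := hD.cent haC
        have haS : a' ∈ (S : Subgroup ↥N) := hSdef ▸ haP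
        by_contra haD
        have h1 : M2 = O ⊔ D := hdirect.2.2.2.2.symm
        have h2 : (a' : G) ∈ O ⊔ D := h1 ▸ ⟨a', ha', rfl⟩
        obtain ⟨o, ho, b, hb, hob⟩ := (Coprime.mem_sup_iff
          ((le_normalizer (H := D)).trans (fun n hn => le_normalizer_map N.subtype
            ⟨⟨n, hn⟩, by rw [normalizer_eq_top]; exact mem_top _, rfl⟩))).mp h2
        obtain ⟨o', ho', rfl⟩ := ho
        have ho'S : o' ∈ (S : Subgroup ↥N) := by
          have : o' = a' * (⟨b, le_normalizer hb⟩ : ↥N)⁻¹ := by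
            apply Subtype.ext
            push_cast
            rw [← hob]
            exact (mul_inv_cancel_right _ _).symm
          rw [this]
          exact mul_mem haS (inv_mem (hD'S (show (⟨b, le_normalizer hb⟩ : ↥N) ∈ D' from hb)))
        have : o' = 1 := by
          have h3 := Cores.disjoint_of_isPGroup_of_coprime S.isPGroup'
            (Cores.coprime_card_pPrimeCore (p := p) (G := ↥N))
          exact mem_bot.mp (h3 ▸ ⟨ho'S, ho'⟩)
        rw [this] at hob
        apply haD
        show (a' : G) ∈ D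
        rw [← hob]
        simpa using hb
      · refine le_antisymm (hdirect.2.2.2.2.ge.trans (sup_le (hOC.trans le_sup_right) le_sup_left))
          (sup_le hdirect.2.1 hD.cent)
    -- the Frattini argument
    have hidx : ¬ p ∣ ((S : Subgroup ↥N) ⊓ X').relIndex X' := by
      rw [Subgroup.inf_relIndex_right]
      exact fun hdiv => S.not_dvd_index
        (hdiv.trans (H77.relIndex_dvd_index_of_subnormal ‹X'.Normal›.isSubnormal _))
    set T := (S : Subgroup ↥N) ⊓ X' with hT
    let SX : Sylow p ↥X' := (IsPGroup.comap_subtype (S.isPGroup'.to_le inf_le_left)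
      (K := X')).toSylow hidx
    have hSX : (SX : Subgroup ↥X').map X'.subtype = T := map_subgroupOf_eq_of_le inf_le_right
    have hDT : D' < T := by
      refine lt_of_le_of_ne (le_inf hD'S hDX) fun he => hidx ?_
      rw [← he, hrel, map_comap_eq_self_of_surjective hπ]
      exact hMp
    have hfr : normalizer (T : Set ↥N) ⊔ X' = ⊤ := hSX ▸ Sylow.normalizer_sup_eq_top SX
    obtain ⟨m, hm, n, hn, hmn⟩ := mem_sup_of_normal_left.mp
      (by rw [sup_comm, hfr]; exact mem_top _ : (⟨x, hx⟩ : ↥N) ∈ X' ⊔ normalizer (T : Set ↥N))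
    obtain ⟨o, ho, r, hr, hor⟩ := mem_sup_of_normal_left.mp
      (by rw [sup_comm, sylow_sup_eq_top SX le_rfl]; exact mem_top _ :
        (⟨m, hm⟩ : ↥X') ∈ Cfsg.pResidual p ↥X' ⊔ (SX : Subgroup ↥X'))
    let f : ↥X' →* ↥(X'.map N.subtype) := (X'.equivMapOfInjective _ N.subtype_injective).toMonoidHom
    have hrn : SConn P (D : Set G) ((((r : ↥N) * n : ↥N)) : G) :=
      bigN T hDT inf_le_left _ (mul_mem (le_normalizer (hSX ▸ ⟨r, hr, rfl⟩)) hn)
    have hxe : x = ((o : ↥N) : G) * ((((r : ↥N) * n : ↥N)) : G) := by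
      have h1 : (⟨x, hx⟩ : ↥N) = (o : ↥N) * ((r : ↥N) * n) := by
        rw [← mul_assoc, ← hmn]
        exact congrArg (· * n) (congrArg Subtype.val hor.symm)
      exact congrArg Subtype.val h1
    rw [hxe]
    refine SConn.step _ _ _ D (hmove _ ⟨f o, map_pResidual_le f ⟨o, ho, rfl⟩, rfl⟩) Set.Subset.rfl ?_
    rw [conj_image_eq (o : ↥N).2]
    exact hrn

/-- The strong conjugation theorem. -/
theorem sconn {A : Set G} {g : G} (hA : A ⊆ (P : Set G))
    (hAg : (fun a => g⁻¹ * a * g) '' A ⊆ (P : Set G)) : SConn P A g :=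
  sconn_of_gconn (m := 0) (fun D hD _ x hx => sconn_of_mem_normalizer _ D hD rfl x hx)
    (AGold.gconn hA hAg) (Nat.zero_le _)

end Cfsg.Agent.H47.StrongAG
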