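import Mathlib

/-!
# Fixed points of Sylow subgroups of transitive groups generated by p-elements

For a transitive group generated by its p-elements on `n > 1` points, a Sylow p-subgroup fixes
at most `(p-1)/(2p-1)` of the points.

`wt P a` is `0` for a point fixed by the group, `-p` for a moved point fixed by `P`, and `p-1`
otherwise; the claim is that the total weight is non-negative.
-/

set_option linter.unusedSectionVars false

namespace Cfsg.Agent.H47.SylFix

open scoped Classical

universe u

variable (p : ℕ) [Fact p.Prime]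

/-- `p`-element. -/
def IsPEl {G : Type*} [Group G] (g : G) : Prop := ∃ k : ℕ, orderOf g = p ^ k

/-- Generated by `p`-elements. -/
def GenP (G : Type*) [Group G] : Prop := Subgroup.closure {g : G | IsPEl p g} = ⊤

/-- The subgroup generated by the `p`-elements fixing `a`. -/
def qFix (G : Type*) [Group G] {X : Type*} [MulAction G X] (a : X) : Subgroup G :=
  Subgroup.closure {g : G | IsPEl p g ∧ g • a = a}

/-- Moved point. -/
def Moved (G : Type*) [Group G] {X : Type*} [MulAction G X] (a : X) : Prop := ∃ g : G, g • a ≠ a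

/-- The point is fixed by the Sylow subgroup. -/
def PFix {G : Type*} [Group G] {X : Type*} [MulAction G X] (P : Sylow p G) (a : X) : Prop :=
  ∀ g ∈ (P : Subgroup G), g • a = a

/-- Weight of a point. -/
noncomputable def wt {G : Type*} [Group G] {X : Type*} [MulAction G X] (P : Sylow p G) (a : X) :
    ℤ :=
  if Moved G a then (if PFix p P a then -(p : ℤ) else (p : ℤ) - 1) else 0

/-- Total weight. -/
noncomputable def tot {G : Type*} [Group G] (X : Type*) [Fintype X] [MulAction G X]
    (P : Sylow p G) : ℤ :=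
  ∑ a : X, wt p P a

/-- The bound for transitive actions on fewer than `N` points. -/
def Bnd (N : ℕ) : Prop :=
  ∀ (G : Type u) [Group G] [Finite G] (X : Type u) [Fintype X] [MulAction G X]
    [MulAction.IsPretransitive G X], GenP p G → Nat.card X < N → ∀ P : Sylow p G, 0 ≤ tot p X P

variable {p}

section basics

variable {G : Type*} [Group G] {X : Type*} [MulAction G X]

theorem isPEl_of_mem {P : Sylow p G} {g : G} (hg : g ∈ (P : Subgroup G)) : IsPEl p g := by
  obtain ⟨k, hk⟩ := P.2 ⟨g, hg⟩
  have hk' : g ^ (p ^ k) = 1 := by simpa using congrArg Subtype.val hk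
  obtain ⟨i, -, hi⟩ := (Nat.dvd_prime_pow (Fact.out : p.Prime)).mp (orderOf_dvd_of_pow_eq_one hk')
  exact ⟨i, hi⟩

theorem exists_sylow_mem [Finite G] {g : G} (hg : IsPEl p g) :
    ∃ R : Sylow p G, g ∈ (R : Subgroup G) := by
  obtain ⟨k, hk⟩ := hg
  have h : IsPGroup p (Subgroup.zpowers g) := IsPGroup.of_card (n := k) (by rw [Nat.card_zpowers, hk])
  obtain ⟨R, hR⟩ := h.exists_le_sylow
  exact ⟨R, hR (Subgroup.mem_zpowers g)⟩

theorem isPEl_conj {g : G} (x : G) (hg : IsPEl p g) : IsPEl p (x * g * x⁻¹) := by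
  obtain ⟨k, hk⟩ := hg
  exact ⟨k, by rw [show x * g * x⁻¹ = MulAut.conj x g from rfl, MulEquiv.orderOf_eq]; exact hk⟩

theorem mem_smul_sylow {P : Sylow p G} {x g : G} :
    g ∈ ((x • P : Sylow p G) : Subgroup G) ↔ x⁻¹ * g * x ∈ (P : Subgroup G) := by
  rw [Sylow.coe_subgroup_smul, Subgroup.mem_pointwise_smul_iff_inv_smul_mem, ← map_inv]
  simp [MulAut.smul_def, MulAut.conj_apply]

theorem pFix_smul {P : Sylow p G} (x : G) (a : X) :
    PFix p (x • P) (x • a) ↔ PFix p P a := by
  constructor
  · intro h g hg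
    have hm : x * g * x⁻¹ ∈ ((x • P : Sylow p G) : Subgroup G) := by
      rw [mem_smul_sylow]; simpa [mul_assoc] using hg
    have := h _ hm
    rw [mul_smul, mul_smul, inv_smul_smul] at this
    exact MulAction.injective x this
  · intro h g hg
    have := h _ (mem_smul_sylow.mp hg)
    rw [mul_smul, mul_smul, inv_smul_eq_iff] at this
    exact this

theorem moved_smul (x : G) (a : X) : Moved G (x • a) ↔ Moved G a := by
  constructor
  · rintro ⟨g, hg⟩
    refine ⟨x⁻¹ * g * x, fun h => hg ?_⟩
    rw [mul_smul, mul_smul, inv_smul_eq_iff] at h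
    exact h
  · rintro ⟨g, hg⟩
    refine ⟨x * g * x⁻¹, fun h => hg ?_⟩
    rw [mul_smul, mul_smul, inv_smul_smul] at h
    exact MulAction.injective x h

theorem wt_smul (P : Sylow p G) (x : G) (a : X) : wt p (x • P) (x • a) = wt p P a := by
  simp only [wt, moved_smul, pFix_smul]

theorem not_moved_of_forall_sylow [Finite G] (hgen : GenP p G) {a : X}
    (h : ∀ R : Sylow p G, PFix p R a) : ¬ Moved G a := by
  rintro ⟨g, hg⟩
  have hle : Subgroup.closure {g : G | IsPEl p g} ≤ MulAction.stabilizer G a := by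
    rw [Subgroup.closure_le]
    intro x hx
    obtain ⟨R, hR⟩ := exists_sylow_mem hx
    exact h R x hR
  have hgen' : Subgroup.closure {g : G | IsPEl p g} = ⊤ := hgen
  rw [hgen'] at hle
  exact hg (hle (Subgroup.mem_top g))

theorem exists_pEl_moves (hgen : GenP p G) {a : X} (h : Moved G a) :
    ∃ g : G, IsPEl p g ∧ g • a ≠ a := by
  by_contra hcon
  push Not at hcon
  obtain ⟨g, hg⟩ := h
  have hle : Subgroup.closure {g : G | IsPEl p g} ≤ MulAction.stabilizer G a := by
    rw [Subgroup.closure_le]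
    exact fun x hx => hcon x hx
  have hgen' : Subgroup.closure {g : G | IsPEl p g} = ⊤ := hgen
  rw [hgen'] at hle
  exact hg (hle (Subgroup.mem_top g))

theorem qFix_le_stab (a : X) : qFix p G a ≤ MulAction.stabilizer G a := by
  rw [qFix, Subgroup.closure_le]
  exact fun g hg => hg.2

theorem mem_qFix {a : X} {g : G} (hg : IsPEl p g) (ha : g • a = a) : g ∈ qFix p G a :=
  Subgroup.subset_closure ⟨hg, ha⟩

theorem le_qFix {P : Sylow p G} {a : X} (h : PFix p P a) : (P : Subgroup G) ≤ qFix p G a :=
  fun g hg => mem_qFix (isPEl_of_mem hg) (h g hg)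

theorem pFix_of_le {P : Sylow p G} {a : X} (h : (P : Subgroup G) ≤ qFix p G a) : PFix p P a :=
  fun _ hg => qFix_le_stab a (h hg)

theorem genP_qFix (a : X) : GenP p (qFix p G a) := by
  refine top_unique ((Subgroup.closure_closure_coe_preimage
    (k := {g : G | IsPEl p g ∧ g • a = a})).ge.trans (Subgroup.closure_mono ?_))
  rintro ⟨g, hg⟩ ⟨⟨k, hk⟩, -⟩
  exact ⟨k, by rw [← hk]; exact (Subgroup.orderOf_coe _).symm⟩

theorem qFix_smul (x : G) (a : X) :
    qFix p G (x • a) = (qFix p G a).map (MulAut.conj x).toMonoidHom := by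
  rw [qFix, qFix, MonoidHom.map_closure]
  congr 1
  ext g
  constructor
  · rintro ⟨hg, hga⟩
    refine ⟨x⁻¹ * g * x, ⟨by simpa using isPEl_conj x⁻¹ hg, ?_⟩, ?_⟩
    · rw [mul_smul, mul_smul, hga, inv_smul_smul]
    · simp [MulAut.conj_apply, mul_assoc]
  · rintro ⟨y, ⟨hy, hya⟩, rfl⟩
    refine ⟨isPEl_conj x hy, ?_⟩
    simp only [MulEquiv.coe_toMonoidHom, MulAut.conj_apply]
    rw [mul_smul, mul_smul, inv_smul_smul, hya]

theorem card_qFix_smul [Finite G] (x : G) (a : X) :
    Nat.card (qFix p G (x • a)) = Nat.card (qFix p G a) := by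
  rw [qFix_smul]
  exact Subgroup.card_map_of_injective (MulAut.conj x).injective

/-- A `p`-element normalising a subgroup which contains a Sylow `p`-subgroup lies in it. -/
theorem mem_of_normalizes [Finite G] {M : Subgroup G} {P : Sylow p G} (hP : (P : Subgroup G) ≤ M)
    {g : G} (hg : IsPEl p g) (hn : M.map (MulAut.conj g).toMonoidHom = M) : g ∈ M := by
  set N := Subgroup.normalizer (M : Set G) with hN
  have hgN : g ∈ N := by
    rw [hN, Subgroup.mem_normalizer_iff]
    intro h
    constructor
    · intro hh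
      rw [← hn]
      exact ⟨h, hh, rfl⟩
    · intro hh
      rw [← hn] at hh
      obtain ⟨y, hy, hye⟩ := hh
      have : y = h := (MulAut.conj g).injective hye
      exact this ▸ hy
  have hMN : M ≤ N := Subgroup.le_normalizer
  haveI : (M.subgroupOf N).Normal := Subgroup.normal_in_normalizer
  have hidx : ¬ p ∣ (M.subgroupOf N).index := by
    intro hd
    have h1 : M.relIndex N ∣ M.index := Dvd.intro _ (Subgroup.relIndex_mul_index hMN)
    exact P.not_dvd_index (hd.trans (h1.trans (Subgroup.index_dvd_of_le hP)))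
  obtain ⟨k, hk⟩ := hg
  have hd1 : orderOf (QuotientGroup.mk' (M.subgroupOf N) ⟨g, hgN⟩) ∣ p ^ k := by
    have := orderOf_map_dvd (QuotientGroup.mk' (M.subgroupOf N)) (⟨g, hgN⟩ : N)
    rwa [Subgroup.orderOf_mk, hk] at this
  have hd2 : orderOf (QuotientGroup.mk' (M.subgroupOf N) ⟨g, hgN⟩) ∣ (M.subgroupOf N).index :=
    orderOf_dvd_natCard _
  obtain ⟨i, -, hi⟩ := (Nat.dvd_prime_pow (Fact.out : p.Prime)).mp hd1
  rcases Nat.eq_zero_or_pos i with h0 | h0
  · rw [h0, pow_zero, orderOf_eq_one_iff, QuotientGroup.mk'_apply, QuotientGroup.eq_one_iff,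
      Subgroup.mem_subgroupOf] at hi
    exact hi
  · exact absurd ((dvd_pow_self p h0.ne').trans (hi ▸ hd2)) hidx

/-- Sylow subgroups inside `M` are conjugate under `M`. -/
theorem exists_conj_in [Finite G] {M : Subgroup G} {P R : Sylow p G} (hP : (P : Subgroup G) ≤ M)
    (hR : (R : Subgroup G) ≤ M) : ∃ h ∈ M, h • P = R := by
  obtain ⟨h, hh⟩ := MulAction.exists_smul_eq M (P.subtype hP) (R.subtype hR)
  rw [Sylow.smul_subtype] at hh
  exact ⟨h, h.2, Sylow.subtype_injective hh⟩

/-- Sylow subgroups of `M` come from those of the group. -/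
theorem exists_eq_subtype [Finite G] {M : Subgroup G} {P : Sylow p G} (hP : (P : Subgroup G) ≤ M)
    (R : Sylow p M) : ∃ (h : G) (hh : h ∈ M),
      R = (h • P).subtype (Sylow.smul_le hP ⟨h, hh⟩) := by
  obtain ⟨h, hh⟩ := MulAction.exists_smul_eq M (P.subtype hP) R
  rw [Sylow.smul_subtype] at hh
  exact ⟨h, h.2, hh.symm⟩

theorem pFix_subtype {M : Subgroup G} {P : Sylow p G} (hP : (P : Subgroup G) ≤ M) (a : X) :
    PFix p (P.subtype hP) a ↔ PFix p P a := by
  constructor
  · intro h g hg
    exact h ⟨g, hP hg⟩ (by rw [Sylow.coe_subtype]; exact Subgroup.mem_subgroupOf.mpr hg)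
  · intro h g hg
    rw [Sylow.coe_subtype, Subgroup.mem_subgroupOf] at hg
    exact h g hg

/-- Every `p`-element of `M` lies in a Sylow subgroup of the group inside `M`. -/
theorem exists_sylow_in [Finite G] {M : Subgroup G} {P : Sylow p G} (hP : (P : Subgroup G) ≤ M)
    {g : G} (hgM : g ∈ M) (hg : IsPEl p g) :
    ∃ R : Sylow p G, (R : Subgroup G) ≤ M ∧ g ∈ (R : Subgroup G) := by
  have hg' : IsPEl p (⟨g, hgM⟩ : M) := by
    obtain ⟨k, hk⟩ := hg
    exact ⟨k, by rw [Subgroup.orderOf_mk]; exact hk⟩
  obtain ⟨R, hR⟩ := exists_sylow_mem hg'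
  obtain ⟨h, hh, rfl⟩ := exists_eq_subtype hP R
  rw [Sylow.coe_subtype, Subgroup.mem_subgroupOf] at hR
  exact ⟨h • P, Sylow.smul_le hP ⟨h, hh⟩, hR⟩

end basics

section counting

variable {G : Type*} [Group G] [Finite G] {X : Type*} [Fintype X] [MulAction G X]

/-- The orbit of `a` under `M`, as a finset. -/
noncomputable def orb (M : Subgroup G) (a : X) : Finset X :=
  Finset.univ.filter fun b => ∃ h ∈ M, h • a = b

theorem mem_orb {M : Subgroup G} {a b : X} : b ∈ orb M a ↔ ∃ h ∈ M, h • a = b := by simp [orb]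

theorem self_mem_orb (M : Subgroup G) (a : X) : a ∈ orb M a := mem_orb.mpr ⟨1, M.one_mem, one_smul _ _⟩

theorem orb_smul_mem {M : Subgroup G} {a b : X} {h : G} (hh : h ∈ M) :
    h • b ∈ orb M a ↔ b ∈ orb M a := by
  simp only [mem_orb]
  constructor
  · rintro ⟨k, hk, e⟩
    exact ⟨h⁻¹ * k, M.mul_mem (M.inv_mem hh) hk, by rw [mul_smul, e, inv_smul_smul]⟩
  · rintro ⟨k, hk, e⟩
    exact ⟨h * k, M.mul_mem hh hk, by rw [mul_smul, e]⟩

/-- Double counting of pairs (Sylow subgroup in `M`, fixed point in the `M`-orbit of `a`). -/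
theorem count (M : Subgroup G) [Fintype (Sylow p G)] {P : Sylow p G} (hP : (P : Subgroup G) ≤ M)
    (a : X) :
    (Finset.univ.filter fun R : Sylow p G => (R : Subgroup G) ≤ M ∧ PFix p R a).card
        * (orb M a).card
      = (Finset.univ.filter fun R : Sylow p G => (R : Subgroup G) ≤ M).card
        * ((orb M a).filter fun b => PFix p P b).card := by
  set S := Finset.univ.filter fun R : Sylow p G => (R : Subgroup G) ≤ M with hS
  have h1 : ∀ b ∈ orb M a, (S.filter fun R => PFix p R b).card
      = (S.filter fun R => PFix p R a).card := by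
    intro b hb
    obtain ⟨h, hh, rfl⟩ := mem_orb.mp hb
    refine (Finset.card_bij (fun R _ => h • R) ?_ ?_ ?_).symm
    · intro R hR
      simp only [hS, Finset.mem_filter, Finset.mem_univ, true_and] at hR ⊢
      exact ⟨Sylow.smul_le hR.1 ⟨h, hh⟩, (pFix_smul h a).mpr hR.2⟩
    · intro R₁ _ R₂ _ e
      exact MulAction.injective h e
    · intro R hR
      simp only [hS, Finset.mem_filter, Finset.mem_univ, true_and] at hR
      refine ⟨h⁻¹ • R, ?_, smul_inv_smul h R⟩
      simp only [hS, Finset.mem_filter, Finset.mem_univ, true_and]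
      refine ⟨Sylow.smul_le hR.1 ⟨h⁻¹, M.inv_mem hh⟩, ?_⟩
      rw [← pFix_smul h a, smul_inv_smul]
      exact hR.2
  have h2 : ∀ R ∈ S, ((orb M a).filter fun b => PFix p R b).card
      = ((orb M a).filter fun b => PFix p P b).card := by
    intro R hR
    simp only [hS, Finset.mem_filter, Finset.mem_univ, true_and] at hR
    obtain ⟨h, hh, rfl⟩ := exists_conj_in hP hR
    refine (Finset.card_bij (fun b _ => h • b) ?_ ?_ ?_).symm
    · intro b hb
      simp only [Finset.mem_filter] at hb ⊢
      exact ⟨(orb_smul_mem hh).mpr hb.1, (pFix_smul h b).mpr hb.2⟩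
    · intro b₁ _ b₂ _ e
      exact MulAction.injective h e
    · intro b hb
      simp only [Finset.mem_filter] at hb
      refine ⟨h⁻¹ • b, ?_, smul_inv_smul h b⟩
      simp only [Finset.mem_filter]
      refine ⟨(orb_smul_mem (M.inv_mem hh)).mpr hb.1, ?_⟩
      rw [← pFix_smul h, smul_inv_smul]
      exact hb.2
  have h3 := Finset.sum_card_bipartiteAbove_eq_sum_card_bipartiteBelow
    (fun (R : Sylow p G) (b : X) => PFix p R b) (s := S) (t := orb M a)
  simp only [Finset.bipartiteAbove, Finset.bipartiteBelow] at h3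
  rw [Finset.sum_congr rfl h2, Finset.sum_congr rfl h1, Finset.sum_const, Finset.sum_const,
    smul_eq_mul, smul_eq_mul] at h3
  rw [show (Finset.univ.filter fun R : Sylow p G => (R : Subgroup G) ≤ M ∧ PFix p R a)
      = S.filter (fun R => PFix p R a) by rw [hS, Finset.filter_filter]]
  rw [h3, mul_comm]

end counting

section weights

variable {G : Type u} [Group G] [Finite G] {X : Type u} [Fintype X] [MulAction G X]

theorem sum_mul_wt_smul (c : X → ℤ) (hc : ∀ (g : G) (a : X), c (g • a) = c a) (P : Sylow p G)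
    (x : G) : ∑ a : X, c a * wt p (x • P) a = ∑ a : X, c a * wt p P a := by
  rw [← Equiv.sum_comp (MulAction.toPerm x) (fun a => c a * wt p (x • P) a)]
  simp [MulAction.toPerm_apply, wt_smul, hc]

theorem tot_eq (P R : Sylow p G) : tot p X P = tot p X R := by
  obtain ⟨x, rfl⟩ := MulAction.exists_smul_eq G P R
  have := sum_mul_wt_smul (p := p) (X := X) (fun _ => (1 : ℤ)) (fun (_ : G) (_ : X) => rfl) P x
  simp only [one_mul] at this
  exact this.symm

theorem dvd_tot (P : Sylow p G) : (p : ℤ) ∣ tot p X P := by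
  have hmod := P.2.card_modEq_card_fixedPoints X
  have hfix : Nat.card (MulAction.fixedPoints P X) = (Finset.univ.filter fun a : X => PFix p P a).card := by
    rw [Nat.card_eq_fintype_card, ← Fintype.card_coe]
    refine Fintype.card_congr (Equiv.subtypeEquivRight fun a => ?_)
    simp only [MulAction.mem_fixedPoints, Finset.mem_filter, Finset.mem_univ, true_and]
    exact ⟨fun h g hg => h ⟨g, hg⟩, fun h g => h g g.2⟩
  have hsplit := Finset.card_filter_add_card_filter_not (s := (Finset.univ : Finset X))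
    (fun a : X => PFix p P a)
  have hM : (p : ℤ) ∣ ((Finset.univ.filter fun a : X => ¬ PFix p P a).card : ℤ) := by
    rw [Int.natCast_dvd_natCast]
    rw [hfix, Nat.card_eq_fintype_card, ← Finset.card_univ, ← hsplit] at hmod
    have hle : (Finset.univ.filter fun a : X => PFix p P a).card ≤
        (Finset.univ.filter fun a : X => PFix p P a).card +
        (Finset.univ.filter fun a : X => ¬ PFix p P a).card := Nat.le_add_right _ _
    have := (Nat.modEq_iff_dvd' hle).mp hmod.symm
    simpa using this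
  have e : tot p X P = ((p : ℤ) - 1) * ((Finset.univ.filter fun a : X => ¬ PFix p P a).card : ℤ)
      - (p : ℤ) * ((Finset.univ.filter fun a : X => Moved G a ∧ PFix p P a).card : ℤ) := by
    rw [tot, Finset.card_filter, Finset.card_filter, Nat.cast_sum, Nat.cast_sum, Finset.mul_sum,
      Finset.mul_sum, ← Finset.sum_sub_distrib]
    refine Finset.sum_congr rfl fun a _ => ?_
    by_cases hm : Moved G a
    · by_cases hf : PFix p P a <;> simp [wt, hm, hf]
    · have hf : PFix p P a := by
        intro g _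
        by_contra hne
        exact hm ⟨g, hne⟩
      simp [wt, hm, hf]
  rw [e]
  exact dvd_sub (dvd_mul_of_dvd_right hM _) (dvd_mul_right _ _)

/-- The core inequality: invariant non-negative combinations of weights are non-negative. -/
theorem weighted {N : ℕ} (hB : Bnd.{u} p N) (hgen : GenP p G)
    (hN : ∀ a : X, Nat.card (MulAction.orbit G a) < N) (c : X → ℤ) (h0 : ∀ a, 0 ≤ c a)
    (hc : ∀ (g : G) (a : X), c (g • a) = c a) (P : Sylow p G) :
    0 ≤ ∑ a : X, c a * wt p P a := by
  rw [← Finset.sum_fiberwise (Finset.univ : Finset X)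
    (fun a => (Quotient.mk'' a : MulAction.orbitRel.Quotient G X)) (fun a => c a * wt p P a)]
  refine Finset.sum_nonneg fun q _ => ?_
  induction q using Quotient.inductionOn' with
  | h a₀ =>
    have e : ∀ b : X, b ∈ (Finset.univ.filter fun a =>
        (Quotient.mk'' a : MulAction.orbitRel.Quotient G X) = Quotient.mk'' a₀) ↔
        b ∈ MulAction.orbit G a₀ := by
      intro b
      simp only [Finset.mem_filter, Finset.mem_univ, true_and, Quotient.eq'',
        MulAction.orbitRel_apply]
    letI : Fintype (MulAction.orbit G a₀) := Fintype.ofFinite _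
    rw [Finset.sum_subtype (F := this) _ e]
    have h1 : ∀ b : MulAction.orbit G a₀, c b.1 * wt p P b.1 = c a₀ * wt p P b := by
      rintro ⟨b, g, rfl⟩
      have hw : ∀ (y : MulAction.orbit G a₀), wt p P y.1 = wt p P y := by
        intro y
        have hmv : Moved G y.1 ↔ Moved G y :=
          ⟨fun ⟨k, hk⟩ => ⟨k, fun h => hk (by rw [← MulAction.orbit.coe_smul, h])⟩,
            fun ⟨k, hk⟩ => ⟨k, fun h => hk (Subtype.ext (by rw [MulAction.orbit.coe_smul, h]))⟩⟩
        have hpf : PFix p P y.1 ↔ PFix p P y :=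
          ⟨fun h k hk => Subtype.ext (by rw [MulAction.orbit.coe_smul, h k hk]),
            fun h k hk => by rw [← MulAction.orbit.coe_smul, h k hk]⟩
        simp only [wt, hmv, hpf]
      rw [hw]
      simp [hc]
    rw [Finset.sum_congr rfl (fun b _ => h1 b), ← Finset.mul_sum]
    exact mul_nonneg (h0 a₀) (hB G _ hgen (hN a₀) P)

theorem card_orbit_le (a : X) : Nat.card (MulAction.orbit G a) ≤ Nat.card X :=
  Nat.card_le_card_of_injective Subtype.val Subtype.val_injective

theorem orb_top_eq (a b : X) : b ∈ orb (⊤ : Subgroup G) a ↔ b ∈ MulAction.orbit G a := by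
  rw [mem_orb, MulAction.mem_orbit_iff]
  simp

/-- Facts about one orbit of a moved point. -/
theorem orbit_facts {N : ℕ} (hB : Bnd.{u} p N) (hgen : GenP p G) (hN : Nat.card X < N)
    (P : Sylow p G) {a : X} (ha : Moved G a) :
    (2 * (p : ℤ) - 1) * (((orb (⊤ : Subgroup G) a).filter fun b => PFix p P b).card : ℤ)
        ≤ ((p : ℤ) - 1) * (orb (⊤ : Subgroup G) a).card ∧
      ((p : ℤ) - 1) * (orb (⊤ : Subgroup G) a).card
        ≤ (2 * (p : ℤ) - 1) * (((orb (⊤ : Subgroup G) a).filter fun b => PFix p P b).card : ℤ)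
          + tot p X P ∧
      p ∣ ((orb (⊤ : Subgroup G) a).filter fun b => ¬ PFix p P b).card := by
  have hN' : ∀ b : X, Nat.card (MulAction.orbit G b) < N :=
    fun b => lt_of_le_of_lt (card_orbit_le b) hN
  set O := orb (⊤ : Subgroup G) a with hO
  have hinv : ∀ (g : G) (b : X), g • b ∈ O ↔ b ∈ O := fun g b => orb_smul_mem (Subgroup.mem_top g)
  have hsum : ∑ b ∈ O, wt p P b =
      ((p : ℤ) - 1) * O.card - (2 * (p : ℤ) - 1) * ((O.filter fun b => PFix p P b).card : ℤ) := by
    rw [Finset.card_filter, Nat.cast_sum, Finset.mul_sum, Finset.card_eq_sum_ones O, Nat.cast_sum,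
      Finset.mul_sum, ← Finset.sum_sub_distrib]
    refine Finset.sum_congr rfl fun b hb => ?_
    obtain ⟨g, -, rfl⟩ := mem_orb.mp hb
    have hm : Moved G (g • a) := (moved_smul g a).mpr ha
    by_cases hf : PFix p P (g • a)
    · simp [wt, hm, hf]; ring
    · simp [wt, hm, hf]
  have h1 := weighted hB hgen hN' (fun b => if b ∈ O then (1 : ℤ) else 0)
    (fun b => by split <;> simp) (fun g b => by simp only [hinv]) P
  have h2 := weighted hB hgen hN' (fun b => if b ∈ O then (0 : ℤ) else 1)
    (fun b => by split <;> simp) (fun g b => by simp only [hinv]) P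
  have e1 : ∑ b : X, (if b ∈ O then (1 : ℤ) else 0) * wt p P b = ∑ b ∈ O, wt p P b := by
    simp [ite_mul, Finset.sum_ite_mem]
  have e2 : ∑ b : X, (if b ∈ O then (0 : ℤ) else 1) * wt p P b
      = tot p X P - ∑ b ∈ O, wt p P b := by
    rw [tot, ← e1, ← Finset.sum_sub_distrib]
    exact Finset.sum_congr rfl fun b _ => by split <;> ring
  rw [e1, hsum] at h1
  rw [e2, hsum] at h2
  refine ⟨by linarith, by linarith, ?_⟩
  haveI := Fintype.ofFinite (MulAction.orbit G a)
  have hmod := P.2.card_modEq_card_fixedPoints (MulAction.orbit G a)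
  have hc1 : Nat.card (MulAction.orbit G a) = O.card := by
    rw [Nat.card_eq_fintype_card, ← Fintype.card_coe]
    exact Fintype.card_congr (Equiv.subtypeEquivRight fun b => (orb_top_eq a b).symm)
  have hc2 : Nat.card (MulAction.fixedPoints P (MulAction.orbit G a))
      = (O.filter fun b => PFix p P b).card := by
    rw [Nat.card_eq_fintype_card, ← Fintype.card_coe]
    refine Fintype.card_congr
      { toFun := fun b => ⟨b.1.1, Finset.mem_filter.mpr ⟨(orb_top_eq a _).mpr b.1.2, fun g hg => ?_⟩⟩
        invFun := fun b => ⟨⟨b.1, (orb_top_eq a _).mp (Finset.mem_filter.mp b.2).1⟩, fun g => ?_⟩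
        left_inv := fun b => rfl
        right_inv := fun b => rfl }
    · exact congrArg Subtype.val (b.2 ⟨g, hg⟩)
    · exact Subtype.ext ((Finset.mem_filter.mp b.2).2 g g.2)
  rw [hc1, hc2, ← Finset.card_filter_add_card_filter_not (s := O) (fun b => PFix p P b)] at hmod
  have := (Nat.modEq_iff_dvd' (Nat.le_add_right _ _)).mp hmod.symm
  simpa using this

/-- With small total weight every moved point is fixed by some Sylow subgroup. -/
theorem exists_pFix {N : ℕ} (hB : Bnd.{u} p N) (hgen : GenP p G) (hN : Nat.card X < N)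
    (P : Sylow p G) (hD : tot p X P ≤ (p : ℤ) * ((p : ℤ) - 2)) {a : X} (ha : Moved G a) :
    ∃ R : Sylow p G, PFix p R a := by
  obtain ⟨-, hup, hdvd⟩ := orbit_facts hB hgen hN P ha
  set O := orb (⊤ : Subgroup G) a
  by_cases hne : (O.filter fun b => PFix p P b).Nonempty
  · obtain ⟨b, hb⟩ := hne
    obtain ⟨g, -, rfl⟩ := mem_orb.mp (Finset.mem_filter.mp hb).1
    refine ⟨g⁻¹ • P, ?_⟩
    rw [← pFix_smul g, smul_inv_smul]
    exact (Finset.mem_filter.mp hb).2
  · exfalso
    rw [Finset.not_nonempty_iff_eq_empty] at hne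
    have hs := Finset.card_filter_add_card_filter_not (s := O) (fun b => PFix p P b)
    rw [hne, Finset.card_empty, zero_add] at hs
    have hpos : 0 < O.card := Finset.card_pos.mpr ⟨a, self_mem_orb _ a⟩
    have hp : (p : ℤ) ≤ O.card := by exact_mod_cast Nat.le_of_dvd hpos (hs ▸ hdvd)
    rw [hne, Finset.card_empty] at hup
    push_cast at hup
    have : (2 : ℤ) ≤ p := by exact_mod_cast (Fact.out : p.Prime).two_le
    nlinarith

set_option maxHeartbeats 1000000 in
/-- Comparable fixer subgroups are equal when the total weight is small. -/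
theorem fix_symm {N : ℕ} (hB : Bnd.{u} p N) (hgen : GenP p G) (hN : Nat.card X < N)
    (P₀ : Sylow p G) (hD : tot p X P₀ ≤ (p : ℤ) * ((p : ℤ) - 2)) {a a' : X} (ha : Moved G a)
    (ha' : Moved G a') (h : qFix p G a ≤ qFix p G a') : qFix p G a' = qFix p G a := by
  haveI := Fintype.ofFinite (Sylow p G)
  have hp2 : (2 : ℤ) ≤ p := by exact_mod_cast (Fact.out : p.Prime).two_le
  obtain ⟨P, hPa⟩ := exists_pFix hB hgen hN P₀ hD ha
  set M := qFix p G a' with hM
  have hPM : (P : Subgroup G) ≤ M := (le_qFix hPa).trans h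
  -- it suffices that `M` fixes `a`
  suffices hfix : ∀ g ∈ M, g • a = a by
    refine le_antisymm ?_ h
    rw [hM, qFix, Subgroup.closure_le]
    exact fun g hg => mem_qFix hg.1 (hfix g (Subgroup.subset_closure hg))
  by_contra hmv
  push Not at hmv
  obtain ⟨g₀, hg₀M, hg₀⟩ := hmv
  set O := orb (⊤ : Subgroup G) a with hO
  set O' := orb (⊤ : Subgroup G) a' with hO'
  set Γ := orb M a with hΓ
  obtain ⟨hlo, hup, hdvd⟩ := orbit_facts hB hgen hN P ha
  obtain ⟨hlo', -, -⟩ := orbit_facts hB hgen hN P ha'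
  rw [← hO] at hlo hup hdvd
  rw [← hO'] at hlo'
  -- the orbit of `M`
  have hPsub : ∀ b : X, PFix p (P.subtype hPM) b ↔ PFix p P b := fun b => pFix_subtype hPM b
  have hMmoved : Moved M a := ⟨⟨g₀, hg₀M⟩, hg₀⟩
  obtain ⟨hloΓ, -, hdvdΓ⟩ := orbit_facts hB (genP_qFix a') hN (P.subtype hPM) hMmoved
  have hΓeq : orb (⊤ : Subgroup M) a = Γ := by
    ext b
    simp only [hΓ, mem_orb]
    constructor
    · rintro ⟨k, -, rfl⟩; exact ⟨k.1, k.2, rfl⟩
    · rintro ⟨k, hk, rfl⟩; exact ⟨⟨k, hk⟩, Subgroup.mem_top _, rfl⟩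
  simp only [hΓeq, hPsub] at hloΓ hdvdΓ
  -- counting
  have c1 := count (⊤ : Subgroup G) (P := P) le_top a
  have c2 := count M (P := P) hPM a
  have c3 := count (⊤ : Subgroup G) (P := P) le_top a'
  simp only [le_top, true_and, Finset.filter_true] at c1 c3
  rw [← hO] at c1
  rw [← hO'] at c3
  rw [← hΓ] at c2
  have hAM : (Finset.univ.filter fun R : Sylow p G => (R : Subgroup G) ≤ M ∧ PFix p R a)
      = Finset.univ.filter fun R : Sylow p G => PFix p R a := by
    ext R
    simp only [Finset.mem_filter, Finset.mem_univ, true_and]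
    exact ⟨fun hR => hR.2, fun hR => ⟨(le_qFix hR).trans h, hR⟩⟩
  have hA' : (Finset.univ.filter fun R : Sylow p G => PFix p R a')
      = Finset.univ.filter fun R : Sylow p G => (R : Subgroup G) ≤ M := by
    ext R
    simp only [Finset.mem_filter, Finset.mem_univ, true_and]
    exact ⟨le_qFix, pFix_of_le⟩
  rw [hAM] at c2
  rw [hA'] at c3
  have hS : 0 < (Finset.univ : Finset (Sylow p G)).card := Finset.card_pos.mpr ⟨P, Finset.mem_univ _⟩
  set n := O.card with hn
  set f := (O.filter fun b => PFix p P b).card with hf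
  set n' := O'.card with hn'
  set f' := (O'.filter fun b => PFix p P b).card with hf'
  set nΓ := Γ.card with hnΓ
  set fΓ := (Γ.filter fun b => PFix p P b).card with hfΓ
  set A := (Finset.univ.filter fun R : Sylow p G => PFix p R a).card
  set B := (Finset.univ.filter fun R : Sylow p G => (R : Subgroup G) ≤ M).card
  set S := (Finset.univ : Finset (Sylow p G)).card
  have key : f * n' * nΓ = n * f' * fΓ := by
    have : S * (f * n' * nΓ) = S * (n * f' * fΓ) := by
      calc S * (f * n' * nΓ) = (A * n) * n' * nΓ := by rw [c1]; ring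
        _ = (A * nΓ) * n * n' := by ring
        _ = (B * n') * n * fΓ := by rw [c2]; ring
        _ = S * (n * f' * fΓ) := by rw [c3]; ring
    exact Nat.eq_of_mul_eq_mul_left hS this
  have hn'pos : 0 < n' := Finset.card_pos.mpr ⟨a', self_mem_orb _ a'⟩
  have hnΓpos : 0 < nΓ := Finset.card_pos.mpr ⟨a, self_mem_orb _ a⟩
  have hfpos : 0 < f := Finset.card_pos.mpr ⟨a, Finset.mem_filter.mpr ⟨self_mem_orb _ a, hPa⟩⟩
  have hs := Finset.card_filter_add_card_filter_not (s := O) (fun b => PFix p P b)
  have hsΓ := Finset.card_filter_add_card_filter_not (s := Γ) (fun b => PFix p P b)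
  obtain ⟨m, hm⟩ := hdvd
  rw [hm] at hs
  have hm0 : m ≠ 0 := by
    intro h0
    rw [h0, mul_zero, add_zero] at hs
    have e : n = f := by omega
    rw [e] at hlo
    push_cast at hlo
    nlinarith
  rw [tot_eq P₀ P] at hD
  rcases (show m = 1 ∨ 2 ≤ m by omega) with h1 | h2
  · subst h1
    rw [mul_one] at hm
    -- all points of `O` moved by `P` lie in `Γ`
    have hsub : Γ ⊆ O := fun b hb => by
      obtain ⟨k, -, e⟩ := mem_orb.mp hb
      exact mem_orb.mpr ⟨k, Subgroup.mem_top k, e⟩
    have hMVsub : (Γ.filter fun b => ¬ PFix p P b) ⊆ O.filter fun b => ¬ PFix p P b :=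
      Finset.filter_subset_filter _ hsub
    have hMVne : 0 < (Γ.filter fun b => ¬ PFix p P b).card := by
      by_contra hcon
      have hcon' : fΓ = nΓ := by omega
      rw [hcon'] at hloΓ
      have : (0 : ℤ) < (nΓ : ℤ) := by exact_mod_cast hnΓpos
      nlinarith
    have hMVeq : (Γ.filter fun b => ¬ PFix p P b) = O.filter fun b => ¬ PFix p P b :=
      Finset.eq_of_subset_of_card_le hMVsub (by rw [hm]; exact Nat.le_of_dvd hMVne hdvdΓ)
    by_cases hall : O ⊆ Γ
    · have : nΓ = n := by rw [hnΓ, hn, Finset.Subset.antisymm hsub hall]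
      have hff : fΓ = f := by rw [hfΓ, hf, Finset.Subset.antisymm hsub hall]
      rw [this, hff] at key
      have hnpos : 0 < n := Finset.card_pos.mpr ⟨a, self_mem_orb _ a⟩
      have e : f' = n' := by
        have : f * n * f' = f * n * n' := by rw [show f * n * n' = f * n' * n by ring, key]; ring
        exact Nat.eq_of_mul_eq_mul_left (Nat.mul_pos hfpos hnpos) this
      rw [e] at hlo'
      have : (0 : ℤ) < (n' : ℤ) := by exact_mod_cast hn'pos
      nlinarith
    · obtain ⟨b, hbO, hbΓ⟩ := Finset.not_subset.mp hall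
      have hMb : ∀ g ∈ M, IsPEl p g → g • b = b := by
        intro g hgM hg
        obtain ⟨R, hRM, hgR⟩ := exists_sylow_in hPM hgM hg
        obtain ⟨k, hk, rfl⟩ := exists_conj_in hPM hRM
        have hnot : k⁻¹ • b ∉ Γ := fun hh => hbΓ ((orb_smul_mem (M.inv_mem hk)).mp hh)
        have hO2 : k⁻¹ • b ∈ O := (orb_smul_mem (Subgroup.mem_top _)).mpr hbO
        have hPk : PFix p P (k⁻¹ • b) := by
          by_contra hh
          have : k⁻¹ • b ∈ Γ.filter fun b => ¬ PFix p P b := by
            rw [hMVeq]; exact Finset.mem_filter.mpr ⟨hO2, hh⟩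
          exact hnot (Finset.mem_filter.mp this).1
        have := (pFix_smul k (k⁻¹ • b)).mpr hPk
        rw [smul_inv_smul] at this
        exact this g hgR
      have hMle : M ≤ qFix p G b := by
        rw [hM, qFix, Subgroup.closure_le]
        exact fun g hg => mem_qFix hg.1 (hMb g (Subgroup.subset_closure hg) hg.1)
      obtain ⟨k, -, rfl⟩ := mem_orb.mp hbO
      have hle : Nat.card M ≤ Nat.card (qFix p G a) := by
        rw [← card_qFix_smul k a]; exact Subgroup.card_le_of_le hMle
      have heq := Subgroup.eq_of_le_of_card_ge h hle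
      exact hg₀ (qFix_le_stab a (heq ▸ hg₀M))
  · -- many cycles: the fixed point ratio is at most the square
    rw [← hn] at hs
    have hns : (n : ℤ) = f + p * m := by exact_mod_cast hs.symm
    have hmul : ((2 * (p : ℤ) - 1) * f') * ((2 * (p : ℤ) - 1) * fΓ)
        ≤ (((p : ℤ) - 1) * n') * (((p : ℤ) - 1) * nΓ) :=
      mul_le_mul hlo' hloΓ (by have : (0:ℤ) ≤ (fΓ : ℤ) := Int.natCast_nonneg _; nlinarith)
        (by have : (0:ℤ) ≤ (n' : ℤ) := Int.natCast_nonneg _; nlinarith)
    have keyZ : (f : ℤ) * n' * nΓ = n * f' * fΓ := by exact_mod_cast key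
    have hsq : (2 * (p : ℤ) - 1) ^ 2 * f ≤ ((p : ℤ) - 1) ^ 2 * n := by
      have hpos : (0 : ℤ) < (n' : ℤ) * nΓ := by exact_mod_cast Nat.mul_pos hn'pos hnΓpos
      refine le_of_mul_le_mul_right ?_ hpos
      have hn0 : (0 : ℤ) ≤ (n : ℤ) := Int.natCast_nonneg _
      calc (2 * (p : ℤ) - 1) ^ 2 * f * ((n' : ℤ) * nΓ)
          = n * (((2 * (p : ℤ) - 1) * f') * ((2 * (p : ℤ) - 1) * fΓ)) := by
            linear_combination (2 * (p : ℤ) - 1) ^ 2 * keyZ
        _ ≤ n * ((((p : ℤ) - 1) * n') * (((p : ℤ) - 1) * nΓ)) := mul_le_mul_of_nonneg_left hmul hn0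
        _ = ((p : ℤ) - 1) ^ 2 * n * ((n' : ℤ) * nΓ) := by ring
    rw [hns] at hsq hup
    have hf3 : (f : ℤ) * (3 * p - 2) ≤ ((p : ℤ) - 1) ^ 2 * m :=
      le_of_mul_le_mul_left (by nlinarith) (show (0 : ℤ) < p by linarith)
    have hm3 : ((p : ℤ) - 1) * m ≤ f + (p - 2) :=
      le_of_mul_le_mul_left (by nlinarith) (show (0 : ℤ) < p by linarith)
    have hmul3 := mul_le_mul_of_nonneg_right hm3 (show (0 : ℤ) ≤ 3 * p - 2 by linarith)
    have hm2 : (2 : ℤ) ≤ (m : ℤ) := by exact_mod_cast h2
    have hmge := mul_le_mul_of_nonneg_left hm2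
      (show (0 : ℤ) ≤ ((p : ℤ) - 1) * (2 * p - 1) by nlinarith)
    nlinarith

end weights

section classes

/-- The classes of moved points, by the subgroup generated by the fixing `p`-elements. -/
def Cls (p : ℕ) (G : Type u) [Group G] (X : Type u) [MulAction G X] : Type u :=
  {M : Subgroup G // ∃ a : X, Moved G a ∧ qFix p G a = M}

variable {G : Type u} [Group G] {X : Type u} [MulAction G X]

theorem map_conj_mem {M : Subgroup G} (g : G) (h : ∃ a : X, Moved G a ∧ qFix p G a = M) :
    ∃ a : X, Moved G a ∧ qFix p G a = M.map (MulAut.conj g).toMonoidHom := by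
  obtain ⟨a, ha, rfl⟩ := h
  exact ⟨g • a, (moved_smul g a).mpr ha, qFix_smul g a⟩

instance clsAct : MulAction G (Cls p G X) where
  smul g s := ⟨s.1.map (MulAut.conj g).toMonoidHom, map_conj_mem g s.2⟩
  one_smul s := by
    refine Subtype.ext ?_
    change s.1.map (MulAut.conj (1 : G)).toMonoidHom = s.1
    ext x
    simp
  mul_smul g h s := by
    refine Subtype.ext ?_
    change s.1.map (MulAut.conj (g * h)).toMonoidHom
      = (s.1.map (MulAut.conj h).toMonoidHom).map (MulAut.conj g).toMonoidHom
    rw [Subgroup.map_map]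
    congr 1
    ext x
    simp [MulAut.conj_apply, mul_assoc]

instance clsFinite [Finite G] : Finite (Cls p G X) :=
  Finite.of_injective (fun s : Cls p G X => (s.1 : Subgroup G)) Subtype.val_injective

/-- The class of a moved point. -/
def cls (a : {a : X // Moved G a}) : Cls p G X := ⟨qFix p G a.1, a.1, a.2, rfl⟩

theorem cls_surjective : Function.Surjective (cls : {a : X // Moved G a} → Cls p G X) :=
  fun s => ⟨⟨s.2.choose, s.2.choose_spec.1⟩, Subtype.ext s.2.choose_spec.2⟩

theorem smul_cls (g : G) (a : {a : X // Moved G a}) :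
    g • (cls a : Cls p G X) = cls ⟨g • a.1, (moved_smul g a.1).mpr a.2⟩ :=
  Subtype.ext (qFix_smul g a.1).symm

variable [Finite G]

/-- A `p`-element fixes a moved point iff it fixes its class. -/
theorem smul_eq_iff_cls {g : G} (hg : IsPEl p g) (a : {a : X // Moved G a})
    (ha : ∃ R : Sylow p G, PFix p R a.1) :
    g • a.1 = a.1 ↔ g • (cls a : Cls p G X) = cls a := by
  constructor
  · intro h
    rw [smul_cls]
    congr 1
    exact Subtype.ext h
  · intro h
    obtain ⟨R, hR⟩ := ha
    have h' : (qFix p G a.1).map (MulAut.conj g).toMonoidHom = qFix p G a.1 :=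
      congrArg Subtype.val h
    exact qFix_le_stab a.1 (mem_of_normalizes (le_qFix hR) hg h')

theorem pFix_cls (P : Sylow p G) (a : {a : X // Moved G a})
    (ha : ∃ R : Sylow p G, PFix p R a.1) :
    PFix p P (cls a : Cls p G X) ↔ PFix p P a.1 :=
  ⟨fun h g hg => (smul_eq_iff_cls (isPEl_of_mem hg) a ha).mpr (h g hg),
    fun h g hg => (smul_eq_iff_cls (isPEl_of_mem hg) a ha).mp (h g hg)⟩

theorem moved_cls (hgen : GenP p G) (a : {a : X // Moved G a})
    (ha : ∃ R : Sylow p G, PFix p R a.1) : Moved G (cls a : Cls p G X) := by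
  by_contra hcon
  obtain ⟨g, hg, hga⟩ := exists_pEl_moves hgen a.2
  refine hga ((smul_eq_iff_cls hg a ha).mpr ?_)
  by_contra hne
  exact hcon ⟨g, hne⟩

theorem wt_cls (hgen : GenP p G) (P : Sylow p G) (a : {a : X // Moved G a})
    (ha : ∃ R : Sylow p G, PFix p R a.1) : wt p P (cls a : Cls p G X) = wt p P a.1 := by
  simp only [wt, moved_cls hgen a ha, a.2, pFix_cls P a ha]

theorem tot_pullback [Fintype X] [Fintype (Cls p G X)] (hgen : GenP p G) (P : Sylow p G)
    (hpos : ∀ a : X, Moved G a → ∃ R : Sylow p G, PFix p R a) :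
    tot p X P = ∑ s : Cls p G X,
      (Fintype.card {a : {a : X // Moved G a} // cls a = s} : ℤ) * wt p P s := by
  have h1 : tot p X P = ∑ a : {a : X // Moved G a}, wt p P a.1 := by
    rw [tot, ← Finset.sum_subtype (Finset.univ.filter fun a : X => Moved G a) (by simp)
      (fun a => wt p P a)]
    refine (Finset.sum_filter_of_ne fun a _ ha => ?_).symm
    by_contra hm
    exact ha (by simp [wt, hm])
  rw [h1, ← Fintype.sum_fiberwise (cls : {a : X // Moved G a} → Cls p G X)]
  refine Finset.sum_congr rfl fun s _ => ?_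
  rw [Finset.sum_congr rfl (g := fun _ => wt p P s) (fun a _ => by
    rw [← wt_cls hgen P a.1 (hpos _ a.1.2), a.2])]
  simp

theorem card_fibre_smul [Fintype X] (g : G) (s : Cls p G X) :
    Fintype.card {a : {a : X // Moved G a} // cls a = g • s}
      = Fintype.card {a : {a : X // Moved G a} // cls a = s} := by
  refine Fintype.card_congr
    { toFun := fun a => ⟨⟨g⁻¹ • a.1.1, (moved_smul _ _).mpr a.1.2⟩, ?_⟩
      invFun := fun a => ⟨⟨g • a.1.1, (moved_smul _ _).mpr a.1.2⟩, ?_⟩
      left_inv := fun a => Subtype.ext (Subtype.ext (smul_inv_smul g a.1.1))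
      right_inv := fun a => Subtype.ext (Subtype.ext (inv_smul_smul g a.1.1)) }
  · rw [← smul_cls, a.2, inv_smul_smul]
  · rw [← smul_cls, a.2]

end classes

/-- If the total weight is small, any few points are fixed by a common Sylow subgroup. -/
theorem chain {N : ℕ} (hB : Bnd.{u} p N) : ∀ (j : ℕ) (G : Type u) [Group G] [Finite G]
    (X : Type u) [Fintype X] [MulAction G X], GenP p G → Nat.card X < N →
    ∀ P : Sylow p G, tot p X P + (p : ℤ) * j ≤ (p : ℤ) * ((p : ℤ) - 1) →
    ∀ l : List X, l.length ≤ j → ∃ R : Sylow p G, ∀ a ∈ l, PFix p R a := by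
  intro j
  induction j with
  | zero =>
    intro G _ _ X _ _ _ _ P _ l hl
    have : l = [] := List.length_eq_zero_iff.mp (Nat.le_zero.mp hl)
    exact ⟨P, by simp [this]⟩
  | succ j ih =>
    intro G _ _ X _ _ hgen hN P hD l hl
    have hp2 : (2 : ℤ) ≤ p := by exact_mod_cast (Fact.out : p.Prime).two_le
    push_cast at hD
    rcases l with _ | ⟨a, l⟩
    · exact ⟨P, by simp⟩
    simp only [List.length_cons, Nat.add_le_add_iff_right] at hl
    by_cases ha : Moved G a
    swap
    · obtain ⟨R, hR⟩ := ih G X hgen hN P (by linarith) l hl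
      refine ⟨R, fun b hb => ?_⟩
      rcases List.mem_cons.mp hb with rfl | hb
      · intro g _
        by_contra hne
        exact ha ⟨g, hne⟩
      · exact hR b hb
    have hD2 : tot p X P ≤ (p : ℤ) * ((p : ℤ) - 2) := by
      have : (0 : ℤ) ≤ (p : ℤ) * j := by positivity
      nlinarith
    have hpos : ∀ b : X, Moved G b → ∃ R : Sylow p G, PFix p R b :=
      fun b hb => exists_pFix hB hgen hN P hD2 hb
    obtain ⟨Q, hQ⟩ := hpos a ha
    haveI := Fintype.ofFinite (Cls p G X)
    have hN' : Nat.card (Cls p G X) < N :=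
      lt_of_le_of_lt ((Nat.card_le_card_of_surjective _ cls_surjective).trans
        (Nat.card_le_card_of_injective Subtype.val Subtype.val_injective)) hN
    have hD' : tot p (Cls p G X) Q ≤ tot p X Q := by
      rw [tot_pullback hgen Q hpos, tot, ← sub_nonneg, ← Finset.sum_sub_distrib]
      have hc := weighted hB hgen (fun b => lt_of_le_of_lt (card_orbit_le b) hN')
        (fun s : Cls p G X => (Fintype.card {a : {a : X // Moved G a} // cls a = s} : ℤ) - 1)
        (fun s => by
          have : 0 < Fintype.card {a : {a : X // Moved G a} // cls a = s} :=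
            Fintype.card_pos_iff.mpr ⟨⟨(cls_surjective s).choose, (cls_surjective s).choose_spec⟩⟩
          omega)
        (fun g s => by simp only [card_fibre_smul]) Q
      refine le_of_le_of_eq hc (Finset.sum_congr rfl fun s _ => ?_)
      ring
    set σ : Cls p G X := cls ⟨a, ha⟩ with hσ
    set M : Subgroup G := qFix p G a with hMdef
    have hQM : (Q : Subgroup G) ≤ M := le_qFix hQ
    have hfixσ : ∀ g ∈ M, g • σ = σ := by
      intro g hg
      rw [hσ, smul_cls]
      congr 1
      exact Subtype.ext (qFix_le_stab a hg)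
    have hothers : ∀ s : Cls p G X, s ≠ σ → ∃ g ∈ M, g • s ≠ s := by
      intro s hs
      by_contra hcon
      push Not at hcon
      obtain ⟨⟨b, hb⟩, rfl⟩ := cls_surjective s
      have hab : qFix p G a ≤ qFix p G b := by
        rw [qFix, Subgroup.closure_le]
        exact fun g hg => mem_qFix hg.1
          ((smul_eq_iff_cls hg.1 ⟨b, hb⟩ (hpos b hb)).mpr (hcon g (Subgroup.subset_closure hg)))
      exact hs (Subtype.ext (fix_symm hB hgen hN P hD2 ha hb hab))
    have hw : ∀ s : Cls p G X, wt p (Q.subtype hQM) s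
        = wt p Q s + (if s = σ then (p : ℤ) else 0) := by
      intro s
      by_cases hs : s = σ
      · subst hs
        have h1 : ¬ Moved M σ := fun ⟨g, hg⟩ => hg (hfixσ g.1 g.2)
        have h2 : Moved G σ := moved_cls hgen ⟨a, ha⟩ ⟨Q, hQ⟩
        have h3 : PFix p Q σ := (pFix_cls Q ⟨a, ha⟩ ⟨Q, hQ⟩).mpr hQ
        simp [wt, h1, h2, h3]
      · obtain ⟨g, hgM, hg⟩ := hothers s hs
        have h1 : Moved M s := ⟨⟨g, hgM⟩, hg⟩
        have h2 : Moved G s := ⟨g, hg⟩
        simp only [wt, h1, h2, if_true, hs, if_false, add_zero, pFix_subtype hQM s]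
    have hDM : tot p (Cls p G X) (Q.subtype hQM) = tot p (Cls p G X) Q + p := by
      simp only [tot, hw, Finset.sum_add_distrib]
      simp
    obtain ⟨R', hR'⟩ := ih M (Cls p G X) (genP_qFix a) hN' (Q.subtype hQM)
      (by rw [hDM]; rw [tot_eq P Q] at hD; linarith)
      (l.map fun b => if hb : Moved G b then cls ⟨b, hb⟩ else σ) (by simpa using hl)
    obtain ⟨h, hh, rfl⟩ := exists_eq_subtype hQM R'
    refine ⟨h • Q, fun b hb => ?_⟩
    rcases List.mem_cons.mp hb with rfl | hb
    · exact pFix_of_le (Sylow.smul_le hQM ⟨h, hh⟩)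
    by_cases hbm : Moved G b
    · have := hR' (cls ⟨b, hbm⟩) (List.mem_map.mpr ⟨b, hb, by simp [hbm]⟩)
      rw [pFix_subtype] at this
      exact (pFix_cls _ ⟨b, hbm⟩ (hpos b hbm)).mp this
    · intro g _
      by_contra hne
      exact hbm ⟨g, hne⟩

/-- The main bound. -/
theorem bnd (N : ℕ) : Bnd.{u} p N := by
  induction N with
  | zero => intro G _ _ X _ _ _ _ h; exact absurd h (Nat.not_lt_zero _)
  | succ N hB =>
    intro G _ _ X _ _ _ hgen hN P
    by_cases hlt : Nat.card X < N
    · exact hB G X hgen hlt P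
    have hcard : Nat.card X = N := by omega
    have hp2 : (2 : ℤ) ≤ p := by exact_mod_cast (Fact.out : p.Prime).two_le
    by_cases hall : ∀ a : X, Moved G a
    swap
    · push Not at hall
      obtain ⟨a, ha⟩ := hall
      refine Finset.sum_nonneg fun b _ => ?_
      have hb : ¬ Moved G b := by
        obtain ⟨g, rfl⟩ := MulAction.exists_smul_eq G a b
        rwa [moved_smul]
      simp [wt, hb]
    by_cases hf : ∃ c : X, PFix p P c
    swap
    · push Not at hf
      refine Finset.sum_nonneg fun b _ => ?_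
      simp [wt, hall b, hf b]
      omega
    obtain ⟨c₀, hc₀⟩ := hf
    have hpos : ∀ a : X, Moved G a → ∃ R : Sylow p G, PFix p R a := by
      intro a _
      obtain ⟨g, rfl⟩ := MulAction.exists_smul_eq G c₀ a
      exact ⟨g • P, (pFix_smul g c₀).mpr hc₀⟩
    haveI := Fintype.ofFinite (Cls p G X)
    by_cases hinj : Function.Injective (cls : {a : X // Moved G a} → Cls p G X)
    swap
    · rw [tot_pullback hgen P hpos]
      have hlt' : Nat.card (Cls p G X) < N := by
        have h1 : Fintype.card (Cls p G X) < Fintype.card {a : X // Moved G a} := by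
          rcases lt_or_eq_of_le (Fintype.card_le_of_surjective _ (cls_surjective (p := p) (G := G) (X := X)))
            with h | h
          · exact h
          · exact absurd ((Fintype.bijective_iff_surjective_and_card _).mpr
              ⟨cls_surjective, h.symm⟩).1 hinj
        have h2 := Fintype.card_subtype_le (fun a : X => Moved G a)
        rw [Nat.card_eq_fintype_card] at hcard ⊢
        omega
      exact weighted hB hgen (fun b => lt_of_le_of_lt (card_orbit_le b) hlt') _
        (fun s => Int.natCast_nonneg _) (fun g s => by simp only [card_fibre_smul]) P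
    -- the reduced case
    by_contra hneg
    push Not at hneg
    obtain ⟨g, hgp, hgc⟩ := exists_pEl_moves hgen (hall c₀)
    obtain ⟨k₀, hk₀⟩ := hgp
    have hex : ∃ k : ℕ, g ^ (p ^ k) • c₀ = c₀ :=
      ⟨k₀, by rw [← hk₀, pow_orderOf_eq_one, one_smul]⟩
    have hk1 : Nat.find hex ≠ 0 := by
      intro h0
      have := Nat.find_spec hex
      rw [h0, pow_zero, pow_one] at this
      exact hgc this
    obtain ⟨k, hk⟩ := Nat.exists_eq_succ_of_ne_zero hk1
    set x := g ^ (p ^ k) with hx
    set c := c₀ with hcdef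
    have hxc : x • c ≠ c := Nat.find_min hex (by omega)
    have hxp : x ^ p • c = c := by
      have := Nat.find_spec hex
      rw [hk] at this
      rwa [hx, ← pow_mul, ← pow_succ]
    have hxP : IsPEl p x := by
      obtain ⟨i, -, hi⟩ := (Nat.dvd_prime_pow (Fact.out : p.Prime)).mp (hk₀ ▸ orderOf_pow_dvd (p ^ k))
      exact ⟨i, hi⟩
    set K := qFix p G c with hK
    have hPK : (P : Subgroup G) ≤ K := le_qFix hc₀
    let Y : SubMulAction K X :=
      { carrier := {a | a ≠ c}
        smul_mem' := fun h a (ha : a ≠ c) hEq => ha (by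
          have h' : (h : G) • c = c := qFix_le_stab c h.2
          exact MulAction.injective (h : G) ((show (h : G) • a = c from hEq).trans h'.symm)) }
    haveI := Fintype.ofFinite Y
    have hfixc : ∀ a : X, (∀ h ∈ K, h • a = a) → a = c := by
      intro a ha
      have hle : K ≤ qFix p G a := by
        rw [hK, qFix, Subgroup.closure_le]
        exact fun h hh => mem_qFix hh.1 (ha h (Subgroup.subset_closure hh))
      obtain ⟨y, hy⟩ := MulAction.exists_smul_eq G c a
      have hle' : Nat.card (qFix p G a) ≤ Nat.card K := by rw [← hy, card_qFix_smul]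
      have := Subgroup.eq_of_le_of_card_ge hle hle'
      exact congrArg Subtype.val (hinj (a₁ := ⟨a, hall a⟩) (a₂ := ⟨c, hall c⟩) (Subtype.ext this.symm))
    have hw : ∀ y : Y, wt p (P.subtype hPK) y = wt p P y.1 := by
      intro y
      have h1 : Moved K y := by
        by_contra hcon
        refine y.2 (hfixc y.1 fun h hh => ?_)
        by_contra hne
        exact hcon ⟨⟨h, hh⟩, fun e => hne (congrArg Subtype.val e)⟩
      have h2 : PFix p (P.subtype hPK) y ↔ PFix p P y.1 := by
        rw [← pFix_subtype hPK y.1]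
        exact ⟨fun h k hk => congrArg Subtype.val (h k hk), fun h k hk => Subtype.ext (h k hk)⟩
      simp only [wt, h1, hall y.1, h2, if_true]
    have htot : tot p Y (P.subtype hPK) = tot p X P + p := by
      rw [tot, Finset.sum_congr rfl fun y _ => hw y, tot,
        ← Finset.add_sum_erase _ _ (Finset.mem_univ c)]
      rw [← Finset.sum_subtype (Finset.univ.erase c) (fun a => by
        simp only [Finset.mem_erase, Finset.mem_univ, and_true]; rfl) (fun a => wt p P a)]
      simp [wt, hall c, hc₀]
    have hYlt : Nat.card Y < N := by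
      rw [← hcard]
      exact Finite.card_subtype_lt (x := c) (fun (h : c ≠ c) => h rfl)
    have hle0 : tot p X P + p ≤ 0 := by
      obtain ⟨t, ht⟩ := dvd_tot (X := X) P
      rw [ht] at hneg ⊢
      have : t ≤ -1 := by nlinarith
      nlinarith
    -- the cycle of `c`
    have hne : ∀ i : ℕ, i + 1 < p → x ^ (i + 1) • c ≠ c := by
      intro i hi hcon
      have hcop : (i + 1).Coprime p :=
        ((Nat.coprime_comm).mp ((Fact.out : p.Prime).coprime_iff_not_dvd.mpr fun hd => by
          have := Nat.le_of_dvd (by omega) hd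
          omega))
      have h1 : x ^ Nat.gcd (i + 1) p ∈ MulAction.stabilizer G c := by
        have e : (x ^ Nat.gcd (i + 1) p : G) = x ^ ((Nat.gcd (i + 1) p : ℕ) : ℤ) := by
          rw [zpow_natCast]
        rw [e, Nat.gcd_eq_gcd_ab, zpow_add, zpow_mul, zpow_mul, zpow_natCast, zpow_natCast]
        exact Subgroup.mul_mem _ (Subgroup.zpow_mem _ hcon _) (Subgroup.zpow_mem _ hxp _)
      rw [hcop.gcd_eq_one, pow_one] at h1
      exact hxc h1
    have hne' : ∀ i : {i // i ∈ List.range (p - 1)}, x ^ (i.1 + 1) • c ∈ Y := fun i =>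
      hne i.1 (by have := List.mem_range.mp i.2; omega)
    let L : List Y := (List.range (p - 1)).attach.map fun i => ⟨x ^ (i.1 + 1) • c, hne' i⟩
    obtain ⟨R', hR'⟩ := chain hB (p - 1) K Y (genP_qFix c) hYlt (P.subtype hPK)
      (by rw [htot, Nat.cast_sub (Fact.out : p.Prime).one_le]; push_cast; linarith)
      L (by simp [L])
    obtain ⟨h, hh, rfl⟩ := exists_eq_subtype hPK R'
    set R := h • P with hRdef
    have hRc : PFix p R c := pFix_of_le (Sylow.smul_le hPK ⟨h, hh⟩)
    have hRi : ∀ i : ℕ, PFix p R (x ^ i • c) := by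
      intro i
      have hred : x ^ i • c = x ^ (i % p) • c := by
        conv_lhs => rw [← Nat.mod_add_div i p, pow_add, mul_smul]
        have hj : ∀ j : ℕ, x ^ (p * j) • c = c := by
          intro j
          induction j with
          | zero => simp
          | succ j ihj => rw [Nat.mul_succ, pow_add, mul_smul, hxp, ihj]
        rw [hj]
      rw [hred]
      have hlt : i % p < p := Nat.mod_lt _ (Fact.out : p.Prime).pos
      rcases Nat.eq_zero_or_pos (i % p) with h0 | h0
      · rw [h0, pow_zero, one_smul]; exact hRc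
      obtain ⟨i', hi'⟩ := Nat.exists_eq_succ_of_ne_zero h0.ne'
      have hm := hR' ⟨x ^ (i' + 1) • c, hne i' (by omega)⟩
        (List.mem_map.mpr ⟨⟨i', List.mem_range.mpr (by omega)⟩, List.mem_attach _ _, rfl⟩)
      intro g hg
      have hg' := hm ⟨g, Sylow.smul_le hPK ⟨h, hh⟩ hg⟩
        (by rw [Sylow.coe_subtype]; exact Subgroup.mem_subgroupOf.mpr hg)
      rw [hi']
      exact congrArg Subtype.val hg'
    set E := Subgroup.closure {g : G | IsPEl p g ∧ ∀ i : ℕ, g • x ^ i • c = x ^ i • c} with hE
    have hRE : (R : Subgroup G) ≤ E :=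
      fun g hg => Subgroup.subset_closure ⟨isPEl_of_mem hg, fun i => hRi i g hg⟩
    have hEn : E.map (MulAut.conj x).toMonoidHom = E := by
      refine Subgroup.eq_of_le_of_card_ge ?_
        (Subgroup.card_map_of_injective (MulAut.conj x).injective).ge
      rw [hE, MonoidHom.map_closure, Subgroup.closure_le]
      rintro _ ⟨g, ⟨hg, hgi⟩, rfl⟩
      refine Subgroup.subset_closure ⟨isPEl_conj x hg, fun i => ?_⟩
      simp only [MulEquiv.coe_toMonoidHom, MulAut.conj_apply]
      have hback : x⁻¹ • x ^ i • c = x ^ (i + (p - 1)) • c := by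
        rw [inv_smul_eq_iff, ← mul_smul, ← pow_succ',
          show i + (p - 1) + 1 = i + p by have := (Fact.out : p.Prime).one_le; omega, pow_add,
          mul_smul, hxp]
      rw [mul_smul, mul_smul, hback, hgi, ← mul_smul, ← pow_succ',
        show i + (p - 1) + 1 = i + p by have := (Fact.out : p.Prime).one_le; omega, pow_add,
        mul_smul, hxp]
    have hxE : x ∈ E := mem_of_normalizes hRE hxP hEn
    have hEst : E ≤ MulAction.stabilizer G c := by
      rw [hE, Subgroup.closure_le]
      intro g hg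
      simpa using hg.2 0
    exact hxc (hEst hxE)

end Cfsg.Agent.H47.SylFix
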