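import Cfsg.Agent.H47.SquareBound

/-!
Transvections over the field with two elements in a solvable group with trivial 2-core: every conjugation
invariant set of transvections generates a direct product of copies of the symmetric group of degree three.
-/

set_option autoImplicit false
set_option linter.style.haveILetI false
set_option linter.unusedSectionVars false
set_option maxHeartbeats 1000000

namespace Cfsg.Agent.H47.TV

open Subgroup
open SB (apply_mul inv_apply apply_inv)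

universe u v

variable {G : Type u} [Group G] {V : Type v} [CommGroup V] (φ : G →* MulAut V)

/-- The displacement map. -/
def psi (g : G) : V →* V where
  toFun x := φ g x * x⁻¹
  map_one' := by simp
  map_mul' a b := by rw [map_mul, mul_inv]; exact mul_mul_mul_comm _ _ _ _

/-- The displacements of `g`. -/
def dsp (g : G) : Subgroup V := (psi φ g).range

theorem disp_mem (g : G) (x : V) : φ g x * x⁻¹ ∈ dsp φ g := ⟨x, rfl⟩

theorem apply_eq (g : G) (x : V) : φ g x = (φ g x * x⁻¹) * x := by rw [inv_mul_cancel_right]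

theorem apply_mem_of_dsp_le {g : G} {D : Subgroup V} (h : dsp φ g ≤ D) {x : V} (hx : x ∈ D) :
    φ g x ∈ D := by
  rw [apply_eq φ g x]; exact mul_mem (h (disp_mem φ g x)) hx

theorem dsp_mul (g h : G) : dsp φ (g * h) ≤ dsp φ g ⊔ dsp φ h := by
  rintro _ ⟨x, rfl⟩
  show φ (g * h) x * x⁻¹ ∈ _
  rw [apply_mul, show φ g (φ h x) * x⁻¹ = (φ g (φ h x) * (φ h x)⁻¹) * (φ h x * x⁻¹) by
    rw [mul_assoc, inv_mul_cancel_left]]
  exact mul_mem_sup (disp_mem φ g _) (disp_mem φ h x)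

theorem dsp_inv (g : G) : dsp φ g⁻¹ = dsp φ g := by
  suffices key : ∀ k : G, dsp φ k⁻¹ ≤ dsp φ k by
    exact le_antisymm (key g) (by simpa using key g⁻¹)
  intro k
  rintro _ ⟨x, rfl⟩
  show φ k⁻¹ x * x⁻¹ ∈ _
  have h := inv_mem (disp_mem φ k (φ k⁻¹ x))
  rwa [apply_inv, mul_inv, inv_inv, mul_comm] at h

theorem dsp_conj (g h : G) : dsp φ (g * h * g⁻¹) = (dsp φ h).map (φ g).toMonoidHom := by
  ext y
  constructor
  · rintro ⟨x, rfl⟩
    refine ⟨φ h (φ g⁻¹ x) * (φ g⁻¹ x)⁻¹, disp_mem φ h _, ?_⟩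
    show φ g _ = φ (g * h * g⁻¹) x * x⁻¹
    rw [map_mul (φ g), map_inv (φ g), apply_inv, apply_mul, apply_mul]
  · rintro ⟨_, ⟨x, rfl⟩, rfl⟩
    refine ⟨φ g x, ?_⟩
    show φ (g * h * g⁻¹) (φ g x) * (φ g x)⁻¹ = φ g (φ h x * x⁻¹)
    rw [apply_mul, apply_mul, inv_apply, map_mul (φ g), map_inv (φ g)]

/-- The elements with displacements in `D`. -/
def dspLe (D : Subgroup V) : Subgroup G where
  carrier := {g | dsp φ g ≤ D}
  one_mem' := by
    rintro _ ⟨x, rfl⟩
    show φ 1 x * x⁻¹ ∈ D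
    rw [map_one]
    simp
  mul_mem' := fun ha hb => (dsp_mul φ _ _).trans (sup_le ha hb)
  inv_mem' := fun {g} hg => (dsp_inv φ g).le.trans hg

/-- A transvection. -/
def IsTV (t : G) : Prop := t * t = 1 ∧ Nat.card (dsp φ t) = 2

/-- An element of order three of the Fitting subgroup moving a four-group. -/
def IsRot (f : G) : Prop := f ∈ Cfsg.fittingSubgroup G ∧ f ^ 3 = 1 ∧ Nat.card (dsp φ f) = 4

variable {φ}

theorem IsTV.conj {t : G} (ht : IsTV φ t) (g : G) : IsTV φ (g * t * g⁻¹) :=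
  ⟨by rw [show g * t * g⁻¹ * (g * t * g⁻¹) = g * (t * t) * g⁻¹ by group, ht.1]; group,
    by rw [dsp_conj, card_map_of_injective (φ g).injective, ht.2]⟩

theorem IsRot.conj {f : G} (hf : IsRot φ f) (g : G) : IsRot φ (g * f * g⁻¹) := by
  haveI : (Cfsg.fittingSubgroup G).Normal := inferInstance
  exact ⟨Normal.conj_mem inferInstance f hf.1 g, by rw [conj_pow, hf.2.1]; group,
    by rw [dsp_conj, card_map_of_injective (φ g).injective, hf.2.2]⟩

theorem eq_one_of_fix_dsp (hinj : Function.Injective φ) (hV : ∀ x : V, x * x = 1) {g : G} {n : ℕ}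
    (hn : Odd n) (hg : g ^ n = 1) (h : ∀ d ∈ dsp φ g, φ g d = d) : g = 1 := by
  refine hinj (MulEquiv.ext fun x => ?_)
  rw [map_one]
  show φ g x = x
  exact mul_inv_eq_one.mp (SB.pow_apply_eq_one φ hV hn hg (x := x) (c := φ g x * x⁻¹)
    (by rw [mul_comm x, inv_mul_cancel_right]) (h _ (disp_mem φ g x)))

theorem IsRot.fpf (hV : ∀ x : V, x * x = 1) {f : G} (hf : IsRot φ f) {d : V} (hd : d ∈ dsp φ f)
    (h : φ f d = d) : d = 1 := by
  obtain ⟨x, rfl⟩ := hd
  exact SB.pow_apply_eq_one φ hV (by decide : Odd 3) hf.2.1 (x := x) (c := φ f x * x⁻¹)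
    (by rw [mul_comm x, inv_mul_cancel_right]) h

theorem IsRot.apply_mem {f : G} {x : V} (hx : x ∈ dsp φ f) : φ f x ∈ dsp φ f :=
  apply_mem_of_dsp_le φ le_rfl hx

theorem apply_three {f : G} (hf : f ^ 3 = 1) (x : V) : φ f (φ f (φ f x)) = x := by
  rw [← apply_mul, ← apply_mul, show f * f * f = f ^ 3 by rw [pow_succ, pow_two], hf, map_one]
  rfl

variable [Finite V]

/-- The four-group moved by a rotation consists of the orbit of any of its nontrivial elements. -/
theorem IsRot.cases (hV : ∀ x : V, x * x = 1) {f : G} (hf : IsRot φ f) {a : V} (ha : a ∈ dsp φ f)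
    (ha1 : a ≠ 1) {x : V} (hx : x ∈ dsp φ f) (hx1 : x ≠ 1) :
    x = a ∨ x = φ f a ∨ x = φ f (φ f a) := by
  classical
  have h1 : φ f a ≠ a := fun h => ha1 (hf.fpf hV ha h)
  have h2 : φ f (φ f a) ≠ a := fun h => h1
    ((congrArg (φ f) h).symm.trans (apply_three hf.2.1 a))
  have h3 : φ f (φ f a) ≠ φ f a := fun h => h1 ((φ f).injective h)
  have hne : ∀ y, y ≠ 1 → φ f y ≠ 1 := fun y hy h => hy ((φ f).map_eq_one_iff.mp h)
  by_contra hcon
  push Not at hcon
  haveI := Fintype.ofFinite (dsp φ f)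
  have hsub : ({⟨1, one_mem _⟩, ⟨a, ha⟩, ⟨φ f a, IsRot.apply_mem ha⟩,
      ⟨φ f (φ f a), IsRot.apply_mem (IsRot.apply_mem ha)⟩, ⟨x, hx⟩} : Finset (dsp φ f)).card = 5 := by
    simp [Finset.card_insert_of_notMem, Subtype.ext_iff, Ne.symm ha1, Ne.symm (hne a ha1),
      Ne.symm (hne _ (hne a ha1)), Ne.symm hx1, Ne.symm h1, Ne.symm h2, Ne.symm h3, Ne.symm hcon.1,
      Ne.symm hcon.2.1, Ne.symm hcon.2.2]
  have := Finset.card_le_univ ({⟨1, one_mem _⟩, ⟨a, ha⟩, ⟨φ f a, IsRot.apply_mem ha⟩,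
      ⟨φ f (φ f a), IsRot.apply_mem (IsRot.apply_mem ha)⟩, ⟨x, hx⟩} : Finset (dsp φ f))
  rw [hsub, ← Nat.card_eq_fintype_card, hf.2.2] at this
  omega

theorem card_sup_le (A B : Subgroup V) : Nat.card ↥(A ⊔ B) ≤ Nat.card A * Nat.card B := by
  have h : Nat.card A * A.relIndex (A ⊔ B) = Nat.card ↥(A ⊔ B) := by
    rw [← relIndex_bot_left, ← relIndex_bot_left]
    exact relIndex_mul_relIndex _ _ _ bot_le le_sup_left
  rw [← h, sup_comm, relIndex_sup_right]
  exact Nat.mul_le_mul_left _ (Nat.le_of_dvd Nat.card_pos (index_dvd_card _))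

theorem card_sup_dvd (A B : Subgroup V) : Nat.card ↥(A ⊔ B) ∣ Nat.card A * Nat.card B := by
  have h : Nat.card A * A.relIndex (A ⊔ B) = Nat.card ↥(A ⊔ B) := by
    rw [← relIndex_bot_left, ← relIndex_bot_left]
    exact relIndex_mul_relIndex _ _ _ bot_le le_sup_left
  rw [← h, sup_comm, relIndex_sup_right]
  exact Nat.mul_dvd_mul_left _ (index_dvd_card _)

variable [Finite G]

/-- A 3-group generated by two rotations preserves both four-groups. -/
theorem IsRot.preserves (hV : ∀ x : V, x * x = 1) {f g : G} (hf : IsRot φ f) (hg : IsRot φ g) {a : V}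
    (ha : a ∈ dsp φ f) : φ g a ∈ dsp φ f := by
  classical
  rcases eq_or_ne a 1 with rfl | ha1
  · rw [map_one]; exact one_mem _
  haveI : Fact (Nat.Prime 3) := ⟨Nat.prime_three⟩
  set P := closure ({f, g} : Set G) with hP
  have h3 : ∀ k, IsRot φ k → k ∈ Cfsg.pCore 3 G := fun k hk => by
    have hz : IsPGroup 3 (zpowers k) := by
      rintro ⟨_, m, rfl⟩
      refine ⟨1, Subtype.ext ?_⟩
      show (k ^ m) ^ 3 ^ 1 = 1
      rw [pow_one, ← zpow_natCast, ← zpow_mul, mul_comm, zpow_mul, zpow_natCast, hk.2.1, one_zpow]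
    exact Components.le_pCore_of_le_fitting hz (zpowers_le.mpr hk.1) (mem_zpowers k)
  have hPp : IsPGroup 3 P := IsPGroup.to_le Cores.pCore_isPGroup ((closure_le _).mpr (by
    rintro k (rfl | rfl)
    exacts [h3 _ hf, h3 _ hg]))
  have hfP : f ∈ P := subset_closure (Set.mem_insert _ _)
  have hgP : g ∈ P := subset_closure (Set.mem_insert_of_mem _ rfl)
  set U := dsp φ f with hU
  set R := U ⊔ dsp φ g with hR
  have hPR : ∀ p ∈ P, ∀ x ∈ R, φ p x ∈ R := by
    have : P ≤ dspLe φ R := (closure_le _).mpr (by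
      rintro k (rfl | rfl)
      exacts [(le_sup_left : U ≤ R), (le_sup_right : dsp φ _ ≤ R)])
    exact fun p hp x hx => apply_mem_of_dsp_le φ (this hp) hx
  let _ : MulAction P V :=
    { smul := fun p x => φ (p : G) x
      one_smul := fun x => by show φ ((1 : P) : G) x = x; rw [Subgroup.coe_one, map_one]; rfl
      mul_smul := fun p q x => by show φ ((p * q : P) : G) x = _; exact apply_mul φ _ _ _ }
  let O : V → Set V := fun x => MulAction.orbit P x
  have hO : ∀ x, ∀ p ∈ P, φ p x ∈ O x := fun x p hp => ⟨⟨p, hp⟩, rfl⟩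
  have hOR : ∀ x ∈ R, O x ⊆ R := by rintro x hx _ ⟨p, rfl⟩; exact hPR p p.2 x hx
  have hOpow : ∀ x, ∃ n : ℕ, (O x).ncard = 3 ^ n := fun x => by
    obtain ⟨n, hn⟩ := hPp.card_orbit x
    exact ⟨n, by rw [← Nat.card_coe_set_eq]; exact hn⟩
  have hO1 : ∀ x, x ≠ 1 → (1 : V) ∉ O x := by
    rintro x hx ⟨p, hp⟩
    exact hx ((φ (p : G)).map_eq_one_iff.mp hp)
  have htriple : ∀ x, φ f x ≠ x → ({x, φ f x, φ f (φ f x)} : Set V).ncard = 3 ∧
      ({x, φ f x, φ f (φ f x)} : Set V) ⊆ O x := by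
    intro x hx
    have h2 : φ f (φ f x) ≠ x := fun h => hx
      ((congrArg (φ f) h).symm.trans (apply_three hf.2.1 x))
    have h3' : φ f (φ f x) ≠ φ f x := fun h => hx ((φ f).injective h)
    refine ⟨Set.ncard_eq_three.mpr ⟨_, _, _, Ne.symm hx, Ne.symm h2, Ne.symm h3', rfl⟩, ?_⟩
    rintro y (rfl | rfl | rfl)
    · exact MulAction.mem_orbit_self _
    · exact hO x f hfP
    · rw [← apply_mul]; exact hO x _ (mul_mem hfP hfP)
  have hsmall : ∀ x, φ f x ≠ x → (O x).ncard < 9 → O x = {x, φ f x, φ f (φ f x)} := by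
    intro x hx hlt
    obtain ⟨hc, hsub⟩ := htriple x hx
    obtain ⟨n, hn⟩ := hOpow x
    refine (Set.eq_of_subset_of_ncard_le hsub ?_ (Set.toFinite _)).symm
    rw [hn] at hlt ⊢
    rw [hc]
    have : n ≤ 1 := by
      by_contra h
      have : 3 ^ 2 ≤ 3 ^ n := Nat.pow_le_pow_right (by norm_num) (by omega)
      omega
    calc 3 ^ n ≤ 3 ^ 1 := Nat.pow_le_pow_right (by norm_num) this
      _ = 3 := rfl
  have hfa : φ f a ≠ a := fun h => ha1 (hf.fpf hV ha h)
  rcases Nat.lt_or_ge (O a).ncard 9 with hlt | hge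
  · have h : φ g a ∈ ({a, φ f a, φ f (φ f a)} : Set V) := hsmall a hfa hlt ▸ hO a g hgP
    rcases h with h | h | h <;> rw [h]
    exacts [ha, IsRot.apply_mem ha, IsRot.apply_mem (IsRot.apply_mem ha)]
  -- a large orbit leaves an element moved by `f` in a small one
  have haR : a ∈ R := mem_sup_left ha
  have hR16 : Nat.card R ≤ 16 := by
    refine (card_sup_le _ _).trans ?_
    rw [hf.2.2, hg.2.2]
  have hRd : Nat.card R ∣ 2 ^ 4 := by
    refine (card_sup_dvd _ _).trans ?_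
    rw [hf.2.2, hg.2.2]; norm_num
  have hsub1 : O a ⊆ (R : Set V) \ {1} := fun y hy => ⟨hOR a haR hy, fun h => hO1 a ha1 (h ▸ hy)⟩
  have hRcard : (R : Set V).ncard = Nat.card R := (Nat.card_coe_set_eq _).symm
  have hR10 : 10 ≤ Nat.card R := by
    have := Set.ncard_le_ncard hsub1 (Set.toFinite _)
    rw [Set.ncard_diff (by simp), Set.ncard_singleton, hRcard] at this
    omega
  have hR : Nat.card R = 16 := by
    obtain ⟨i, hi, hi'⟩ := (Nat.dvd_prime_pow Nat.prime_two).mp hRd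
    rw [hi'] at hR10 ⊢
    interval_cases i <;> simp_all
  set Fx := (psi φ f).ker ⊓ R with hFx
  have hdis : U ⊓ Fx = ⊥ := by
    rw [eq_bot_iff]
    rintro x ⟨hxU, hxF, -⟩
    exact mem_bot.mpr (hf.fpf hV hxU (mul_inv_eq_one.mp hxF))
  have hFx4 : Nat.card Fx ≤ 4 := by
    have h1 : Nat.card U * U.relIndex (U ⊔ Fx) = Nat.card ↥(U ⊔ Fx) := by
      rw [← relIndex_bot_left, ← relIndex_bot_left]
      exact relIndex_mul_relIndex _ _ _ bot_le le_sup_left
    have h2 : U.relIndex (U ⊔ Fx) = Nat.card Fx := by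
      rw [sup_comm, relIndex_sup_right, ← inf_relIndex_right, hdis, relIndex_bot_left]
    have h3' : Nat.card ↥(U ⊔ Fx) ≤ Nat.card R := card_le_of_le (sup_le le_sup_left inf_le_right)
    rw [h2, hf.2.2] at h1
    omega
  obtain ⟨b, hbR, hbO, hbF⟩ : ∃ b ∈ R, b ∉ O a ∧ b ∉ Fx := by
    by_contra hcon
    push Not at hcon
    have hsub : (R : Set V) ⊆ O a ∪ (Fx : Set V) := fun x hx => or_iff_not_imp_left.mpr (hcon x hx)
    have h1 := (Set.ncard_le_ncard hsub (Set.toFinite _)).trans (Set.ncard_union_le _ _)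
    obtain ⟨n, hn⟩ := hOpow a
    have h9 : (O a).ncard = 9 := by
      have h15 := Set.ncard_le_ncard hsub1 (Set.toFinite _)
      rw [Set.ncard_diff (by simp), Set.ncard_singleton, hRcard, hR] at h15
      rcases Nat.lt_or_ge n 3 with h | h
      · interval_cases n <;> omega
      · have : 3 ^ 3 ≤ 3 ^ n := Nat.pow_le_pow_right (by norm_num) h
        omega
    rw [hRcard, hR, h9, show ((Fx : Set V)).ncard = Nat.card Fx from (Nat.card_coe_set_eq _).symm] at h1
    omega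
  have hb1 : b ≠ 1 := fun h => hbF (h ▸ one_mem _)
  have hfb : φ f b ≠ b := fun h => hbF ⟨MonoidHom.mem_ker.mpr (mul_inv_eq_one.mpr h), hbR⟩
  have hb9 : (O b).ncard < 9 := by
    have hdj : Disjoint (O a) (O b) := by
      rw [Set.disjoint_left]
      intro y hya hyb
      exact hbO (MulAction.orbit_eq_iff.mp ((MulAction.orbit_eq_iff.mpr hyb).symm.trans
        (MulAction.orbit_eq_iff.mpr hya)))
    have h1 : (O a ∪ O b).ncard ≤ ((R : Set V) \ {1}).ncard := Set.ncard_le_ncard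
      (Set.union_subset hsub1 fun y hy => ⟨hOR b hbR hy, fun h => hO1 b hb1 (h ▸ hy)⟩) (Set.toFinite _)
    rw [Set.ncard_union_eq hdj, Set.ncard_diff (by simp), Set.ncard_singleton, hRcard, hR] at h1
    omega
  have hOb := hsmall b hfb hb9
  have hdiff : ∀ y ∈ O b, y * b⁻¹ ∈ U := by
    rw [hOb]
    rintro y (rfl | rfl | rfl)
    · rw [mul_inv_cancel]; exact one_mem _
    · exact disp_mem φ f b
    · rw [show φ f (φ f b) * b⁻¹ = (φ f (φ f b) * (φ f b)⁻¹) * (φ f b * b⁻¹) by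
        rw [mul_assoc, inv_mul_cancel_left]]
      exact mul_mem (disp_mem φ f _) (disp_mem φ f b)
  have hd1 : φ f b * b⁻¹ ≠ 1 := fun h => hfb (mul_inv_eq_one.mp h)
  have hmove : ∀ p ∈ P, φ p (φ f b * b⁻¹) ∈ U := fun p hp => by
    have h1 := hdiff _ (show φ (p * f) b ∈ O b from hO b _ (mul_mem hp hfP))
    have h2 := hdiff _ (hO b p hp)
    have := mul_mem h1 (inv_mem h2)
    rw [map_mul, map_inv, ← apply_mul]
    rwa [mul_inv, inv_inv, mul_comm ((φ p b)⁻¹) b, ← mul_assoc, inv_mul_cancel_right] at this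
  rcases hf.cases hV (disp_mem φ f b) hd1 ha ha1 with h | h | h <;> rw [h]
  · exact hmove g hgP
  · rw [← apply_mul]; exact hmove _ (mul_mem hgP hfP)
  · rw [← apply_mul, ← apply_mul]; exact hmove _ (mul_mem (mul_mem hgP hfP) hfP)

/-- Two rotations move the same four-group, or each fixes the other's. -/
theorem IsRot.dichotomy (hV : ∀ x : V, x * x = 1) {f g : G} (hf : IsRot φ f) (hg : IsRot φ g)
    (hne : dsp φ f ≠ dsp φ g) :
    dsp φ f ⊓ dsp φ g = ⊥ ∧ ∀ x ∈ dsp φ f, φ g x = x := by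
  have hinf : dsp φ f ⊓ dsp φ g = ⊥ := by
    rw [eq_bot_iff]
    rintro a ⟨haf, hag⟩
    by_contra ha
    have ha1 : a ≠ 1 := fun h => ha (mem_bot.mpr h)
    apply hne
    have h1 : φ g a ∈ dsp φ f := hf.preserves hV hg haf
    have h2 : φ g (φ g a) ∈ dsp φ f := hf.preserves hV hg h1
    refine (eq_of_le_of_card_ge (fun x hx => ?_) (le_of_eq (by rw [hf.2.2, hg.2.2]))).symm
    rcases eq_or_ne x 1 with rfl | hx1
    · exact one_mem _
    rcases hg.cases hV hag ha1 hx hx1 with rfl | rfl | rfl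
    exacts [haf, h1, h2]
  refine ⟨hinf, fun x hx => ?_⟩
  have : φ g x * x⁻¹ ∈ dsp φ f ⊓ dsp φ g :=
    mem_inf.mpr ⟨mul_mem (hf.preserves hV hg hx) (inv_mem hx), disp_mem φ g x⟩
  rw [hinf, mem_bot] at this
  exact mul_inv_eq_one.mp this

variable [hsol : Group.IsSolvable G]

/-- A transvection inverts a rotation. -/
theorem IsTV.exists_rot (hinj : Function.Injective φ) (hV : ∀ x : V, x * x = 1)
    (hO : Cfsg.pCore 2 G = ⊥) {t : G} (ht : IsTV φ t) :
    ∃ f, IsRot φ f ∧ t * f * t⁻¹ = f⁻¹ ∧ dsp φ t ≤ dsp φ f := by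
  have hFodd : Odd (Nat.card (Cfsg.fittingSubgroup G)) := SB.odd_card_fitting hO
  have hti : t⁻¹ = t := inv_eq_of_mul_eq_one_right ht.1
  have hFord : ∀ x ∈ Cfsg.fittingSubgroup G, x ^ Nat.card (Cfsg.fittingSubgroup G) = 1 := fun x hx =>
    congrArg Subtype.val (pow_card_eq_one' (x := (⟨x, hx⟩ : Cfsg.fittingSubgroup G)))
  have ht1 : t ≠ 1 := by
    rintro rfl
    have : dsp φ (1 : G) = ⊥ := by
      rw [eq_bot_iff]
      rintro _ ⟨x, rfl⟩
      exact mem_bot.mpr (by show φ 1 x * x⁻¹ = 1; rw [map_one]; simp)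
    have h2 := ht.2
    rw [this, card_bot] at h2
    omega
  obtain ⟨f₀, hf₀, hne⟩ : ∃ f₀ ∈ Cfsg.fittingSubgroup G, f₀ * t ≠ t * f₀ := by
    by_contra hcon
    push Not at hcon
    have htF : t ∈ Cfsg.fittingSubgroup G :=
      Cores.centralizer_fittingSubgroup_le (mem_centralizer_iff.mpr hcon)
    exact ht1 (orderOf_eq_one_iff.mp (Nat.eq_one_of_dvd_coprimes (Nat.coprime_two_left.mpr hFodd)
      (orderOf_dvd_of_pow_eq_one (by rw [pow_two, ht.1])) (orderOf_dvd_of_pow_eq_one (hFord t htF))))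
  set c := t * f₀ * t⁻¹ * f₀⁻¹ with hc
  have hcF : c ∈ Cfsg.fittingSubgroup G := mul_mem (Normal.conj_mem inferInstance _ hf₀ t) (inv_mem hf₀)
  have hc1 : c ≠ 1 := fun h => hne (by
    rw [hc, mul_inv_eq_one, mul_inv_eq_iff_eq_mul] at h
    exact h.symm)
  have hinv : t * c * t⁻¹ = c⁻¹ := by
    rw [hc]
    simp only [mul_inv_rev, inv_inv, hti, mul_assoc]
    rw [← mul_assoc t t, ht.1, one_mul]
  have hD : dsp φ c ≤ dsp φ t ⊔ dsp φ (f₀ * t * f₀⁻¹) := by
    rw [show c = t * (f₀ * t * f₀⁻¹) by rw [hc, hti]; group]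
    exact dsp_mul φ _ _
  have hDcard : Nat.card ↥(dsp φ t ⊔ dsp φ (f₀ * t * f₀⁻¹)) ≤ 4 := by
    refine (card_sup_le _ _).trans ?_
    rw [ht.2, (ht.conj f₀).2]
  have hodd : Odd (orderOf c) := hFodd.of_dvd_nat (orderOf_dvd_of_pow_eq_one (hFord c hcF))
  have h4 : Nat.card (dsp φ c) ≤ 4 := (card_le_of_le hD).trans hDcard
  obtain ⟨k, hk⟩ := hodd
  have hcpow : c ^ (2 * k + 1) = 1 := hk ▸ pow_orderOf_eq_one c
  have h3 : ∀ d ∈ dsp φ c, φ (c ^ 3) d = d := by
    intro d hd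
    rw [pow_succ, pow_two, apply_mul, apply_mul]
    rcases eq_or_ne d 1 with rfl | hd1
    · simp
    rcases eq_or_ne (φ c d) d with h | h
    · rw [h, h, h]
    have h2 : φ c (φ c d) ≠ d := by
      intro h'
      have h2k : ∀ j : ℕ, φ (c ^ (2 * j)) d = d := by
        intro j
        induction j with
        | zero => simp
        | succ j ih => rw [Nat.mul_succ, pow_add, apply_mul, pow_two, apply_mul, h', ih]
      exact h (by
        have := congrArg (fun g => φ g d) hcpow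
        rw [pow_succ', apply_mul, h2k, map_one] at this
        exact this)
    have hmem : ∀ y ∈ dsp φ c, φ c y ∈ dsp φ c := fun y hy => apply_mem_of_dsp_le φ le_rfl hy
    by_contra h3'
    classical
    haveI := Fintype.ofFinite (dsp φ c)
    have e1 : ∀ y, y ≠ 1 → φ c y ≠ 1 := fun y hy h => hy ((φ c).map_eq_one_iff.mp h)
    have e2 : φ c (φ c d) ≠ φ c d := fun e => h ((φ c).injective e)
    have e3 : φ c (φ c (φ c d)) ≠ φ c d := fun e => h2 ((φ c).injective e)
    have e4 : φ c (φ c (φ c d)) ≠ φ c (φ c d) := fun e => e2 ((φ c).injective e)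
    let s : Finset (dsp φ c) := {⟨1, one_mem _⟩, ⟨d, hd⟩, ⟨φ c d, hmem d hd⟩,
      ⟨φ c (φ c d), hmem _ (hmem d hd)⟩, ⟨φ c (φ c (φ c d)), hmem _ (hmem _ (hmem d hd))⟩}
    have hs : s.card = 5 := by
      simp [s, Finset.card_insert_of_notMem, Subtype.ext_iff, Ne.symm hd1, Ne.symm (e1 d hd1),
        Ne.symm (e1 _ (e1 d hd1)), Ne.symm (e1 _ (e1 _ (e1 d hd1))), Ne.symm h, Ne.symm h2, Ne.symm h3',
        Ne.symm e2, Ne.symm e3, Ne.symm e4]
    have := Finset.card_le_univ s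
    rw [hs, ← Nat.card_eq_fintype_card] at this
    omega
  have hc3 : c ^ 3 = 1 := eq_one_of_fix_dsp hinj hV (n := 2 * k + 1) ⟨k, rfl⟩
    (by rw [← pow_mul, mul_comm, pow_mul, hcpow, one_pow])
    fun d hd => h3 d (((dspLe φ (dsp φ c)).pow_mem (le_refl (dsp φ c) : c ∈ dspLe φ _) 3) hd)
  obtain ⟨d, hd, hd1⟩ : ∃ d ∈ dsp φ c, φ c d ≠ d := by
    by_contra hcon
    push Not at hcon
    exact hc1 (eq_one_of_fix_dsp hinj hV (by decide : Odd 3) hc3 hcon)
  have hge : 4 ≤ Nat.card (dsp φ c) := by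
    classical
    haveI := Fintype.ofFinite (dsp φ c)
    have h2 : φ c (φ c d) ≠ d := fun h => hd1
      ((congrArg (φ c) h).symm.trans (apply_three hc3 d))
    have h3' : φ c (φ c d) ≠ φ c d := fun h => hd1 ((φ c).injective h)
    have hd0 : d ≠ 1 := fun h => hd1 (by rw [h, map_one])
    have hne1 : ∀ y, y ≠ 1 → φ c y ≠ 1 := fun y hy h => hy ((φ c).map_eq_one_iff.mp h)
    have hmem : ∀ y ∈ dsp φ c, φ c y ∈ dsp φ c := fun y hy => apply_mem_of_dsp_le φ le_rfl hy
    let s : Finset (dsp φ c) := {⟨1, one_mem _⟩, ⟨d, hd⟩, ⟨φ c d, hmem d hd⟩,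
      ⟨φ c (φ c d), hmem _ (hmem d hd)⟩}
    have hs : s.card = 4 := by
      simp [s, Finset.card_insert_of_notMem, Subtype.ext_iff, Ne.symm hd0, Ne.symm (hne1 d hd0),
        Ne.symm (hne1 _ (hne1 d hd0)), Ne.symm hd1, Ne.symm h2, Ne.symm h3']
    have := Finset.card_le_univ s
    rw [hs, ← Nat.card_eq_fintype_card] at this
    exact this
  exact ⟨c, ⟨hcF, hc3, le_antisymm h4 hge⟩, hinv,
    le_sup_left.trans (eq_of_le_of_card_ge hD (hDcard.trans hge)).ge⟩

/-- A transvection moves points of its own rotation only. -/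
theorem IsTV.fix_other (hV : ∀ x : V, x * x = 1) {t f g : G} (ht : IsTV φ t) (hf : IsRot φ f)
    (htf : dsp φ t ≤ dsp φ f) (hg : IsRot φ g) (hne : dsp φ g ≠ dsp φ f) :
    ∀ x ∈ dsp φ g, φ t x = x := by
  have hinf := (hg.dichotomy hV hf hne).1
  -- the four-group of `g` is invariant
  have hinvU : dsp φ (t * g * t⁻¹) = dsp φ g := by
    by_contra hne'
    have hd := ((hg.conj t).dichotomy hV hg hne').1
    obtain ⟨a, hne1, ha⟩ := (Nat.card_eq_two_iff' (1 : dsp φ t)).mp ht.2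
    have hval : ∀ x, φ t x * x⁻¹ = 1 ∨ φ t x * x⁻¹ = (a : V) := by
      intro x
      rcases eq_or_ne (⟨φ t x * x⁻¹, disp_mem φ t x⟩ : dsp φ t) 1 with h | h
      · exact .inl (congrArg Subtype.val h)
      · exact .inr (congrArg Subtype.val (ha _ h))
    obtain ⟨y, hy, hy1⟩ : ∃ y ∈ dsp φ g, y ≠ 1 := by
      by_contra hcon
      push Not at hcon
      have : dsp φ g = ⊥ := eq_bot_iff.mpr fun y hy => mem_bot.mpr (hcon y hy)
      have h2 := hg.2.2
      rw [this, card_bot] at h2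
      omega
    have hfix : ∃ x ∈ dsp φ g, x ≠ 1 ∧ φ t x = x := by
      have hgy : φ g y ≠ y := fun h => hy1 (hg.fpf hV hy h)
      rcases hval y with h | h
      · exact ⟨y, hy, hy1, mul_inv_eq_one.mp h⟩
      rcases hval (φ g y) with h' | h'
      · exact ⟨φ g y, IsRot.apply_mem hy, fun e => hy1 ((φ g).map_eq_one_iff.mp e), mul_inv_eq_one.mp h'⟩
      · refine ⟨φ g y * y⁻¹, disp_mem φ g y, fun e => hgy (mul_inv_eq_one.mp e), ?_⟩
        have e1 := mul_inv_eq_iff_eq_mul.mp h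
        have e2 := mul_inv_eq_iff_eq_mul.mp h'
        rw [map_mul, map_inv, e1, e2, mul_inv, mul_mul_mul_comm, mul_inv_cancel, one_mul]
    obtain ⟨x, hx, hx1, hxt⟩ := hfix
    have : x ∈ dsp φ (t * g * t⁻¹) ⊓ dsp φ g := ⟨by rw [dsp_conj]; exact ⟨x, hx, hxt⟩, hx⟩
    rw [hd, mem_bot] at this
    exact hx1 this
  intro x hx
  have h1 : φ t x ∈ dsp φ g := by
    rw [← hinvU, dsp_conj]; exact ⟨x, hx, rfl⟩
  have h2 : φ t x * x⁻¹ ∈ dsp φ g ⊓ dsp φ f := mem_inf.mpr ⟨mul_mem h1 (inv_mem hx), htf (disp_mem φ t x)⟩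
  rw [hinf, mem_bot] at h2
  exact mul_inv_eq_one.mp h2

end Cfsg.Agent.H47.TV
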