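import Cfsg.Agent.H47.Offender

/-!
A conjugation invariant set of transvections in a solvable group with trivial 2-core generates a direct
product of copies of the symmetric group of degree three.
-/

set_option autoImplicit false
set_option linter.style.haveILetI false
set_option linter.unusedSectionVars false
set_option maxHeartbeats 1000000

namespace Cfsg.Agent.H47.TV

open Subgroup
open SB (apply_mul inv_apply apply_inv fixed mem_fixed fixed_anti)

universe u v

variable {G : Type u} [Group G] [Finite G] {V : Type v} [CommGroup V] [Finite V] {φ : G →* MulAut V}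

/-- Two distinct involutions generate the symmetric group of degree three. -/
theorem closure_pair_eq_top {a b : Equiv.Perm (Fin 3)} (ha : a * a = 1) (hb : b * b = 1) (ha1 : a ≠ 1)
    (hb1 : b ≠ 1) (hab : a ≠ b) : closure ({a, b} : Set (Equiv.Perm (Fin 3))) = ⊤ := by
  set S := closure ({a, b} : Set (Equiv.Perm (Fin 3))) with hS
  have hA : a ∈ S := subset_closure (Set.mem_insert _ _)
  have hB : b ∈ S := subset_closure (Set.mem_insert_of_mem _ rfl)
  classical
  haveI := Fintype.ofFinite S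
  have h1 : a * b ≠ 1 := fun h => hab (by rw [← inv_eq_of_mul_eq_one_right ha]; exact inv_eq_of_mul_eq_one_right h)
  have h2 : a * b ≠ a := fun h => hb1 (mul_eq_left.mp h)
  have h3 : a * b ≠ b := fun h => ha1 (mul_eq_right.mp h)
  have h6 : Nat.card (Equiv.Perm (Fin 3)) = 6 := by simp [Nat.card_eq_fintype_card, Fintype.card_perm]; rfl
  have h4 : 4 ≤ Nat.card S := by
    rw [Nat.card_eq_fintype_card]
    refine le_trans (le_of_eq ?_) (Finset.card_le_univ
      ({⟨1, one_mem _⟩, ⟨a, hA⟩, ⟨b, hB⟩, ⟨a * b, mul_mem hA hB⟩} : Finset S))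
    simp [Finset.card_insert_of_notMem, Subtype.ext_iff, Ne.symm ha1, Ne.symm hb1, hab, Ne.symm h1,
      Ne.symm h2, Ne.symm h3]
  refine eq_top_of_card_eq _ ?_
  have hd : Nat.card S ∣ 6 := h6 ▸ card_subgroup_dvd_card S
  have h7 := Nat.le_of_dvd (by norm_num) hd
  rw [h6]
  interval_cases (Nat.card S) <;> omega

variable [hsol : Group.IsSolvable G]

/-- **Transvections generate copies of `S₃`.** -/
theorem closure_equiv_pi (hinj : Function.Injective φ) (hV : ∀ x : V, x * x = 1)
    (hO : Cfsg.pCore 2 G = ⊥) (T : Set G) (hTne : T.Nonempty) (hT : ∀ t ∈ T, IsTV φ t)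
    (hTconj : ∀ t ∈ T, ∀ g : G, g * t * g⁻¹ ∈ T) :
    ∃ n : ℕ, 0 < n ∧ Nonempty (closure T ≃* (Fin n → Equiv.Perm (Fin 3))) := by
  classical
  haveI : Fact (Nat.Prime 2) := ⟨Nat.prime_two⟩
  let P : Subgroup V → G → G → Prop := fun U t f =>
    t ∈ T ∧ IsRot φ f ∧ t * f * t⁻¹ = f⁻¹ ∧ dsp φ t ≤ dsp φ f ∧ U = dsp φ f
  let I := {U : Subgroup V // ∃ t f, P U t f}
  have hex : ∀ t ∈ T, ∃ U : I, ∃ f, P U t f := fun t ht => by
    obtain ⟨f, hf, hinv, htf⟩ := (hT t ht).exists_rot hinj hV hO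
    exact ⟨⟨dsp φ f, t, f, ht, hf, hinv, htf, rfl⟩, f, ht, hf, hinv, htf, rfl⟩
  have hfix : ∀ t, ∀ U U' : I, ∀ f, P U t f → U' ≠ U → ∀ x ∈ (U' : Subgroup V), φ t x = x := by
    intro t U U' f hP hne x hx
    obtain ⟨ht, hf, -, htf, hU⟩ := hP
    obtain ⟨t', f', -, hf', -, -, hU'⟩ := U'.2
    exact (hT t ht).fix_other hV hf htf hf'
      (fun h => hne (Subtype.ext (hU'.trans (h.trans hU.symm)))) x (hU' ▸ hx)
  set Y := closure T with hY
  have hpres : ∀ U : I, ∀ t ∈ T, ∀ x ∈ (U : Subgroup V), φ t x ∈ (U : Subgroup V) := by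
    intro U t ht x hx
    obtain ⟨U₀, f, hP⟩ := hex t ht
    by_cases h : U = U₀
    · subst h
      exact apply_mem_of_dsp_le φ (hP.2.2.2.1.trans hP.2.2.2.2.ge) hx
    · rw [hfix t U₀ U f hP h x hx]; exact hx
  have hpresY : ∀ y : Y, ∀ U : I, ∀ x ∈ (U : Subgroup V), φ (y : G) x ∈ (U : Subgroup V) ∧
      φ (y : G)⁻¹ x ∈ (U : Subgroup V) := by
    rintro ⟨y, hy⟩ U
    induction hy using closure_induction with
    | mem t ht =>
      intro x hx
      refine ⟨hpres U t ht x hx, ?_⟩
      show φ t⁻¹ x ∈ (U : Subgroup V)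
      rw [inv_eq_of_mul_eq_one_right (hT t ht).1]
      exact hpres U t ht x hx
    | one => intro x hx; simpa using hx
    | mul a b _ _ iha ihb =>
      intro x hx
      show φ (a * b) x ∈ (U : Subgroup V) ∧ φ (a * b)⁻¹ x ∈ (U : Subgroup V)
      rw [mul_inv_rev, apply_mul, apply_mul]
      exact ⟨(iha _ (ihb x hx).1).1, (ihb _ (iha x hx).2).2⟩
    | inv a _ iha =>
      intro x hx
      show φ a⁻¹ x ∈ (U : Subgroup V) ∧ φ a⁻¹⁻¹ x ∈ (U : Subgroup V)
      rw [inv_inv]
      exact ⟨(iha x hx).2, (iha x hx).1⟩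
  -- the action on the nontrivial elements of each four-group
  let X : I → Type v := fun U => ↥(((U : Subgroup V) : Set V) \ {1})
  have hX : ∀ U, Nat.card (X U) = 3 := fun U => by
    obtain ⟨t', f', -, hf', -, -, hU'⟩ := U.2
    rw [Nat.card_coe_set_eq, Set.ncard_diff (by simp), Set.ncard_singleton, ← Nat.card_coe_set_eq]
    show Nat.card (U : Subgroup V) - 1 = 3
    rw [hU', hf'.2.2]
  let eq : ∀ U, X U ≃ Fin 3 := fun U => Finite.equivFinOfCardEq (hX U)
  let act : ∀ U : I, Y →* Equiv.Perm (X U) := fun U =>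
    { toFun := fun y =>
        { toFun := fun x => ⟨φ (y : G) x.1, (hpresY y U _ x.2.1).1, fun h => x.2.2
            ((φ (y : G)).map_eq_one_iff.mp h)⟩
          invFun := fun x => ⟨φ (y : G)⁻¹ x.1, (hpresY y U _ x.2.1).2, fun h => x.2.2
            ((φ (y : G)⁻¹).map_eq_one_iff.mp h)⟩
          left_inv := fun x => Subtype.ext (inv_apply φ _ _)
          right_inv := fun x => Subtype.ext (apply_inv φ _ _) }
      map_one' := Equiv.ext fun x => Subtype.ext (by
        show φ ((1 : Y) : G) x.1 = x.1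
        rw [Subgroup.coe_one, map_one]; rfl)
      map_mul' := fun y z => Equiv.ext fun x => Subtype.ext (apply_mul φ _ _ _) }
  obtain ⟨n, ⟨en⟩⟩ := Finite.exists_equiv_fin I
  let ρ : Y →* (Fin n → Equiv.Perm (Fin 3)) := MonoidHom.pi fun i =>
    (eq (en.symm i)).permCongrHom.toMonoidHom.comp (act (en.symm i))
  have hρ : ∀ (y : Y) (U : I), ρ y (en U) = 1 ↔ ∀ x ∈ (U : Subgroup V), φ (y : G) x = x := by
    intro y U
    have h0 : ρ y (en U) = (eq (en.symm (en U))).permCongrHom (act (en.symm (en U)) y) := rfl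
    rw [h0, MulEquiv.map_eq_one_iff]
    rw [Equiv.symm_apply_apply]
    constructor
    · intro h x hx
      rcases eq_or_ne x 1 with rfl | hx1
      · rw [map_one]
      exact congrArg Subtype.val (Equiv.ext_iff.mp h ⟨x, hx, hx1⟩)
    · intro h
      exact Equiv.ext fun x => Subtype.ext (h _ x.2.1)
  -- faithful
  have hker : Function.Injective ρ := by
    set D := ⨆ U : I, (U : Subgroup V) with hD
    have hYD : Y ≤ dspLe φ D := (closure_le _).mpr fun t ht => by
      obtain ⟨U₀, f, hP⟩ := hex t ht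
      exact hP.2.2.2.1.trans (hP.2.2.2.2.ge.trans (le_iSup (fun U : I => (U : Subgroup V)) U₀))
    have hDmap : ∀ g : G, ∀ x ∈ D, φ g x ∈ D := by
      intro g
      have h : D ≤ D.comap (φ g).toMonoidHom := iSup_le fun U x hx => by
        obtain ⟨t, f, ht, hf, hinv, htf, hU⟩ := U.2
        have hP : P (dsp φ (g * f * g⁻¹)) (g * t * g⁻¹) (g * f * g⁻¹) := by
          refine ⟨hTconj t ht g, hf.conj g, ?_, ?_, rfl⟩
          · rw [show g * t * g⁻¹ * (g * f * g⁻¹) * (g * t * g⁻¹)⁻¹ = g * (t * f * t⁻¹) * g⁻¹ by group,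
              hinv]
            group
          · rw [dsp_conj, dsp_conj]; exact map_mono htf
        refine le_iSup (fun U : I => (U : Subgroup V)) ⟨_, _, _, hP⟩ ?_
        show φ g x ∈ dsp φ (g * f * g⁻¹)
        rw [dsp_conj]
        exact ⟨x, hU ▸ hx, rfl⟩
      exact fun x hx => h hx
    set K := Y ⊓ fixer φ D with hK
    haveI : K.Normal := ⟨fun y hy g => mem_inf.mpr ⟨by
        have hn : Y.Normal := by
          refine normalizer_eq_top_iff.mp (eq_top_iff.mpr fun g _ => ?_)
          have key : ∀ g : G, ∀ z ∈ Y, g * z * g⁻¹ ∈ Y := fun g z hz => by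
            have : Y ≤ Y.comap (MulAut.conj g).toMonoidHom :=
              (closure_le _).mpr fun t ht => subset_closure (hTconj t ht g)
            exact this hz
          rw [mem_normalizer_iff]
          intro z
          refine ⟨key g z, fun h => ?_⟩
          have := key g⁻¹ _ h
          rwa [show g⁻¹ * (g * z * g⁻¹) * g⁻¹⁻¹ = z by group] at this
        exact hn.conj_mem y hy.1 g, fun x hx => by
        rw [apply_mul, apply_mul, hy.2 _ (hDmap g⁻¹ x hx), apply_inv]⟩⟩
    have hK2 : IsPGroup 2 K := by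
      rintro ⟨y, hyY, hyD⟩
      refine ⟨1, Subtype.ext ?_⟩
      show y ^ 2 ^ 1 = 1
      rw [pow_one, pow_two]
      refine hinj (MulEquiv.ext fun x => ?_)
      rw [map_one, apply_mul]
      show φ y (φ y x) = x
      have h := hyD _ (hYD hyY (disp_mem φ y x))
      rw [map_mul, map_inv, mul_inv_eq_iff_eq_mul] at h
      rw [h, mul_comm (φ y x), mul_assoc, hV, mul_one]
      exact inv_eq_of_mul_eq_one_right (hV x)
    have hKbot : K = ⊥ := eq_bot_iff.mpr ((Cores.le_pCore hK2).trans hO.le)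
    rw [injective_iff_map_eq_one]
    intro y hy
    refine Subtype.ext (mem_bot.mp (hKbot ▸ mem_inf.mpr ⟨y.2, ?_⟩ : (y : G) ∈ (⊥ : Subgroup G)))
    have : D ≤ (psi φ (y : G)).ker := iSup_le fun U x hx =>
      MonoidHom.mem_ker.mpr (mul_inv_eq_one.mpr ((hρ y U).mp (by rw [hy]; rfl) x hx))
    exact fun x hx => mul_inv_eq_one.mp (MonoidHom.mem_ker.mp (this hx))
  -- surjective
  have hsurj : Function.Surjective ρ := by
    rw [← MonoidHom.range_eq_top, eq_top_iff]
    intro p _
    refine pi_mem_of_mulSingle_mem p fun i => ?_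
    obtain ⟨U, rfl⟩ := en.surjective i
    obtain ⟨t, f, ht, hf, hinv, htf, hU⟩ := U.2
    have ht' : f * t * f⁻¹ ∈ T := hTconj t ht f
    have hP1 : P U t f := ⟨ht, hf, hinv, htf, hU⟩
    have hsingle : ∀ s (hs : s ∈ T), (∀ U' : I, U' ≠ U → ∀ x ∈ (U' : Subgroup V), φ s x = x) →
        ρ ⟨s, subset_closure hs⟩ = Pi.mulSingle (en U) (ρ ⟨s, subset_closure hs⟩ (en U)) := by
      intro s hs h
      funext j
      obtain ⟨U', rfl⟩ := en.surjective j
      by_cases he : U' = U
      · subst he; rw [Pi.mulSingle_eq_same]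
      · rw [Pi.mulSingle_eq_of_ne (fun e => he (en.injective e))]
        exact (hρ _ U').mpr (h U' he)
    have h1 := hsingle t ht fun U' he => hfix t U U' f hP1 he
    have h2 := hsingle _ ht' fun U' he x hx => by
      obtain ⟨t'', f'', -, hf'', -, -, hU''⟩ := U'.2
      refine (hT _ ht').fix_other hV hf (by rw [dsp_conj]; rintro _ ⟨z, hz, rfl⟩; exact IsRot.apply_mem (htf hz))
        hf'' (fun e => he (Subtype.ext (hU''.trans (e.trans hU.symm)))) x (hU'' ▸ hx)
    set a := ρ ⟨t, subset_closure ht⟩ (en U) with ha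
    set b := ρ ⟨_, subset_closure ht'⟩ (en U) with hb
    have hsq : ∀ s (hs : s ∈ T), ρ ⟨s, subset_closure hs⟩ (en U) * ρ ⟨s, subset_closure hs⟩ (en U) = 1 :=
      fun s hs => by
        rw [← Pi.mul_apply, ← map_mul, show (⟨s, subset_closure hs⟩ : Y) * ⟨s, subset_closure hs⟩ = 1 from
          Subtype.ext (hT s hs).1, map_one]
        rfl
    have hmovesU : ¬ ∀ x ∈ (U : Subgroup V), φ t x = x := fun h =>
      IsTV.moves hV hf hinv fun x hx => h x (hU ▸ hx)
    have ha1 : a ≠ 1 := fun h => hmovesU ((hρ _ U).mp h)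
    have hb1 : b ≠ 1 := fun h => hmovesU fun x hx => by
      have hx' : φ f x ∈ (U : Subgroup V) := by rw [hU] at hx ⊢; exact IsRot.apply_mem hx
      have := (hρ _ U).mp h _ hx'
      change φ (f * t * f⁻¹) (φ f x) = φ f x at this
      rw [apply_mul, apply_mul, inv_apply] at this
      exact (φ f).injective this
    have hab : a ≠ b := by
      intro h
      have h' : ρ (⟨t, subset_closure ht⟩ * ⟨_, subset_closure ht'⟩) (en U) = 1 := by
        rw [map_mul, Pi.mul_apply, ← ha, ← hb, ← h, hsq t ht]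
      obtain ⟨x, hx, hx1⟩ : ∃ x ∈ dsp φ f, x ≠ 1 := by
        by_contra hcon
        push Not at hcon
        have : dsp φ f = ⊥ := eq_bot_iff.mpr fun y hy => mem_bot.mpr (hcon y hy)
        have h2 := hf.2.2
        rw [this, card_bot] at h2
        omega
      have h3 := (hρ _ U).mp h' x (hU ▸ hx)
      change φ (t * (f * t * f⁻¹)) x = x at h3
      have e1 : t * f * t = f⁻¹ := by
        conv_lhs => rw [show t * f * t = t * f * t⁻¹ by rw [inv_eq_of_mul_eq_one_right (hT t ht).1]]
        exact hinv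
      rw [show t * (f * t * f⁻¹) = t * f * t * f⁻¹ by group, e1] at h3
      have h4 : f⁻¹ * f⁻¹ = f := by
        rw [← mul_inv_rev, inv_eq_of_mul_eq_one_right (by rw [← hf.2.1, pow_succ, pow_two])]
      rw [h4] at h3
      exact hx1 (hf.fpf hV hx h3)
    have hgen : (⊤ : Subgroup (Equiv.Perm (Fin 3))) ≤
        (ρ.range).comap (MonoidHom.mulSingle (fun _ : Fin n => Equiv.Perm (Fin 3)) (en U)) := by
      rw [← closure_pair_eq_top (hsq t ht) (hsq _ ht') ha1 hb1 hab, closure_le]
      rintro _ (rfl | rfl)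
      · exact ⟨⟨t, subset_closure ht⟩, h1⟩
      · exact ⟨⟨_, subset_closure ht'⟩, h2⟩
    exact hgen (mem_top (p (en U)))
  refine ⟨n, ?_, ⟨MulEquiv.ofBijective ρ ⟨hker, hsurj⟩⟩⟩
  obtain ⟨t, ht⟩ := hTne
  exact Fin.pos (en (hex t ht).choose)

end Cfsg.Agent.H47.TV
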